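import Cfsg.Agent.Lib.Aut.PSLCent
import Cfsg.Agent.Lib.Root.J1i
import Cfsg.Agent.Lib.Transfer.AbelianSylow
import Cfsg.Agent.Lib.Char.ZStar

/-! Automorphisms of prime power order centralising an abelian Sylow subgroup. -/

set_option autoImplicit false
set_option maxRecDepth 100000

namespace Cfsg.Agent.Lib.AG

open Subgroup Cfsg
open scoped Pointwise commutatorElement

theorem mem_of_pow_coprime {A : Type*} [Group A] {D : Subgroup A} {a : A} {n : ℕ} (h : n.Coprime (orderOf a))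
    (ha : a ^ n ∈ D) : a ∈ D := by
  obtain ⟨m, hm⟩ := exists_pow_eq_self_of_coprime h
  exact hm ▸ pow_mem ha m

theorem exists_ab_sylow {A : Type*} [Group A] [Finite A] {r k : ℕ} [Fact r.Prime] {D Q : Subgroup A} [D.Normal]
    {α : A} (hQD : Q ≤ D) (hQ : IsPGroup r Q) (hm : ∀ Q' : Subgroup A, IsPGroup r Q' → Q ≤ Q' → Q' ≤ D → Q' ≤ Q)
    (hc : ∀ x ∈ Q, ∀ y ∈ Q, Commute x y) (hα : α ^ r ^ k = 1) (ha : ∀ x ∈ Q, Commute α x) :
    ∃ S : Sylow r (D ⊔ zpowers α : Subgroup A), IsMulCommutative S ∧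
      ∀ y : (D ⊔ zpowers α : Subgroup A), (y : A) ∈ Q ⊔ zpowers α → y ∈ S := by
  have h1 : IsPGroup r (Q ⊔ zpowers α : Subgroup A) :=
    hQ.to_sup_of_normal_left' (Transfer.isPGroup_zpowers hα) (zpowers_le.2 (mem_normalizer_fintype fun n hn => by
      rw [(ha n hn).eq, mul_inv_cancel_right]; exact hn))
  obtain ⟨S, hS⟩ := (h1.comap_subtype (K := D ⊔ zpowers α)).exists_le_sylow
  refine ⟨S, ⟨⟨?_⟩⟩, fun y hy => hS hy⟩
  have key : ∀ s : S, ∃ q ∈ Q, ∃ n : ℤ, q * α ^ n = (s : (D ⊔ zpowers α : Subgroup A)) := by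
    rintro ⟨⟨s, hs⟩, hsS⟩
    obtain ⟨d, hd, _, ⟨n, rfl⟩, rfl⟩ := mem_sup_of_normal_left.1 hs
    refine ⟨d, hm ((S : Subgroup _).map (D ⊔ zpowers α).subtype ⊓ D) ((S.2.map _).to_inf_left)
      (fun q hq => ⟨⟨⟨q, mem_sup_left (hQD hq)⟩, hS (mem_sup_left hq : q ∈ Q ⊔ zpowers α), rfl⟩, hQD hq⟩)
      inf_le_right ⟨⟨_, mul_mem hsS (inv_mem (hS (x := ⟨α ^ n, mem_sup_right ⟨n, rfl⟩⟩)
        (mem_sup_right ⟨n, rfl⟩ : α ^ n ∈ Q ⊔ zpowers α))), by simp⟩, hd⟩, n, rfl⟩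
  intro s s'
  obtain ⟨q, hq, n, e⟩ := key s
  obtain ⟨q', hq', n', e'⟩ := key s'
  refine Subtype.ext (Subtype.ext ?_)
  show (s : A) * s' = s' * s
  rw [← e, ← e']
  exact ((hc q hq q' hq').mul_right ((ha q hq).symm.zpow_right _)).mul_left
    (((ha q' hq').zpow_left _).mul_right ((Commute.refl α).zpow_zpow _ _))

theorem pow_mem_of_mul {A : Type*} [Group A] {D : Subgroup A} [D.Normal] {d β : A} {n : ℕ} (hd : d ∈ D)
    (h : (d⁻¹ * β) ^ n ∈ D) : β ^ n ∈ D := by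
  have e2 := (QuotientGroup.eq_one_iff _).2 h
  rw [← QuotientGroup.mk'_apply, map_pow, map_mul, map_inv, QuotientGroup.mk'_apply _ d,
    (QuotientGroup.eq_one_iff _).2 hd, inv_one, one_mul, ← map_pow] at e2
  exact (QuotientGroup.eq_one_iff _).1 e2

theorem ab_two {Y : Type*} [Group Y] [Finite Y] (S : Sylow 2 Y) [IsMulCommutative S] :
    (S : Subgroup Y) ≤ commutator Y ∨ ∃ z : Y, orderOf z = 2 ∧ ∃ N : Subgroup Y, N.Normal ∧ Odd (Nat.card N) ∧
      ∀ g, z * g * z⁻¹ * g⁻¹ ∈ N := by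
  obtain ⟨h1, -⟩ := Transfer.commutator_sup_centralizer_of_abelian (A := (S : Subgroup Y)) le_normalizer le_rfl
    (Transfer.coprime_card_sylow_relIndex S le_normalizer)
  by_cases h0 : (S : Subgroup Y) ⊓ centralizer (normalizer ((S : Subgroup Y) : Set Y) : Set Y) = ⊥
  · rw [h0, sup_bot_eq] at h1
    exact .inl (h1.ge.trans (commutator_mono le_top le_top))
  have := (nontrivial_iff_ne_bot _).2 h0
  obtain ⟨n, hn, hc⟩ := (S.2.to_inf_left).nontrivial_iff_card.1 this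
  obtain ⟨⟨z, hz, hz'⟩, z2⟩ := exists_prime_orderOf_dvd_card' 2 (hc ▸ dvd_pow_self 2 hn.ne')
  replace z2 : orderOf z = 2 := (Subgroup.orderOf_coe _).trans z2
  refine .inr ⟨z, z2, Char.zstar_of_sylow S z2 fun g hg => ?_⟩
  obtain ⟨k, hk, e⟩ := Transfer.control_of_abelian_sylow S z hz g hg
  rw [← e, hz' k hk, mul_inv_cancel_right]

variable {G : Type*} [Group G] [Finite G]

omit [Finite G] in
theorem conj_max {r : ℕ} (hi : Function.Injective (MulAut.conj : G →* MulAut G)) (R : Sylow r G)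
    (Q' : Subgroup (MulAut G)) (h1 : IsPGroup r Q') (h2 : (R : Subgroup G).map MulAut.conj ≤ Q') (h3 : Q' ≤ Inn G) :
    Q' ≤ (R : Subgroup G).map MulAut.conj := by
  have := R.3 (h1.comap_of_injective _ hi) (map_le_iff_le_comap.1 h2)
  intro y hy
  obtain ⟨g, rfl⟩ := h3 hy
  exact mem_map_of_mem _ (this ▸ hy : g ∈ R.toSubgroup)

omit [Finite G] in
theorem conj_comm_aut {α : MulAut G} {g : G} : Commute α (MulAut.conj g) ↔ MulAut.conj (α g) = MulAut.conj g := by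
  have : α * MulAut.conj g * α⁻¹ = MulAut.conj (α g) := by ext; simp
  rw [← this, mul_inv_eq_iff_eq_mul]; rfl

theorem exists_ab_sylow' {r k : ℕ} [Fact r.Prime] {D : Subgroup (MulAut G)} [D.Normal] (hD : Inn G ≤ D)
    (R : Sylow r G) [IsMulCommutative R] (hm : ∀ Q' : Subgroup (MulAut G), IsPGroup r Q' →
      (R : Subgroup G).map MulAut.conj ≤ Q' → Q' ≤ D → Q' ≤ (R : Subgroup G).map MulAut.conj)
    {α : MulAut G} (hα : α ^ r ^ k = 1) (hR : ∀ x ∈ (R : Subgroup G), α x = x) :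
    ∃ S : Sylow r (D ⊔ zpowers α : Subgroup _), IsMulCommutative S ∧ ∀ y : (D ⊔ zpowers α : Subgroup _),
      (y : MulAut G) ∈ (R : Subgroup G).map MulAut.conj ⊔ zpowers α → y ∈ S :=
  exists_ab_sylow ((map_le_range _ _).trans hD) (R.2.map _) hm (by
    rintro _ ⟨x, hx, rfl⟩ _ ⟨y, hy, rfl⟩
    exact (show Commute x y from setLike_mul_comm hx hy).map _) hα (by
    rintro _ ⟨x, hx, rfl⟩
    rw [conj_comm_aut, hR x hx])

omit [Finite G] in
theorem conj_inj [IsSimpleGroup G] (hna : ¬ IsMulCommutative G) :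
    Function.Injective (MulAut.conj : G →* MulAut G) := by
  rw [← MonoidHom.ker_eq_bot_iff]
  refine (MonoidHom.normal_ker _).eq_bot_or_eq_top.resolve_right fun e => hna ⟨⟨fun a b => ?_⟩⟩
  have := congrArg (· b) (MonoidHom.mem_ker.1 (e.ge (mem_top a)))
  simpa [mul_inv_eq_iff_eq_mul] using this

/-- the prime `2`, by the `Z*`-theorem -/
theorem inn_two [IsSimpleGroup G] (hna : ¬ IsMulCommutative G) (hr : 2 ∣ Nat.card G) (R : Sylow 2 G)
    [IsMulCommutative R] {α : MulAut G} {k : ℕ} (hα : α ^ 2 ^ k = 1) (hR : ∀ x ∈ (R : Subgroup G), α x = x) :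
    α ∈ Inn G := by
  have hi := conj_inj hna
  have := Aut.PSL.inn_normal (T := G)
  obtain ⟨S, hS, hs⟩ := exists_ab_sylow' le_rfl R (conj_max hi R) hα hR
  obtain h1 | ⟨z, z2, N, hN, ho, hz2⟩ := ab_two S
  · have h2 := h1 (hs ⟨α, mem_sup_right (mem_zpowers α)⟩ (mem_sup_right (mem_zpowers α)))
    refine (commutator_le (H₃ := (Inn G).subgroupOf _)).2 ?_ h2
    rintro ⟨a, ha⟩ - ⟨b, hb⟩ -
    obtain ⟨d, hd, _, ⟨n, rfl⟩, rfl⟩ := mem_sup_of_normal_left.1 ha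
    obtain ⟨d', hd', _, ⟨n', rfl⟩, rfl⟩ := mem_sup_of_normal_left.1 hb
    refine (QuotientGroup.eq_one_iff (N := Inn G) ⁅d * α ^ n, d' * α ^ n'⁆).1 ?_
    rw [← QuotientGroup.mk'_apply, map_commutatorElement, map_mul, map_mul, QuotientGroup.mk'_apply _ d,
      QuotientGroup.mk'_apply _ d', (QuotientGroup.eq_one_iff d).2 hd, (QuotientGroup.eq_one_iff d').2 hd',
      one_mul, one_mul, commutatorElement_eq_one_iff_commute]
    exact ((Commute.refl α).zpow_zpow _ _).map _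
  exfalso
  let f : G →* (Inn G ⊔ zpowers α : Subgroup _) := MulAut.conj.codRestrict _ fun g => mem_sup_left ⟨g, rfl⟩
  have fi : Function.Injective f := fun a b e => hi (congrArg Subtype.val e)
  obtain e | e := (hN.comap f).eq_bot_or_eq_top
  · have : z = 1 := Subtype.ext (MulEquiv.ext fun g => by
      have h2 : f (z.1 g * g⁻¹) = z * f g * z⁻¹ * (f g)⁻¹ := Subtype.ext (by ext; simp [f, mul_assoc])
      exact mul_inv_eq_one.1 (mem_bot.1 (e.le (show f _ ∈ N from h2 ▸ hz2 (f g)))))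
    rw [this, orderOf_one] at z2
    omega
  · have h3 : Nat.card G ∣ Nat.card N :=
      card_dvd_of_injective (f.codRestrict N fun g => e.ge (mem_top g)) fun a b e => fi (congrArg Subtype.val e)
    exact (Nat.not_even_iff_odd.2 ho) (even_iff_two_dvd.2 (hr.trans h3))

section J1
open Root.J1

theorem T_aut : ∀ x : T, x * x * x = 1 → x ≠ 1 → ∀ v : T, v * v = 1 → x * v * (x * v) * (x * v) = 1 →
    ∀ s : T, s * s = 1 → v * s * (v * s) * (v * s) = 1 → x * s * (x * s) = 1 →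
    ∃ c : T, c * v0 * c⁻¹ = v ∧ c * s0 * c⁻¹ = s ∧ (c * x0 * c⁻¹ = x ∨ c * x0⁻¹ * c⁻¹ = x) := by
  decide +kernel

theorem T_rel0 : x0 * x0 * x0 = 1 ∧ x0 ≠ 1 ∧ v0 * v0 = 1 ∧ x0 * v0 * (x0 * v0) * (x0 * v0) = 1 ∧ s0 * s0 = 1 ∧
    v0 * s0 * (v0 * s0) * (v0 * s0) = 1 ∧ x0 * s0 * (x0 * s0) = 1 := by decide +kernel

theorem T_gen {L : Subgroup T} (h0 : t0 ∈ L) (h1 : v0 ∈ L) (h2 : x0 ∈ L) (h3 : s0 ∈ L) (a : T) : a ∈ L := by
  have g : ∀ k, gT k ∈ L := fun k => match k with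
    | 0 => h0 | 1 => h1 | 2 => h2 | k + 3 => by rw [show gT (k + 3) = gT 3 by simp [gT]]; exact h3
  have key : ∀ (w : List ℕ), ∀ b ∈ L, w.foldl (fun m k => m * gT k) b ∈ L := fun w => by
    induction w with
    | nil => exact fun _ h => h
    | cons k w ih => exact fun b hb => ih _ (mul_mem hb (g k))
  rw [← one_mul a, mul_eq_foldl]
  exact key _ _ (one_mem _)

variable [IsSimpleGroup G] {t : G} {φ : T →* G} (h : Hyp t φ)
include h

theorem j1_sq {γ : MulAut G} (hγ : ∀ a, γ (φ a) = φ a) : γ ^ 2 = 1 := by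
  obtain ⟨z, hz, ez, -⟩ := h.ex_z
  obtain ⟨n, hn, en⟩ := h.exists_norm (h.emb.mem_SS.2 rfl) h.fuse
  let L := MonoidHom.eqLocus (γ ^ 2).toMonoidHom (MonoidHom.id G)
  have h1 : ∀ a, φ a ∈ L := fun a => show (γ ^ 2) (φ a) = φ a by rw [pow_two, MulAut.mul_apply, hγ, hγ]
  have k : ∀ a, a * v0 = v0 * a → n⁻¹ * γ n * φ a = φ a * (n⁻¹ * γ n) := fun a ha => by
    obtain ⟨b, -, e⟩ := mem_SS.1 ((mem_normalizer_iff.1 hn _).1 (h.emb.mem_SS.2 ha))
    have e2 := congrArg γ e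
    rw [hγ, map_mul, map_mul, hγ, map_inv] at e2
    calc _ = n⁻¹ * (γ n * φ a * (γ n)⁻¹) * γ n := by group
      _ = _ := by rw [← e2, e]; group
  obtain ⟨b, hb⟩ := h.emb.surj _ (h.emb.map_t ▸ k t0 (T_t_comm v0).symm)
  have b2 : φ b * φ b = 1 := SS_sq (h.emb.mem_SS.2 (h.emb.inj (by rw [map_mul, map_mul, hb]; exact k v0 rfl)))
  have h2 : n ∈ L := by
    show (γ ^ 2) n = n
    have : γ n = n * φ b := by rw [hb]; group
    rw [pow_two, MulAut.mul_apply, this, map_mul, this, hγ, mul_assoc, b2, mul_one]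
  obtain ⟨c, hc⟩ := h.emb.surj (n⁻¹ * z) (by
    calc _ = n⁻¹ * (z * t * z⁻¹) * z := by group
      _ = _ := by rw [ez, ← en]; group)
  have := h.eq_top h1 (z := z) ((mul_mem_cancel_left (inv_mem h2)).1 (hc ▸ h1 c)) hz ez
  exact MulEquiv.ext fun g => this.ge (mem_top g)

theorem j1_in {β : MulAut G} (ht : β t = t) {c : G} (hc : c * t = t * c) (h1 : c * φ v0 * c⁻¹ = β (φ v0))
    (h2 : c * φ s0 * c⁻¹ = β (φ s0)) (h3 : c * φ x0 * c⁻¹ = β (φ x0)) : β ^ 2 ∈ Inn G := by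
  have := Aut.PSL.inn_normal (T := G)
  have e := j1_sq h (γ := (MulAut.conj c)⁻¹ * β) fun a => by
    refine T_gen (L := MonoidHom.eqLocus (((MulAut.conj c)⁻¹ * β).toMonoidHom.comp φ) φ) ?_ ?_ ?_ ?_ a <;>
      show c⁻¹ * β _ * c = _
    · rw [h.emb.map_t, ht, mul_assoc, ← hc, inv_mul_cancel_left]
    · rw [← h1]; group
    · rw [← h3]; group
    · rw [← h2]; group
  exact pow_mem_of_mul (MonoidHom.mem_range.2 ⟨c, rfl⟩) (e ▸ one_mem _)

omit [IsSimpleGroup G] [Finite G] in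
theorem j1_cases {β : MulAut G} (ht : β t = t) : ∃ c : G, c * t = t * c ∧ c * φ v0 * c⁻¹ = β (φ v0) ∧
    c * φ s0 * c⁻¹ = β (φ s0) ∧ (c * φ x0 * c⁻¹ = β (φ x0) ∨ c * (φ x0)⁻¹ * c⁻¹ = β (φ x0)) := by
  have E := h.emb
  choose θ hθ using fun a => E.surj (β (φ a)) (by rw [← ht, ← map_mul, E.comm, map_mul, ht])
  have m : ∀ a b, θ (a * b) = θ a * θ b := fun a b => E.inj (by simp [hθ])
  have o : θ 1 = 1 := E.inj (by simp [hθ])
  obtain ⟨r1, r2, r3, r4, r5, r6, r7⟩ := T_rel0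
  obtain ⟨c, c1, c2, c3⟩ := T_aut (θ x0) (by simp only [← m, r1, o])
    (fun e => r2 (E.eq_one.1 (β.injective (by rw [← hθ, e]; simp)))) (θ v0) (by simp only [← m, r3, o])
    (by simp only [← m, r4, o]) (θ s0) (by simp only [← m, r5, o]) (by simp only [← m, r6, o])
    (by simp only [← m, r7, o])
  refine ⟨φ c, E.comm c, ?_, ?_, c3.imp (fun e => ?_) fun e => ?_⟩ <;> rw [← hθ]
  exacts [by simp [← c1], by simp [← c2], by simp [← e], by simp [← e]]

theorem j1_four (α : MulAut G) : α ^ 4 ∈ Inn G := by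
  have := Aut.PSL.inn_normal (T := G)
  have E := h.emb
  obtain ⟨g, hg⟩ := isConj_iff.1 (h.conj_iv (w := α t) ⟨by simpa using E.iv.1, by rw [← map_mul, E.iv.2, map_one]⟩)
  obtain ⟨β, hβ⟩ : ∃ β, β = (MulAut.conj g)⁻¹ * α := ⟨_, rfl⟩
  have ht : β t = t := by
    rw [hβ]
    show g⁻¹ * α t * g = t
    rw [← hg]; group
  have : β ^ 4 ∈ Inn G := by
    have ht2 : (β ^ 2) t = t := by rw [pow_two, MulAut.mul_apply, ht, ht]
    obtain ⟨c, c0, c1, c2, c3 | c3⟩ := j1_cases h ht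
    · exact (pow_mul β 2 2).symm ▸ pow_mem (j1_in h ht c0 c1 c2 c3) 2
    obtain ⟨d, d0, d1, d2, d3 | d3⟩ := j1_cases h ht2
    · exact (pow_mul β 2 2).symm ▸ j1_in h ht2 d0 d1 d2 d3
    simp only [pow_two, MulAut.mul_apply] at d1 d2 d3
    have k : ∀ y w, c * w * c⁻¹ = β y → d * w * d⁻¹ = β (β y) →
        β⁻¹ (d * c⁻¹) * y * (β⁻¹ (d * c⁻¹))⁻¹ = β y := fun y w e1 e2 => β.injective (by
      rw [map_mul, map_mul, map_inv, MulAut.apply_inv_self, ← e2, ← e1]; group)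
    refine (pow_mul β 2 2).symm ▸ pow_mem (j1_in h ht (β.injective ?_) (k _ _ c1 d1) (k _ _ c2 d2) (k _ _ c3 d3)) 2
    rw [map_mul β, map_mul β, MulAut.apply_inv_self, ht]
    exact (Commute.mul_left d0 (Commute.inv_left c0)).eq
  exact pow_mem_of_mul (MonoidHom.mem_range.2 ⟨g, rfl⟩) (hβ ▸ this)

end J1

section PSL
open Matrix Aut Aut.PSL SemidirectProduct Cfsg.Agent.Lib.GL.H90

theorem arith_fld {r q : ℕ} (hr : r.Prime) (hq : 0 < q) (h : r ∣ q * (q ^ 2 - 1)) :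
    r * (q * (q ^ 2 - 1)) ∣ q ^ r * ((q ^ r) ^ 2 - 1) := by
  obtain ⟨m, hm⟩ : ∃ m, q ^ 2 = m + 1 := ⟨q ^ 2 - 1, by have := pow_pos hq 2; omega⟩
  obtain ⟨n, rfl⟩ : ∃ n, r = n + 2 := ⟨r - 2, by have := hr.two_le; omega⟩
  rw [← pow_mul, mul_comm (n + 2) 2, pow_mul, hm, ← geom_sum_mul_add m (n + 2), Nat.add_sub_cancel,
    Nat.add_sub_cancel]
  rw [hm, Nat.add_sub_cancel] at h
  have : n + 2 ∣ q ^ (n + 1) * ∑ i ∈ Finset.range (n + 2), (m + 1) ^ i := by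
    obtain h | h := (Nat.Prime.dvd_mul hr).1 h
    · exact (h.trans (dvd_pow_self q (by omega))).mul_right _
    · refine Dvd.dvd.mul_left ?_ _
      rw [← ZMod.natCast_eq_zero_iff] at h ⊢
      push_cast
      simp [h]
  refine (Nat.mul_dvd_mul_right this _).trans (Dvd.intro 1 ?_)
  ring

variable {F : Type*} [Field F] [Finite F]

theorem card_pgl {F₀ : Type*} [Field F₀] (f : F₀ →+* F) :
    Nat.card ((ψ (Fin 2) F).comp (GeneralLinearGroup.map f)).range = Nat.card F₀ * (Nat.card F₀ ^ 2 - 1) := by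
  have : Finite F₀ := Finite.of_injective f f.injective
  have := Fintype.ofFinite F₀
  have h1 : ((ψ (Fin 2) F).comp (GeneralLinearGroup.map f)).ker = (GeneralLinearGroup.scalar (Fin 2)).range := by
    ext g
    rw [MonoidHom.mem_ker, MonoidHom.comp_apply, ψ_eq_one_iff (by simp)]
    exact ⟨fun ⟨u, hu⟩ => (map_eq_scalar f g u hu).imp fun _ => Eq.symm,
      by rintro ⟨u, rfl⟩; exact ⟨_, map_scalar' f u⟩⟩
  have h2 := ((ψ (Fin 2) F).comp (GeneralLinearGroup.map f)).ker.card_mul_index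
  rw [index_ker, h1, ← Nat.card_congr (MonoidHom.ofInjective scalar_inj).toEquiv, Nat.card_units, Matrix.card_GL_field,
    Fin.prod_univ_two, ← Nat.card_eq_fintype_card] at h2
  obtain ⟨q, hq⟩ : ∃ q, Nat.card F₀ = q + 2 := ⟨Nat.card F₀ - 2, by have := Finite.one_lt_card (α := F₀); omega⟩
  refine Nat.eq_of_mul_eq_mul_left (by omega : 0 < Nat.card F₀ - 1) (h2.trans ?_)
  rw [hq]
  simp only [Fin.val_zero, pow_zero, Fin.val_one, pow_one]
  rw [show (q + 2) ^ 2 - (q + 2) = (q + 2) * (q + 1) by rw [pow_two, Nat.mul_succ, Nat.add_sub_cancel]]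
  show _ = (q + 1) * _
  ring

theorem inn_psl {r k : ℕ} [hp : Fact r.Prime] (r2 : r ≠ 2)
    (hi : Function.Injective (MulAut.conj : ProjectiveSpecialLinearGroup (Fin 2) F →* _))
    (hr : r ∣ Nat.card (ProjectiveSpecialLinearGroup (Fin 2) F)) (R : Sylow r (ProjectiveSpecialLinearGroup (Fin 2) F))
    [IsMulCommutative R] {α : MulAut (ProjectiveSpecialLinearGroup (Fin 2) F)} (hα : α ^ r ^ k = 1)
    (hR : ∀ x ∈ (R : Subgroup (ProjectiveSpecialLinearGroup (Fin 2) F)), α x = x) : α ∈ Inn _ := by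
  have h2 : 2 ≤ Fintype.card (Fin 2) := by simp
  have sq : ∀ β ∈ (ψ (Fin 2) F).range, ∀ n, β ^ r ^ n = 1 → β ∈ Inn _ := by
    rintro _ ⟨g, rfl⟩ n hn
    refine mem_of_pow_coprime (n := 2) (Nat.Coprime.coprime_dvd_right (orderOf_dvd_of_pow_eq_one hn)
      (((Nat.coprime_primes Nat.prime_two hp.out).2 r2.symm).pow_right n)) ?_
    rw [← map_pow, ψ_mem_inn_iff h2]
    exact (QuotientGroup.eq_one_iff _).2 ⟨GeneralLinearGroup.det g, by simp⟩
  obtain ⟨g, σ, rfl⟩ := surj_two (by simp) α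
  by_cases hσ : σ = 1
  · exact sq _ ⟨g, by rw [hσ]; rfl⟩ k hα
  exfalso
  have := normal_range_ψ (F := F) h2
  have hm : ∀ Q' : Subgroup (MulAut _), IsPGroup r Q' → (R : Subgroup _).map MulAut.conj ≤ Q' →
      Q' ≤ (ψ (Fin 2) F).range → Q' ≤ (R : Subgroup _).map MulAut.conj := fun Q' a b c =>
    conj_max hi R Q' a b fun y hy => (a ⟨y, hy⟩).elim fun n hn => sq y (c hy) n (congrArg Subtype.val hn)
  obtain ⟨S, hS, hs⟩ := exists_ab_sylow' inn_le_range_ψ R hm hα hR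
  have pw : ∀ n : ℕ, ((σ, 1) : A F) ^ n = (σ ^ n, 1) := fun n => by simp
  have h3 : σ ^ r ^ k = 1 := by
    rw [← map_pow] at hα
    have e : ((⟨g, (σ, 1)⟩ : Gam (Fin 2) F) ^ r ^ k).right = (σ ^ r ^ k, 1) :=
      (map_pow rightHom _ _).trans (pw _)
    exact (ker_fld h2 (g := ((⟨g, (σ, 1)⟩ : Gam (Fin 2) F) ^ r ^ k).left) (by rw [← e]; exact hα)).1
  have h4 : r ∣ orderOf σ := by
    obtain ⟨j, -, hj⟩ := (Nat.dvd_prime_pow hp.out).1 (orderOf_dvd_of_pow_eq_one h3)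
    rw [hj]
    refine dvd_pow_self r ?_
    rintro rfl
    exact hσ (orderOf_eq_one_iff.1 hj)
  have h5 := orderOf_pow_orderOf_div (isOfFinOrder_iff_pow_eq_one.2 ⟨_, pow_pos hp.out.pos k, h3⟩).orderOf_pos.ne' h4
  generalize orderOf σ / r = m at h5
  have h6 : Θ (Fin 2) F (inr (σ ^ m, 1)) ∈ (ψ (Fin 2) F).range ⊔ zpowers (Θ (Fin 2) F ⟨g, (σ, 1)⟩) := by
    rw [← pw, map_pow, map_pow]
    refine pow_mem ((mul_mem_cancel_left (mem_sup_left (MonoidHom.mem_range.2 ⟨g, rfl⟩))).1 ?_) m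
    rw [ψ_apply, ← map_mul, ← mk_eq_inl_mul_inr]
    exact mem_sup_right (mem_zpowers _)
  obtain ⟨S', hS'⟩ := (Transfer.isPGroup_zpowers (p := r) (k := 1) (a := (⟨_, h6⟩ : (_ ⊔ _ : Subgroup _)))
    (Subtype.ext (by rw [pow_one, ← h5, ← orderOf_fld h2]; exact pow_orderOf_eq_one _))).exists_le_sylow
  obtain ⟨y, rfl⟩ := MulAction.exists_smul_eq ((ψ (Fin 2) F).range ⊔ zpowers (Θ (Fin 2) F ⟨g, (σ, 1)⟩) : Subgroup _) S S'
  have h7 : y⁻¹ * ⟨_, h6⟩ * y ∈ (S : Subgroup _) := by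
    simpa [Sylow.coe_subgroup_smul, mem_pointwise_smul_iff_inv_smul_mem] using hS' (mem_zpowers _)
  have h8 : (R : Subgroup _).map MulAut.conj ≤ (ψ (Fin 2) F).range ⊓
      centralizer {(y : MulAut _)⁻¹ * Θ (Fin 2) F (inr (σ ^ m, 1)) * (y : MulAut _)⁻¹⁻¹} := fun q hq => by
    have hq' := ((map_le_range _ _).trans inn_le_range_ψ) hq
    refine ⟨hq', mem_centralizer_singleton_iff.2 ?_⟩
    rw [inv_inv]
    exact congrArg Subtype.val (setLike_mul_comm (hs ⟨q, mem_sup_left hq'⟩ (mem_sup_left hq)) h7)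
  obtain ⟨e⟩ := centralizer_conj_equiv (ψ (Fin 2) F).range (y : MulAut _)⁻¹ (Θ (Fin 2) F (inr (σ ^ m, 1)))
  have h9 := card_dvd_of_le h8
  rw [Nat.card_congr e.toEquiv, ← range_fld h2 _ (fixedSub (σ ^ m)).subtype (by simp [mem_fixedSub]),
    card_pgl] at h9
  have h10 := arith_fld hp.out Nat.card_pos ((R.dvd_card_of_dvd_card hr).trans (card_map_of_injective hi ▸ h9))
  have h11 := card_eq_card_fixedSub_pow (σ ^ m)
  rw [h5] at h11
  have h12 : ((ψ (Fin 2) F).comp (GeneralLinearGroup.map (RingHom.id F))).range = (ψ (Fin 2) F).range := by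
    congr 1
  rw [← h11, ← card_pgl (RingHom.id F), h12] at h10
  have hle := (map_le_range MulAut.conj (R : Subgroup _)).trans (inn_le_range_ψ (ι := Fin 2) (F := F))
  let P : Sylow r (ψ (Fin 2) F).range := ⟨((R : Subgroup _).map MulAut.conj).subgroupOf _, (R.2.map _).comap_subtype,
    fun {Q'} a b => le_antisymm (fun x hx => hm (Q'.map (Subgroup.subtype _)) (a.map _)
      (fun q hq => ⟨⟨q, hle hq⟩, b (mem_subgroupOf.2 hq), rfl⟩) (map_subtype_le _) (mem_map_of_mem _ hx)) b⟩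
  refine P.not_dvd_index (Nat.dvd_of_mul_dvd_mul_right (Nat.card_pos (α := P)) ?_)
  rw [P.toSubgroup.index_mul_card]
  refine (Nat.mul_dvd_mul_left r ?_).trans h10
  exact (Nat.card_congr (subgroupOfEquivOfLe hle).toEquiv).symm ▸ h9

end PSL

/-- `S2555` from the classification -/
theorem inn_of_known [IsSimpleGroup G] (hna : ¬ IsMulCommutative G)
    (hK : (∃ t φ, Root.J1.Hyp (G := G) t φ) ∨ ∃ (F : Type) (_ : Field F) (_ : Fintype F),
      Nonempty (G ≃* Matrix.ProjectiveSpecialLinearGroup (Fin 2) F))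
    (r : ℕ) [hp : Fact r.Prime] (hr : r ∣ Nat.card G) (α : G ≃* G) (k : ℕ) (hα : orderOf α = r ^ k)
    (R : Sylow r G) (hA : IsMulCommutative R) (hR : ∀ x ∈ (R : Subgroup G), α x = x) :
    ∃ g : G, ∀ x : G, α x = g * x * g⁻¹ := by
  have h1 : α ^ r ^ k = 1 := hα ▸ pow_orderOf_eq_one α
  suffices α ∈ Inn G by
    obtain ⟨g, rfl⟩ := this
    exact ⟨g, fun _ => rfl⟩
  by_cases r2 : r = 2
  · subst r2
    exact inn_two hna hr R h1 hR
  obtain ⟨t, φ, h⟩ | ⟨F, _, _, ⟨e⟩⟩ := hK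
  · exact mem_of_pow_coprime (hα ▸ ((Nat.coprime_primes Nat.prime_two hp.out).2 (Ne.symm r2)).pow 2 k) (j1_four h α)
  have := e.symm.isSimpleGroup
  let R' := R.mapSurjective (f := e.toMonoidHom) e.surjective
  have : IsMulCommutative R' := map_isMulCommutative _ _
  obtain ⟨g, hg⟩ := inn_psl (k := k) r2 (conj_inj fun ⟨⟨c⟩⟩ => hna ⟨⟨fun a b => e.injective (by simp [c (e a)])⟩⟩)
    (Nat.card_congr e.toEquiv ▸ hr) R' (α := MulAut.congr e α) (by rw [← map_pow, h1, map_one]) (by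
      rintro _ ⟨x, hx, rfl⟩
      simp [hR x hx])
  refine ⟨e.symm g, MulEquiv.ext fun x => e.injective ?_⟩
  simpa using congrArg (· (e x)) hg

end Cfsg.Agent.Lib.AG
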