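/-
A-groups project (S2554): vocabulary.
-/
import Cfsg.Agent.Lib.Core.Bar
import Cfsg.Agent.Lib.Core.Generation
import Cfsg.Agent.Lib.Invol.StronglyEmbedded

set_option autoImplicit false

namespace Cfsg.Agent.Lib.AG

open Subgroup

/-- A-group: every `p`-subgroup is abelian. -/
def AG (G : Type*) [Group G] : Prop :=
  ∀ p : ℕ, p.Prime → ∀ P : Subgroup G, IsPGroup p P → ∀ x ∈ P, ∀ y ∈ P, x * y = y * x

variable {G : Type*} [Group G]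

/-- `G` simple with Sylow 2-subgroup `V = {1, t, s, ts}`, and `w` permutes `t → s → ts`. -/
structure V4 (t s w : G) : Prop where
  simple : IsSimpleGroup G
  tt : t * t = 1
  ss : s * s = 1
  t1 : t ≠ 1
  s1 : s ≠ 1
  ts : t ≠ s
  comm : t * s = s * t
  n8 : ¬ 8 ∣ Nat.card G
  wt : w * t * w⁻¹ = s
  ws : w * s * w⁻¹ = t * s

/-- `C(t) = K ⋊ (V × B)`, `K` inverted by `s`, `C(x) ≤ C(t)` for `x ∈ K#`. -/
structure VK (t s w : G) (K B : Subgroup G) : Prop extends V4 t s w where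
  Kodd : Odd (Nat.card K)
  Bodd : Odd (Nat.card B)
  Kt : ∀ x ∈ K, t * x = x * t
  Ks : ∀ x ∈ K, s * x * s = x⁻¹
  Bt : ∀ b ∈ B, t * b = b * t
  Bs : ∀ b ∈ B, s * b = b * s
  BK : ∀ b ∈ B, ∀ x ∈ K, b * x * b⁻¹ ∈ K
  cent : ∀ g : G, t * g = g * t → ∃ x ∈ K, ∃ b ∈ B,
    g = x * b ∨ g = x * b * t ∨ g = x * b * s ∨ g = x * b * (t * s)
  ti : ∀ x ∈ K, x ≠ 1 → ∀ g : G, x * g = g * x → t * g = g * t
  gen : K ≠ ⊥ → centralizer {t} ⊔ zpowers w = ⊤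

/-- `C(t) = K ⋊ V`. -/
abbrev VS (t s w : G) (K : Subgroup G) : Prop := VK t s w K ⊥

/-- Zassenhaus data on the `q + 1` conjugates of `Q` (`N(Q) = Q D`, `j` swaps two points). -/
structure ZS (Q D : Subgroup G) (p q : ℕ) (j : G) : Prop where
  simple : IsSimpleGroup G
  prime : p.Prime
  expQ : ∀ x ∈ Q, x ^ p = 1
  commQ : ∀ x ∈ Q, ∀ y ∈ Q, x * y = y * x
  cardQ : Nat.card Q = q
  q11 : 11 ≤ q
  q8 : q % 8 = 3 ∨ q % 8 = 5
  cardG : 2 * Nat.card G = q * (q ^ 2 - 1)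
  centQ : ∀ x ∈ Q, x ≠ 1 → ∀ g : G, x * g = g * x → g ∈ Q
  ti : ∀ g : G, ∀ x ∈ Q, x ≠ 1 → g * x * g⁻¹ ∈ Q → g ∈ Q ⊔ D
  normD : D ≤ normalizer (Q : Set G)
  cardD : 2 * Nat.card D + 1 = q
  jj : j * j = 1
  jD : ∀ d ∈ D, j * d * j = d⁻¹
  jQ : j ∉ Q ⊔ D
  cell : ∀ g : G, g ∉ Q ⊔ D → ∃ u ∈ Q, ∃ d ∈ D, ∃ v ∈ Q, g = u * d * j * v

/-- type A: `L₂(2ⁿ)` -/
def TA (G : Type*) [Group G] : Prop :=
  IsSimpleGroup G ∧ (∃ a b : G, a * b ≠ b * a) ∧ ∃ H : Subgroup G, Cfsg.IsStronglyEmbedded H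

/-- type B: `L₂(q)`, `q ≡ 3, 5 (8)`, `q ≥ 11` -/
def TB (G : Type*) [Group G] : Prop := ∃ (t s w : G) (K : Subgroup G), VS t s w K ∧ K ≠ ⊥

/-- type C: `J₁` -/
def TC (G : Type*) [Group G] : Prop :=
  IsSimpleGroup G ∧ ¬ 16 ∣ Nat.card G ∧ ∃ t : G, t ≠ 1 ∧ t * t = 1 ∧
    Nonempty (centralizer ({t} : Set G) ≃* Multiplicative (ZMod 2) × alternatingGroup (Fin 5))

/-- the internal form of the conclusion -/
def Kn (G : Type*) [Group G] : Prop := TA G ∨ TB G ∨ TC G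

universe u

/-- induction hypothesis -/
def IH (n : ℕ) : Prop :=
  ∀ (X : Type u) [Group X] [Finite X], Nat.card X < n → AG X → IsSimpleGroup X →
    (∃ a b : X, a * b ≠ b * a) → Kn X

/-- induction hypothesis of the Klein four case -/
def IH4 (n : ℕ) : Prop :=
  ∀ (X : Type u) [Group X] [Finite X], Nat.card X < n → AG X →
    ∀ t s w : X, V4 t s w → ∃ K, VS t s w K

end Cfsg.Agent.Lib.AG
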