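/-
Brauer–Suzuki–Wall, part 1: the group `T = K × ⟨t⟩` and its embedding.
-/
import Cfsg.Agent.Lib.AG.Defs
import Cfsg.Agent.Lib.Invol.SylowAux

set_option autoImplicit false
set_option linter.unusedSectionVars false

namespace Cfsg.Agent.Lib.AG

open Subgroup Cfsg.Agent.Lib

variable {G : Type*} [Group G] {t s w : G} {K : Subgroup G}

theorem card_two_mul [Finite G] {A B : Subgroup G} (hAB : A ≤ B) {a : G} (ha : a ∈ B) (haA : a ∉ A)
    (h : ∀ b ∈ B, b ∈ A ∨ b * a ∈ A) : Nat.card B = 2 * Nat.card A := by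
  have h2 : A.relIndex B = 2 := by
    refine relIndex_eq_two_iff.2 ⟨a, ha, fun b hb => ?_⟩
    by_cases hb' : b ∈ A
    · exact Or.inr ⟨hb', fun h' => haA (by simpa using A.mul_mem (A.inv_mem hb') h')⟩
    · exact Or.inl ⟨(h b hb).resolve_left hb', hb'⟩
  have := (A.subgroupOf B).index_mul_card
  rw [Nat.card_congr (subgroupOfEquivOfLe hAB).toEquiv] at this
  rw [← this, ← h2]; rfl

/-- nontrivial elements conjugate into `T` -/
def InA (T : Subgroup G) (g : G) : Prop := g ≠ 1 ∧ ∃ x : G, x⁻¹ * g * x ∈ T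

theorem InA.conj {T : Subgroup G} {g : G} (h : InA T g) (y : G) : InA T (y * g * y⁻¹) := by
  obtain ⟨h1, x, hx⟩ := h
  exact ⟨fun e => h1 (by simpa using e), y * x, by simpa [mul_assoc] using hx⟩

theorem InA.of_conj {T : Subgroup G} {g : G} (y : G) (h : InA T (y * g * y⁻¹)) : InA T g := by
  simpa [mul_assoc] using h.conj y⁻¹

theorem InA.of_mem {T : Subgroup G} {g : G} (h : g ∈ T) (h1 : g ≠ 1) : InA T g :=
  ⟨h1, 1, by simpa using h⟩

namespace VK

variable (h : VS t s w K)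
include h

theorem tinv : t⁻¹ = t := inv_eq_of_mul_eq_one_right h.tt
theorem sinv : s⁻¹ = s := inv_eq_of_mul_eq_one_right h.ss

theorem Kcomm {x y : G} (hx : x ∈ K) (hy : y ∈ K) : x * y = y * x := by
  have e := h.Ks _ (K.mul_mem hx hy)
  have e2 : s * (x * y) * s = (s * x * s) * (s * y * s) := by
    calc s * (x * y) * s = s * x * (s * s) * y * s := by rw [h.ss]; group
      _ = _ := by group
  rw [e2, h.Ks x hx, h.Ks y hy, ← mul_inv_rev] at e
  exact (inv_injective e).symm

theorem K_sq {x : G} (hx : x ∈ K) (h2 : x * x = 1) : x = 1 := by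
  have h1 : orderOf x ∣ Nat.card K := K.orderOf_dvd_natCard hx
  have h3 : orderOf x ∣ 2 := orderOf_dvd_of_pow_eq_one (by rwa [pow_two])
  have : orderOf x ∣ 1 := (Nat.coprime_two_right.2 h.Kodd).symm.gcd_eq_one ▸ Nat.dvd_gcd h3 h1
  exact orderOf_eq_one_iff.1 (Nat.dvd_one.1 this)

theorem tK : t ∉ K := fun e => h.t1 (h.K_sq e h.tt)

theorem memT {g : G} : g ∈ K ⊔ zpowers t ↔ g ∈ K ∨ g * t ∈ K := by
  constructor
  · intro hg
    let S : Subgroup G :=
      { carrier := {g | g ∈ K ∨ g * t ∈ K}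
        one_mem' := Or.inl K.one_mem
        mul_mem' := by
          rintro a b (ha | ha) (hb | hb)
          · exact Or.inl (K.mul_mem ha hb)
          · exact Or.inr (by rw [mul_assoc]; exact K.mul_mem ha hb)
          · refine Or.inr ?_
            rw [mul_assoc, ← h.Kt b hb, ← mul_assoc]; exact K.mul_mem ha hb
          · refine Or.inl ?_
            have : a * b = a * t * (b * t) := by
              rw [mul_assoc, h.Kt _ hb, mul_assoc b, h.tt, mul_one]
            rw [this]; exact K.mul_mem ha hb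
        inv_mem' := by
          rintro a (ha | ha)
          · exact Or.inl (K.inv_mem ha)
          · refine Or.inr ?_
            have e := h.Kt _ ha
            have : a⁻¹ * t = (a * t)⁻¹ := by
              have e2 : t * a = a * t := by
                rw [← mul_assoc] at e; exact mul_right_cancel e
              rw [← e2, mul_inv_rev, h.tinv]
            rw [this]; exact K.inv_mem ha }
    have : K ⊔ zpowers t ≤ S := sup_le (fun _ hx => Or.inl hx)
      (zpowers_le_of_mem (Or.inr (by rw [h.tt]; exact K.one_mem)))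
    exact this hg
  · rintro (hg | hg)
    · exact mem_sup_left hg
    · have : g = g * t * t := by rw [mul_assoc, h.tt, mul_one]
      rw [this]; exact mul_mem_sup hg (mem_zpowers t)

theorem tT : t ∈ K ⊔ zpowers t := mem_sup_right (mem_zpowers t)

theorem Tt {g : G} (hg : g ∈ K ⊔ zpowers t) : t * g = g * t := by
  rcases h.memT.1 hg with hg | hg
  · exact h.Kt g hg
  · have e := h.Kt _ hg
    rw [← mul_assoc] at e; exact mul_right_cancel e

theorem Tcomm {x y : G} (hx : x ∈ K ⊔ zpowers t) (hy : y ∈ K ⊔ zpowers t) : x * y = y * x := by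
  have a : ∀ x ∈ K, ∀ y ∈ K ⊔ zpowers t, x * y = y * x := fun x hx y hy => by
    rcases h.memT.1 hy with hy | hy
    · exact h.Kcomm hx hy
    · have e := h.Kcomm hx hy
      rw [mul_assoc, h.Kt x hx, ← mul_assoc, ← mul_assoc] at e
      exact mul_right_cancel e
  rcases h.memT.1 hx with hx' | hx'
  · exact a x hx' y hy
  · have e := a _ hx' y hy
    rw [mul_assoc, h.Tt hy, ← mul_assoc, ← mul_assoc] at e
    exact mul_right_cancel e

theorem Tinv {g : G} (hg : g ∈ K ⊔ zpowers t) : s * g * s = g⁻¹ := by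
  rcases h.memT.1 hg with hg' | hg'
  · exact h.Ks g hg'
  · have e := h.Ks _ hg'
    rw [← h.Tt hg, mul_inv_rev, h.tinv, ← mul_assoc, ← h.comm, mul_assoc, mul_assoc,
      ← h.Tt (inv_mem hg)] at e
    rw [mul_assoc]; exact mul_left_cancel e

theorem invT {g : G} (hg : g ∈ K ⊔ zpowers t) (h2 : g * g = 1) : g = 1 ∨ g = t := by
  rcases h.memT.1 hg with hg' | hg'
  · exact Or.inl (h.K_sq hg' h2)
  · refine Or.inr ?_
    have := h.K_sq hg' (by rw [mul_assoc, ← mul_assoc t, h.Tt hg, mul_assoc, h.tt, mul_one, h2])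
    rw [eq_inv_of_mul_eq_one_left this, h.tinv]

theorem sT : s ∉ K ⊔ zpowers t := fun e => (h.invT e h.ss).elim h.s1 h.ts.symm

theorem memH {g : G} : t * g = g * t ↔ g ∈ K ⊔ zpowers t ∨ g * s ∈ K ⊔ zpowers t := by
  constructor
  · intro hg
    obtain ⟨x, hx, b, hb, e⟩ := h.cent g hg
    rw [mem_bot.1 hb, mul_one] at e
    rcases e with rfl | rfl | rfl | rfl
    · exact Or.inl (mem_sup_left hx)
    · exact Or.inl (mul_mem (mem_sup_left hx) h.tT)
    · exact Or.inr (by rw [mul_assoc, h.ss, mul_one]; exact mem_sup_left hx)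
    · exact Or.inr (by rw [mul_assoc, mul_assoc, h.ss, mul_one]; exact mul_mem (mem_sup_left hx) h.tT)
  · rintro (hg | hg)
    · exact h.Tt hg
    · have e := h.Tt hg
      rw [mul_assoc, ← h.comm, ← mul_assoc, ← mul_assoc] at e
      exact mul_right_cancel e

theorem outer {g : G} (hg : g * s ∈ K ⊔ zpowers t) :
    g * g = 1 ∧ ∀ x ∈ K ⊔ zpowers t, g * x * g = x⁻¹ := by
  obtain ⟨u, hu, rfl⟩ : ∃ u ∈ K ⊔ zpowers t, g = u * s :=
    ⟨_, hg, by rw [mul_assoc, h.ss, mul_one]⟩
  refine ⟨by rw [mul_assoc, ← mul_assoc s, h.Tinv hu, mul_inv_cancel], fun x hx => ?_⟩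
  calc u * s * x * (u * s) = u * (s * (x * u) * s) := by group
    _ = x⁻¹ := by rw [h.Tinv (mul_mem hx hu)]; group

theorem outer_not {g : G} (hg : g * s ∈ K ⊔ zpowers t) : g ∉ K ⊔ zpowers t := fun e =>
  h.sT (by simpa using mul_mem (inv_mem e) hg)

theorem centK {x g : G} (hx : x ∈ K) (h1 : x ≠ 1) (hg : x * g = g * x) : g ∈ K ⊔ zpowers t := by
  rcases h.memH.1 (h.ti x hx h1 g hg) with h2 | h2
  · exact h2
  · obtain ⟨e1, e2⟩ := h.outer h2
    have := e2 x (mem_sup_left hx)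
    rw [← hg, mul_assoc, e1, mul_one] at this
    exact absurd (h.K_sq hx (by nth_rewrite 1 [this]; exact inv_mul_cancel x)) h1

theorem powK {g : G} (hg : g ∈ K) : g ^ Nat.card K = 1 :=
  orderOf_dvd_iff_pow_eq_one.1 (K.orderOf_dvd_natCard hg)

theorem powT {g : G} (hg : g * t ∈ K) : g ^ Nat.card K = t := by
  have hc : Commute g t := (h.Tt (h.memT.2 (Or.inr hg))).symm
  have e := h.powK hg
  obtain ⟨n, hn⟩ := h.Kodd
  rw [hc.mul_pow, hn, pow_succ t, pow_mul, pow_two, h.tt, one_pow, one_mul] at e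
  rw [hn, eq_inv_of_mul_eq_one_left e, h.tinv]

theorem tiT {x g : G} (hx : x ∈ K ⊔ zpowers t) (h1 : x ≠ 1) (hg : g⁻¹ * x * g ∈ K ⊔ zpowers t) :
    t * g = g * t := by
  have key : g⁻¹ * t * g ∈ K ⊔ zpowers t := by
    have e : (g⁻¹ * x * g) ^ Nat.card K = g⁻¹ * x ^ Nat.card K * g := by
      simpa using conj_pow (a := g⁻¹) (b := x) (i := Nat.card K)
    rcases h.memT.1 hx with hx' | hx'
    · rcases h.memT.1 hg with hg' | hg'
      · refine h.centK hg' (fun e => h1 (by simpa [mul_assoc] using congrArg (g * · * g⁻¹) e)) ?_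
        calc g⁻¹ * x * g * (g⁻¹ * t * g) = g⁻¹ * (x * t) * g := by group
          _ = _ := by rw [← h.Kt x hx']; group
      · rw [h.powT hg', h.powK hx'] at e
        exact absurd (by simpa using e) h.t1
    · rw [h.powT hx'] at e
      rw [← e]; exact pow_mem hg _
  rcases h.invT key (by
      calc g⁻¹ * t * g * (g⁻¹ * t * g) = g⁻¹ * (t * t) * g := by group
        _ = 1 := by rw [h.tt]; group) with e | e
  · exact absurd (by simpa [mul_assoc] using congrArg (g * · * g⁻¹) e) h.t1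
  · calc t * g = g * (g⁻¹ * t * g) := by group
      _ = _ := by rw [e]

variable [Finite G]

theorem cardT : Nat.card (K ⊔ zpowers t : Subgroup G) = 2 * Nat.card K :=
  card_two_mul le_sup_left h.tT h.tK fun _ hb => h.memT.1 hb

theorem cardH : Nat.card (centralizer ({t} : Set G)) = 4 * Nat.card K := by
  rw [card_two_mul (A := K ⊔ zpowers t) (a := s) (fun g hg => mem_centralizer_singleton_iff.2
    (h.Tt hg).symm) (mem_centralizer_singleton_iff.2 h.comm.symm) h.sT
    (fun b hb => h.memH.1 (mem_centralizer_singleton_iff.1 hb).symm), h.cardT]; ring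

theorem invol_conj {j : G} (hj : j * j = 1) (h1 : j ≠ 1) : ∃ g : G, g⁻¹ * j * g = t := by
  classical
  obtain ⟨P, htP, hsP⟩ := Invol.exists_sylow_mem_of_commute h.tt h.ss h.comm
  obtain ⟨g, hg⟩ := Invol.exists_conj_involution_mem_sylow P
    (orderOf_eq_prime (by rwa [pow_two]) h1)
  have hc : Nat.card (P : Subgroup G) ≤ 4 := by
    obtain ⟨n, hn⟩ := IsPGroup.iff_card.1 P.isPGroup'
    by_contra hlt
    have : 3 ≤ n := by
      by_contra h3
      have : n ≤ 2 := by omega
      interval_cases n <;> omega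
    exact h.n8 ((pow_dvd_pow 2 this).trans (hn ▸ card_subgroup_dvd_card _))
  have hts1 : t * s ≠ 1 := fun e => h.ts (by rw [eq_inv_of_mul_eq_one_left e, h.sinv])
  have hsub : ({1, t, s, t * s} : Set G) = P := by
    refine Set.eq_of_subset_of_ncard_le ?_ ?_
    · rintro _ (rfl | rfl | rfl | rfl)
      exacts [one_mem _, htP, hsP, mul_mem htP hsP]
    · rw [Set.ncard_insert_of_notMem (by simp [h.t1.symm, h.s1.symm, hts1.symm]),
        Set.ncard_insert_of_notMem (by simp [h.ts, h.s1]), Set.ncard_pair (by simp [h.t1])]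
      exact hc
  have hg' : g * j * g⁻¹ ∈ ({1, t, s, t * s} : Set G) := hsub ▸ hg
  rcases hg' with e | e | e | e
  · exact absurd (by simpa using e) h1
  · exact ⟨g⁻¹, by simpa using e⟩
  · refine ⟨g⁻¹ * w, ?_⟩
    calc _ = w⁻¹ * (g * j * g⁻¹) * w := by group
      _ = t := by rw [e, ← h.wt]; group
  · refine ⟨g⁻¹ * w * w, ?_⟩
    calc _ = w⁻¹ * (w⁻¹ * (g * j * g⁻¹) * w) * w := by group
      _ = t := by rw [Set.mem_singleton_iff.1 e, ← h.ws, ← h.wt]; group

theorem inA_of_comm {g y : G} (hy : InA (K ⊔ zpowers t) y) (hc : y * g = g * y) (h1 : g ≠ 1) :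
    InA (K ⊔ zpowers t) g := by
  obtain ⟨y1, x, hx⟩ := hy
  have e : t * (x⁻¹ * g * x) = x⁻¹ * g * x * t := by
    refine h.tiT hx (fun e => y1 (by simpa [mul_assoc] using congrArg (x * · * x⁻¹) e)) ?_
    have : (x⁻¹ * g * x)⁻¹ * (x⁻¹ * y * x) * (x⁻¹ * g * x) = x⁻¹ * y * x := by
      calc _ = x⁻¹ * (g⁻¹ * (y * g)) * x := by group
        _ = _ := by rw [hc]; group
    rwa [this]
  rcases h.memH.1 e with h2 | h2
  · exact ⟨h1, x, h2⟩
  · obtain ⟨z, hz⟩ := h.invol_conj (h.outer h2).1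
      (fun e => h1 (by simpa [mul_assoc] using congrArg (x * · * x⁻¹) e))
    exact ⟨h1, x * z, by rw [show (x * z)⁻¹ * g * (x * z) = t by rw [← hz]; group]; exact h.tT⟩

theorem inA_of_prime {r : ℕ} (hr : r.Prime) (hk : r ∣ 2 * Nat.card K) {g : G} (hg : r ∣ orderOf g) :
    InA (K ⊔ zpowers t) g := by
  haveI := Fact.mk hr
  have g1 : g ≠ 1 := by rintro rfl; exact hr.one_lt.ne' (by simpa using hg)
  set y := g ^ (orderOf g / r)
  have hy : orderOf y = r := orderOf_pow_orderOf_div (orderOf_pos g).ne' hg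
  have y1 : y ≠ 1 := fun e => hr.one_lt.ne' (by rw [← hy, e, orderOf_one])
  refine h.inA_of_comm (y := y) ?_ ((Commute.refl g).pow_left _) g1
  rcases (Nat.Prime.dvd_mul hr).1 hk with h2 | h2
  · obtain rfl := (Nat.prime_dvd_prime_iff_eq hr Nat.prime_two).1 h2
    obtain ⟨z, hz⟩ := h.invol_conj (j := y) (by rw [← pow_two, ← hy, pow_orderOf_eq_one]) y1
    exact ⟨y1, z, hz ▸ h.tT⟩
  · obtain ⟨x, hx⟩ := exists_prime_orderOf_dvd_card' r h2
    have hx' : orderOf (x : G) = r ^ 1 := by rw [orderOf_coe, hx, pow_one]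
    have x1 : (x : G) ≠ 1 := fun e => hr.one_lt.ne' (by rw [← pow_one r, ← hx', e, orderOf_one])
    obtain ⟨R, hR⟩ := (Invol.isPGroup_zpowers_of_orderOf hx').exists_le_sylow
    have hxR : (x : G) ∈ (R : Subgroup G) := hR (mem_zpowers _)
    haveI : Nontrivial (R : Subgroup G) := ⟨⟨⟨x, hxR⟩, 1, fun e => x1 (congrArg Subtype.val e)⟩⟩
    haveI := R.isPGroup'.center_nontrivial
    obtain ⟨z, hz⟩ := exists_ne (1 : center (R : Subgroup G))
    have hzc : ∀ a ∈ (R : Subgroup G), a * z.1.1 = z.1.1 * a := fun a ha =>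
      congrArg Subtype.val (mem_center_iff.1 z.2 ⟨a, ha⟩)
    have z1 : (z.1.1 : G) ≠ 1 := fun e => hz (Subtype.ext (Subtype.ext e))
    obtain ⟨a, ha⟩ := Invol.exists_conj_mem_sylow R (x := y) (k := 1) (by rw [hy, pow_one])
    refine InA.of_conj a (h.inA_of_comm (InA.of_mem (h.centK x.2 x1 (hzc _ hxR)) z1)
      (hzc _ ha).symm fun e => y1 (by simpa using e))

theorem not_coprime {g : G} (hg : InA (K ⊔ zpowers t) g) :
    ¬ (orderOf g).Coprime (2 * Nat.card K) := fun hc => by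
  obtain ⟨g1, x, hx⟩ := hg
  have := Subgroup.orderOf_dvd_natCard _ hx
  rw [h.cardT, show orderOf (x⁻¹ * g * x) = orderOf g by
    simpa using (MulAut.conj x⁻¹).orderOf_eq g] at this
  exact g1 (orderOf_eq_one_iff.1 (hc.eq_one_of_dvd this))

theorem coprime_of_not {g : G} (hg : ¬ InA (K ⊔ zpowers t) g) :
    (orderOf g).Coprime (2 * Nat.card K) :=
  Nat.coprime_of_dvd' fun r hr h1 h2 => absurd (h.inA_of_prime hr h2 h1) hg

theorem three_le (hK : K ≠ ⊥) : 3 ≤ Nat.card K := by
  have h1 : Nat.card K ≠ 1 := fun e => hK (card_eq_one.1 e)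
  obtain ⟨n, hn⟩ := h.Kodd
  omega

end VK

end Cfsg.Agent.Lib.AG
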