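/-
Brauer–Suzuki–Wall, part 2: signed irreducible characters and the functions `Θ_λ = (1 - λ)^G`.
-/
import Cfsg.Agent.Lib.AG.BSW1
import Cfsg.Agent.Lib.Char.BrauerSuzuki
import Cfsg.Agent.Lib.Char.PairCore
import Cfsg.Agent.FT.CF.Galois

set_option autoImplicit false
set_option linter.unusedSectionVars false

namespace Cfsg.Agent.Lib.AG

open Subgroup Cfsg.Agent.Lib Cfsg.Agent.Lib.Char Cfsg.Agent.Lib.Char.Pair Finset

variable {G : Type*} [Group G] [Fintype G]

/-- signed irreducible character -/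
def SI (f : G → ℂ) : Prop := ∃ i : Irr G, f = chi i ∨ f = -chi i

theorem SI.vc {f : G → ℂ} (h : SI f) : IsVChar f := by
  obtain ⟨i, rfl | rfl⟩ := h
  exacts [isVChar_chi i, (isVChar_chi i).neg]

theorem SI.norm {f : G → ℂ} (h : SI f) : ip f f = 1 := by
  obtain ⟨i, rfl | rfl⟩ := h <;> simp [ip_neg_left, ip_neg_right, ip_chi_chi]

theorem SI.cases {f g : G → ℂ} (hf : SI f) (hg : SI g) : ip f g = 0 ∨ g = f ∨ g = -f := by
  obtain ⟨i, hi⟩ := hf
  obtain ⟨j, hj⟩ := hg
  by_cases e : i = j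
  · subst e; rcases hi with rfl | rfl <;> rcases hj with rfl | rfl <;> simp
  · rcases hi with rfl | rfl <;> rcases hj with rfl | rfl <;>
      simp [ip_neg_left, ip_neg_right, ip_chi_chi, e]

theorem SI.eq_of_ip {f g : G → ℂ} (hf : SI f) (hg : SI g) (h : ip f g = 1) : g = f := by
  rcases hf.cases hg with e | e | e
  · rw [e] at h; exact absurd h zero_ne_one
  · exact e
  · rw [e, ip_neg_right, hf.norm] at h; norm_num at h

theorem SI.one_ne {f : G → ℂ} (h : SI f) : f 1 ≠ 0 := by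
  obtain ⟨i, rfl | rfl⟩ := h <;> simp [chi_one, (deg_pos i).ne']

theorem SI.gal {f : G → ℂ} (h : SI f) (u : ℂ →+* ℂ) : SI (fun g => u (f g)) := by
  have hv : IsVChar (fun g => u (f g)) := by
    have a : ∀ i : Irr G, IsVChar (fun g => u (chi i g)) := fun i => by
      have := (isChar_trace ((u.mapMatrix (m := Fin (deg i))).toMonoidHom.comp (rho i))).isVChar
      convert this using 2 with g
      simp [chi, Matrix.trace, map_sum]
    obtain ⟨i, rfl | rfl⟩ := h
    · exact a i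
    · simpa [Pi.neg_def] using (a i).neg
  refine hv.eq_of_norm_one ?_
  have := congrArg u h.norm
  simpa [ip, map_sum] using this

/-- class-sum functional -/
noncomputable def SJ (f : G → ℂ) : ℂ := ∑ a ∈ DD 2 G, ∑ b ∈ DD 2 G, f (a * b)

theorem SJ_add (f g : G → ℂ) : SJ (f + g) = SJ f + SJ g := by simp [SJ, sum_add_distrib]

theorem SJ_one : SJ (1 : G → ℂ) = (#(DD 2 G) : ℂ) ^ 2 := by simp [SJ, sq]

theorem SI.SJ {f : G → ℂ} (h : SI f) {t : G} (ht : ∀ a ∈ DD 2 G, IsConj t a) :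
    SJ f * f 1 = (#(DD 2 G) : ℂ) ^ 2 * f t ^ 2 := by
  have a : ∀ i : Irr G, AG.SJ (chi i) * chi i 1 = (#(DD 2 G) : ℂ) ^ 2 * chi i t ^ 2 := fun i => by
    have : sig 2 i = #(DD 2 G) * chi i t := by
      rw [sig, sum_congr rfl fun a ha => ((isClass_chi i).of_isConj (ht a ha)).symm]; simp
    rw [AG.SJ, sum_sum_chi_mul, this, chi_one, div_mul_cancel₀ _ (deg_ne_zero i), mul_pow]
  obtain ⟨i, rfl | rfl⟩ := h
  · exact a i
  · have := a i
    simp only [AG.SJ, Pi.neg_apply, sum_neg_distrib] at this ⊢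
    linear_combination this

theorem decomp3 {f e : G → ℂ} (hf : IsVChar f) (he : IsVChar e) (f1 : ip f 1 = 1) (e1 : ip e 1 = 1)
    (ff : ip f f = 3) (ee : ip e e = 4) (fe : ip f e = 2) :
    ∃ a c, SI a ∧ SI c ∧ f = 1 + a + c ∧ ip a 1 = 0 ∧ ip c 1 = 0 ∧ ip a c = 0 ∧
      ip a e = 1 ∧ ip c e = 0 := by
  classical
  obtain ⟨m, hm⟩ := hf
  obtain ⟨n, hn⟩ := he
  have c1 : ∀ (m : Irr G → ℤ) j, ip (∑ i, (m i : ℂ) • chi i) (chi j) = m j := fun m j =>
    ip_sum_smul_chi (fun i => (m i : ℂ)) j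
  have mt : m (triv G) = 1 := by
    have := c1 m (triv G); rw [← hm, chi_triv, f1] at this; exact_mod_cast this.symm
  have nt : n (triv G) = 1 := by
    have := c1 n (triv G); rw [← hn, chi_triv, e1] at this; exact_mod_cast this.symm
  have mm : ∑ i, m i * m i = 3 := by
    have := ip_sum_sum (fun i => (m i : ℂ)) (fun i => (m i : ℂ))
    rw [← hm, ff] at this; exact_mod_cast this.symm
  have nn : ∑ i, n i * n i = 4 := by
    have := ip_sum_sum (fun i => (n i : ℂ)) (fun i => (n i : ℂ))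
    rw [← hn, ee] at this; exact_mod_cast this.symm
  have mn : ∑ i, m i * n i = 2 := by
    have := ip_sum_sum (fun i => (m i : ℂ)) (fun i => (n i : ℂ))
    rw [← hm, ← hn, fe] at this; exact_mod_cast this.symm
  obtain ⟨a, a', h1, h2, h3, h4, h5, h6⟩ := int_norm_three (triv G) m mt mm
  have hs : f = 1 + (m a : ℂ) • chi a + (m a' : ℂ) • chi a' := by
    rw [hm, sum_eq_three h1 h2 h3 _ (fun i i1 i2 i3 => by rw [h6 i i1 i2 i3]; simp), mt, chi_triv]
    simp
  rw [sum_eq_three h1 h2 h3 _ (fun i i1 i2 i3 => by rw [h6 i i1 i2 i3]; simp), mt, nt] at mn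
  have b : n (triv G) * n (triv G) + n a * n a + n a' * n a' ≤ 4 := by
    have := sum_le_sum_of_subset_of_nonneg (f := fun i => n i * n i) (subset_univ {triv G, a, a'})
      fun i _ _ => mul_self_nonneg _
    rwa [nn, sum_insert (by simp [h2.symm, h3.symm]), sum_pair h1, ← add_assoc] at this
  rw [nt] at b
  have si : ∀ j, m j * m j = 1 → SI ((m j : ℂ) • chi j) := fun j hj => by
    rcases Int.eq_one_or_neg_one_of_mul_eq_one hj with e | e <;> rw [e]
    exacts [⟨j, Or.inl (by simp)⟩, ⟨j, Or.inr (by simp)⟩]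
  have i1 : ∀ j, j ≠ triv G → ip ((m j : ℂ) • chi j) 1 = 0 := fun j hj => by
    rw [ip_smul_left, ← chi_triv, ip_chi_chi, if_neg hj, mul_zero]
  have i2 : ∀ j, ip ((m j : ℂ) • chi j) e = ((m j * n j : ℤ) : ℂ) := fun j => by
    rw [ip_smul_left, ip_comm, hn, c1]; push_cast; ring
  have i3 : ip ((m a : ℂ) • chi a) ((m a' : ℂ) • chi a') = 0 := by
    rw [ip_smul_left, ip_smul_right, ip_chi_chi, if_neg h1]; simp
  have : (m a * n a = 1 ∧ m a' * n a' = 0) ∨ (m a * n a = 0 ∧ m a' * n a' = 1) := by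
    have x1 : (m a * n a) * (m a * n a) = n a * n a := by linear_combination (n a * n a) * h4
    have x2 : (m a' * n a') * (m a' * n a') = n a' * n a' := by linear_combination (n a' * n a') * h5
    rw [← x1, ← x2] at b
    generalize m a * n a = x at *
    generalize m a' * n a' = y at *
    have : y = 1 - x := by omega
    subst this
    have : 0 ≤ x := by nlinarith
    have : x ≤ 1 := by nlinarith
    omega
  rcases this with ⟨e1, e2⟩ | ⟨e1, e2⟩
  · exact ⟨_, _, si a h4, si a' h5, hs, i1 a h2, i1 a' h3, i3, by simp [i2, e1], by simp [i2, e2]⟩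
  · exact ⟨_, _, si a' h5, si a h4, by rw [hs]; abel, i1 a' h3, i1 a h2, by rw [ip_comm, i3],
      by simp [i2, e2], by simp [i2, e1]⟩

open Classical in
theorem ip_lin_lin (l m : G →* ℂ) : ip (l : G → ℂ) m = if l = m then 1 else 0 := by
  obtain ⟨i, hi⟩ := exists_chi_eq_lin l
  obtain ⟨j, hj⟩ := exists_chi_eq_lin m
  rw [← hi, ← hj, ip_chi_chi]
  refine if_congr ⟨fun e => DFunLike.coe_injective (by rw [← hi, ← hj, e]), fun e => ?_⟩ rfl rfl
  exact chi_injective (by rw [hi, hj, e])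

/-- the conjugate linear character -/
def lbar (l : G →* ℂ) : G →* ℂ where
  toFun x := l x⁻¹
  map_one' := by simp
  map_mul' x y := by rw [mul_inv_rev, map_mul, mul_comm]

/-- `Θ_λ` -/
noncomputable def Th (T : Subgroup G) (l : T →* ℂ) : G → ℂ := ind T (1 - ⇑l)

theorem vc_Th (T : Subgroup G) (l : T →* ℂ) : IsVChar (Th T l) := by
  have := Fintype.ofFinite T
  exact (isVChar_one.sub (isChar_lin l).isVChar).ind

theorem ip_Th_congr (T : Subgroup G) [Fintype T] (l : T →* ℂ) {f : G → ℂ} (hf : IsClass f)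
    (f' : T → ℂ) (h : ∀ x : T, x ≠ 1 → f x = f' x) : ip (Th T l) f = ip (1 - ⇑l) f' := by
  rw [Th, ip_ind _ _ hf, ip, ip]
  congr 1
  refine sum_congr rfl fun x _ => ?_
  by_cases e : x = 1
  · simp [e]
  · rw [← h x⁻¹ (by simpa using e)]; rfl

theorem ip_Th_const (T : Subgroup G) {l : T →* ℂ} (hl : l ≠ 1) {f : G → ℂ} (hf : IsClass f)
    (c : ℂ) (h : ∀ x ∈ T, x ≠ 1 → f x = c) : ip (Th T l) f = c := by
  have := Fintype.ofFinite T
  rw [ip_Th_congr T l hf (c • ⇑(1 : T →* ℂ)) (fun x hx => by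
      simp [h x x.2 (fun e => hx (Subtype.ext e))]), ip_smul_right,
    show (1 : T → ℂ) = ⇑(1 : T →* ℂ) from rfl, ip_sub_left, ip_lin_lin, ip_lin_lin, if_pos rfl,
    if_neg hl]
  simp

theorem Th_one (T : Subgroup G) (l : T →* ℂ) : Th T l 1 = 0 := by simp [Th, ind_one]

theorem Th_zero (T : Subgroup G) (l : T →* ℂ) {g : G} (hg : ¬ InA T g) : Th T l g = 0 := by
  by_cases e : g = 1
  · rw [e, Th_one]
  · exact ind_eq_zero (A := T) (fun h _ => h.2) fun x hx => hg ⟨e, x, hx⟩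

/-- values on `T#` from the inner products with the `Θ_λ` -/
theorem val_of_ip (T : Subgroup G) (hT : ∀ a b : T, a * b = b * a) {f : G → ℂ} (hf : IsClass f)
    (h : ∀ l : T →* ℂ, l ≠ 1 → ip (Th T l) f = 1) {x : G} (hx : x ∈ T) (x1 : x ≠ 1) : f x = 1 := by
  classical
  have := Fintype.ofFinite T
  have e := (hf.comp T.subtype).apply_eq_sum ⟨x, hx⟩
  have c : ∀ i : Irr T, ip (f ∘ T.subtype) (chi i) =
      (ip (f ∘ T.subtype) 1 - 1) + if i = triv T then 1 else 0 := fun i => by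
    split_ifs with hi
    · rw [hi, chi_triv]; ring
    · have := h (linOf (deg_eq_one_of_comm hT i)) (fun e => hi (eq_triv_iff.2
        (congrArg DFunLike.coe e)))
      rw [Th, ip_ind _ _ hf, ip_sub_left, ip_comm, ip_comm (linOf _)] at this
      change _ - ip _ (chi i) = _ at this
      linear_combination -this
  have s0 := sum_deg_mul_chi (G := T) ⟨x, hx⟩
  rw [if_neg (fun e => x1 (congrArg Subtype.val e))] at s0
  simp only [deg_eq_one_of_comm hT, Nat.cast_one, one_mul] at s0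
  simp only [c, add_mul, sum_add_distrib, ← mul_sum, s0, ite_mul, zero_mul, one_mul, sum_ite_eq',
    mem_univ, if_true, chi_triv] at e
  simpa using e

end Cfsg.Agent.Lib.AG
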