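/-
Brauer–Suzuki–Wall, part 3: the character `ψ` which is `1` on `T#`.
-/
import Cfsg.Agent.Lib.AG.BSW2

set_option autoImplicit false
set_option linter.unusedSectionVars false

namespace Cfsg.Agent.Lib.AG

open Subgroup Cfsg.Agent.Lib Cfsg.Agent.Lib.Char Cfsg.Agent.Lib.Char.Pair Finset

variable {G : Type*} [Group G] [Fintype G] {t s w : G} {K : Subgroup G}

theorem mem_DD2 {a : G} : a ∈ DD 2 G ↔ a * a = 1 ∧ a ≠ 1 := by
  rw [mem_DD, orderOf_eq_prime_iff, pow_two]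

namespace VK

variable (h : VS t s w K)
include h

theorem Th_mem (l : ↥(K ⊔ zpowers t) →* ℂ) (x : ↥(K ⊔ zpowers t)) :
    Th _ l x = 2 - l x - l x⁻¹ := by
  have := Fintype.ofFinite ↥(K ⊔ zpowers t)
  by_cases x1 : x = 1
  · rw [x1, Subgroup.coe_one, Th_one]; simp; norm_num
  have hab : s⁻¹ * x * s ∈ K ⊔ zpowers t := by rw [h.sinv, h.Tinv x.2]; exact inv_mem x.2
  have := ind_apply_of_two (H := K ⊔ zpowers t) (f := 1 - ⇑l)
    (isVChar_one.sub (isChar_lin l).isVChar).isClass (A := (K ⊔ zpowers t : Subgroup G))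
    (fun y _ => y.2) x h.sT (fun g hg => by
      rcases h.memH.1 (h.tiT x.2 (fun e => x1 (Subtype.ext e)) hg) with e | e
      · exact Or.inl e
      · refine Or.inr ?_
        have := h.Tinv e
        rw [mul_assoc, mul_assoc, h.ss, mul_one] at this
        rw [h.sinv, this]; exact inv_mem e) hab
  have e : (⟨_, hab⟩ : ↥(K ⊔ zpowers t)) = x⁻¹ := Subtype.ext (by
    show s⁻¹ * x * s = _; rw [h.sinv, h.Tinv x.2]; rfl)
  rw [Th, this, e]; simp; ring

open Classical in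
theorem ip_Th_Th {l m : ↥(K ⊔ zpowers t) →* ℂ} (hl : l ≠ 1) (hm : m ≠ 1) :
    ip (Th _ l) (Th _ m) = 2 + (if l = m then 1 else 0) + (if l = lbar m then 1 else 0) := by
  have := Fintype.ofFinite ↥(K ⊔ zpowers t)
  have hm' : lbar m ≠ 1 := fun e => hm (MonoidHom.ext fun x => by
    have := DFunLike.congr_fun e x⁻¹; simpa [lbar] using this)
  rw [ip_Th_congr _ l (vc_Th _ m).isClass ((⇑(1 : _ →* ℂ) - ⇑m) + (⇑(1 : _ →* ℂ) - ⇑(lbar m)))
    (fun x _ => by rw [h.Th_mem]; simp [lbar]; ring),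
    show (1 : ↥(K ⊔ zpowers t) → ℂ) = ⇑(1 : ↥(K ⊔ zpowers t) →* ℂ) from rfl]
  simp only [ip_add_right, ip_sub_left, ip_sub_right, ip_lin_lin, if_neg hl, if_neg hm.symm,
    if_neg hm'.symm, if_true]
  ring

theorem exists_eps : ∃ e : ↥(K ⊔ zpowers t) →* ℂ, (∀ x : ↥(K ⊔ zpowers t), (x : G) ∈ K → e x = 1) ∧
    e ⟨t, h.tT⟩ = -1 := by
  classical
  refine ⟨⟨⟨fun x => if (x : G) ∈ K then 1 else -1, by simp⟩, fun x y => ?_⟩,
    fun x hx => by simp [hx], by simp [h.tK]⟩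
  by_cases hx : (x : G) ∈ K
  · simp [hx, K.mul_mem_cancel_left hx]
  · by_cases hy : (y : G) ∈ K
    · simp [hx, hy, K.mul_mem_cancel_right hy]
    · have := mul_mem ((h.memT.1 x.2).resolve_left hx) ((h.memT.1 y.2).resolve_left hy)
      rw [mul_assoc, ← mul_assoc t, h.Tt y.2, mul_assoc, h.tt, mul_one] at this
      simp [hx, hy, this]

theorem lin_ext {l m : ↥(K ⊔ zpowers t) →* ℂ} (h1 : ∀ x : ↥(K ⊔ zpowers t), (x : G) ∈ K → l x = m x)
    (h2 : l ⟨t, h.tT⟩ = m ⟨t, h.tT⟩) : l = m := by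
  refine MonoidHom.ext fun x => ?_
  rcases h.memT.1 x.2 with e | e
  · exact h1 x e
  · have : x = (x * ⟨t, h.tT⟩) * ⟨t, h.tT⟩ := Subtype.ext (by simp [mul_assoc, h.tt])
    rw [this, map_mul, map_mul m, h1 _ e, h2]

theorem lin_t (l : ↥(K ⊔ zpowers t) →* ℂ) : l ⟨t, h.tT⟩ = 1 ∨ l ⟨t, h.tT⟩ = -1 :=
  mul_self_eq_one_iff.1 (by rw [← map_mul, show (⟨t, h.tT⟩ * ⟨t, h.tT⟩ : ↥(K ⊔ zpowers t)) = 1 from
    Subtype.ext h.tt, map_one])

theorem lbar_t (l : ↥(K ⊔ zpowers t) →* ℂ) : lbar l ⟨t, h.tT⟩ = l ⟨t, h.tT⟩ :=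
  congrArg l (Subtype.ext h.tinv)

theorem real_K {l : ↥(K ⊔ zpowers t) →* ℂ} (hl : l = lbar l) (x : ↥(K ⊔ zpowers t))
    (hx : (x : G) ∈ K) : l x = 1 := by
  have e : l x * l x = 1 := by
    nth_rewrite 2 [hl]; show l x * l x⁻¹ = 1; rw [← map_mul, mul_inv_cancel, map_one]
  obtain ⟨n, hn⟩ := h.Kodd
  have e2 : l x ^ Nat.card K = 1 := by
    rw [← map_pow, show x ^ Nat.card K = 1 from Subtype.ext (h.powK hx), map_one]
  rwa [hn, pow_succ, pow_mul, pow_two, e, one_pow, one_mul] at e2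

theorem DD_conj (a : G) (ha : a ∈ DD 2 G) : IsConj t a := by
  obtain ⟨g, hg⟩ := h.invol_conj (mem_DD2.1 ha).1 (mem_DD2.1 ha).2
  exact isConj_iff.2 ⟨g, by rw [← hg]; group⟩

theorem card_DD : #(DD 2 G) = (centralizer ({t} : Set G)).index := by
  classical
  rw [← Invol.card_conj_eq_index, Nat.card_eq_fintype_card, Fintype.card_subtype]
  congr 1; ext a
  simp only [mem_filter, mem_univ, true_and]
  refine ⟨h.DD_conj a, fun e => ?_⟩
  obtain ⟨g, rfl⟩ := isConj_iff.1 e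
  exact mem_DD2.2 ⟨by rw [conj_mul, h.tt]; simp, by simpa using h.t1⟩

theorem SJ_Th {l : ↥(K ⊔ zpowers t) →* ℂ} (hl : l ≠ 1) :
    SJ (Th _ l) = 2 * Nat.card K * Fintype.card G := by
  classical
  let n : G → ℂ := fun g => ∑ a ∈ DD 2 G, ∑ b ∈ DD 2 G, if a * b * g = 1 then 1 else 0
  have hc : ∀ (x : G) (F : G → ℂ), ∑ a ∈ DD 2 G, F (x⁻¹ * a * x) = ∑ a ∈ DD 2 G, F a := fun x F =>
    sum_bij' (fun b _ => x⁻¹ * b * x) (fun b _ => x * b * x⁻¹)
      (fun b hb => by rw [mem_DD] at hb ⊢; rw [← hb]; simpa using (MulAut.conj x⁻¹).orderOf_eq b)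
      (fun b hb => by rw [mem_DD] at hb ⊢; rw [← hb]; exact (MulAut.conj x).orderOf_eq b)
      (fun b _ => by group) (fun b _ => by group) (fun b _ => rfl)
  have hn : IsClass n := fun g x => by
    simp only [n]
    rw [← hc x (fun a => ∑ b ∈ DD 2 G, if a * b * g = 1 then 1 else 0)]
    refine sum_congr rfl fun a _ => ?_
    rw [← hc x (fun b => if x⁻¹ * a * x * b * g = 1 then 1 else 0)]
    refine sum_congr rfl fun b _ => if_congr ?_ rfl rfl
    rw [show x⁻¹ * a * x * (x⁻¹ * b * x) * g = x⁻¹ * (a * b * (x * g * x⁻¹)) * x by group]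
    exact ⟨fun e => by rw [e]; simp, fun e => by simpa [mul_assoc] using congrArg (x * · * x⁻¹) e⟩
  have e1 : ∀ f : G → ℂ, SJ f = Fintype.card G * ip f n := fun f => by
    rw [ip, mul_inv_cancel_left₀ card_ne_zero']
    simp only [n, mul_sum, mul_inv_eq_one]
    rw [sum_comm, SJ]
    refine sum_congr rfl fun a _ => ?_
    rw [sum_comm]
    exact sum_congr rfl fun b _ => by simp
  rw [e1, ip_Th_const _ hl hn (2 * Nat.card K) fun x hx x1 => ?_, mul_comm]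
  have : ∀ a ∈ DD 2 G, (∑ b ∈ DD 2 G, if a * b * x = 1 then (1 : ℂ) else 0) =
      if a * s ∈ K ⊔ zpowers t then 1 else 0 := fun a ha => by
    obtain ⟨a2, a1⟩ := mem_DD2.1 ha
    have ai : a⁻¹ = a := inv_eq_of_mul_eq_one_right a2
    have : ∀ b, a * b * x = 1 ↔ b = a * x⁻¹ := fun b =>
      ⟨fun e => by rw [← eq_inv_of_mul_eq_one_left e, ← mul_assoc, a2, one_mul], fun e => by rw [e, ← mul_assoc, a2]; simp⟩
    simp only [this, sum_ite_eq', mem_DD2]
    refine if_congr ⟨fun ⟨b2, b1⟩ => ?_, fun e => ?_⟩ rfl rfl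
    · have e3 : a⁻¹ * x⁻¹ * a = x := by
        rw [ai]; calc a * x⁻¹ * a = a * x⁻¹ * (a * x⁻¹) * x := by group
          _ = x := by rw [b2, one_mul]
      refine (h.memH.1 (h.tiT (inv_mem hx) (inv_ne_one.2 x1) (e3.symm ▸ hx))).resolve_left fun e => ?_
      have r1 := (h.invT e a2).resolve_left a1
      have r2 := (h.invT (mul_mem e (inv_mem hx)) b2).resolve_left b1
      exact x1 (by rw [← r1] at r2; simpa using r2)
    · have e' : a * x⁻¹ * s ∈ K ⊔ zpowers t := by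
        have : a * x⁻¹ * s = a * s * (s * x⁻¹ * s) := by
          rw [show a * s * (s * x⁻¹ * s) = a * (s * s) * x⁻¹ * s by group, h.ss, mul_one]
        rw [this, h.Tinv (inv_mem hx), inv_inv]; exact mul_mem e hx
      exact ⟨(h.outer e').1, fun e2 => h.outer_not e' (e2 ▸ one_mem _)⟩
  simp only [n]
  rw [sum_congr rfl this, sum_boole]
  have : #{a ∈ DD 2 G | a * s ∈ K ⊔ zpowers t} = Nat.card ↥(K ⊔ zpowers t) := by
    rw [Nat.card_eq_fintype_card, Fintype.card_subtype]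
    refine card_bij' (fun a _ => a * s) (fun a _ => a * s) (fun a ha => by simpa using (mem_filter.1 ha).2)
      (fun a ha => ?_) (fun a _ => by simp [mul_assoc, h.ss]) (fun a _ => by simp [mul_assoc, h.ss])
    have e : a * s * s ∈ K ⊔ zpowers t := by simpa [mul_assoc, h.ss] using ha
    exact mem_filter.2 ⟨mem_DD2.2 ⟨(h.outer e).1, fun e2 => h.outer_not e (e2 ▸ one_mem _)⟩, e⟩
  rw [this, h.cardT]; push_cast; ring

end VK

end Cfsg.Agent.Lib.AG
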