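/-
Brauer–Suzuki–Wall, part 4: coherence, the character `ψ` and the order of `G`.
-/
import Cfsg.Agent.Lib.AG.BSW3

set_option autoImplicit false
set_option linter.unusedSectionVars false

namespace Cfsg.Agent.Lib.AG

open Subgroup Cfsg.Agent.Lib Cfsg.Agent.Lib.Char Cfsg.Agent.Lib.Char.Pair Finset

variable {G : Type*} [Group G] [Fintype G] {t s w : G} {K : Subgroup G}

/-- `f = 1 + a + c` with `a` the constituent shared with `E` -/
structure Dec (f E a c : G → ℂ) : Prop where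
  sa : SI a
  sc : SI c
  eq : f = 1 + a + c
  a1 : ip a 1 = 0
  c1 : ip c 1 = 0
  ac : ip a c = 0
  aE : ip a E = 1
  cE : ip c E = 0

theorem ip_one_one : ip (1 : G → ℂ) 1 = 1 := by
  rw [← chi_triv, ip_chi_chi, if_pos rfl]

theorem Dec.cross {f f' E a c a' c' : G → ℂ} (d : Dec f E a c) (d' : Dec f' E a' c') :
    ip a c' = 0 := by
  rcases d.sa.cases d'.sc with e | e | e
  · exact e
  · have := d'.cE; rw [e, d.aE] at this; exact absurd this one_ne_zero
  · have := d'.cE; rw [e, ip_neg_left, d.aE] at this; norm_num at this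

theorem Dec.dich {f f' E a c a' c' : G → ℂ} (d : Dec f E a c) (d' : Dec f' E a' c')
    (h : ip f f' = 2) : a' = a ∨ (ip a a' = 0 ∧ c' = c) := by
  rcases d.sa.cases d'.sa with e | e | e
  · refine Or.inr ⟨e, d.sc.eq_of_ip d'.sc ?_⟩
    rw [d.eq, d'.eq] at h
    simp only [ip_add_left, ip_add_right, ip_one_one, d.a1, d.c1, ip_comm 1 a', ip_comm 1 c', d'.a1,
      d'.c1, e, d.cross d', ip_comm c a', d'.cross d] at h
    linear_combination h
  · exact Or.inl e
  · have := d'.aE; rw [e, ip_neg_left, d.aE] at this; norm_num at this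

namespace VK

variable (h : VS t s w K)
include h

theorem real_eq {l e : ↥(K ⊔ zpowers t) →* ℂ} (he : ∀ x : ↥(K ⊔ zpowers t), (x : G) ∈ K → e x = 1)
    (het : e ⟨t, h.tT⟩ = -1) (hl : l = lbar l) : l = 1 ∨ l = e := by
  rcases h.lin_t l with e1 | e1
  · exact Or.inl (h.lin_ext (fun x hx => h.real_K hl x hx) e1)
  · exact Or.inr (h.lin_ext (fun x hx => by rw [h.real_K hl x hx, he x hx]) (by rw [e1, het]))

theorem exists_dec {l e : ↥(K ⊔ zpowers t) →* ℂ} (het : e ⟨t, h.tT⟩ = -1) (he : e = lbar e)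
    (hl : l ≠ lbar l) : ∃ a c, Dec (Th _ l) (Th _ e) a c := by
  have l1 : l ≠ 1 := by rintro rfl; exact hl (MonoidHom.ext fun x => rfl)
  have e1 : e ≠ 1 := by rintro rfl; norm_num at het
  have le : l ≠ e := by rintro rfl; exact hl he
  obtain ⟨a, c, h1, h2, h3, h4, h5, h6, h7, h8⟩ := decomp3 (vc_Th _ l) (vc_Th _ e)
    (ip_Th_const _ l1 (isClass_const 1) 1 fun _ _ _ => rfl)
    (ip_Th_const _ e1 (isClass_const 1) 1 fun _ _ _ => rfl)
    (by rw [h.ip_Th_Th l1 l1, if_pos rfl, if_neg hl]; norm_num)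
    (by rw [h.ip_Th_Th e1 e1, if_pos rfl, if_pos he]; norm_num)
    (by rw [h.ip_Th_Th l1 e1, if_neg le, ← he, if_neg le]; norm_num)
  exact ⟨a, c, h1, h2, h3, h4, h5, h6, h7, h8⟩

theorem Th_t (l : ↥(K ⊔ zpowers t) →* ℂ) : Th _ l t = 2 - 2 * l ⟨t, h.tT⟩ := by
  have := h.Th_mem l ⟨t, h.tT⟩
  rw [show l (⟨t, h.tT⟩ : ↥(K ⊔ zpowers t))⁻¹ = _ from h.lbar_t l] at this
  linear_combination this

theorem coh_pm {l m e : ↥(K ⊔ zpowers t) →* ℂ} (het : e ⟨t, h.tT⟩ = -1) (he : e = lbar e)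
    (l1 : l ≠ 1) (hl : l ⟨t, h.tT⟩ = 1) (hm : m ⟨t, h.tT⟩ = -1) {a c a' c' : G → ℂ}
    (d : Dec (Th _ l) (Th _ e) a c) (d' : Dec (Th _ m) (Th _ e) a' c') : a' = a := by
  have m1 : m ≠ 1 := by rintro rfl; norm_num at hm
  have e1 : e ≠ 1 := by rintro rfl; norm_num at het
  refine (d.dich d' ?_).resolve_right fun ⟨haa, hc⟩ => ?_
  · rw [h.ip_Th_Th l1 m1, if_neg (by rintro rfl; rw [hl] at hm; norm_num at hm),
      if_neg (by rintro rfl; rw [h.lbar_t, hm] at hl; norm_num at hl)]; norm_num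
  subst hc
  have hd : SI (Th _ e - 1 - a - a') := by
    refine (((vc_Th _ e).sub isVChar_one).sub d.sa.vc).sub d'.sa.vc |>.eq_of_norm_one ?_
    have E1 : ip (Th _ e) 1 = 1 := ip_Th_const _ e1 (isClass_const 1) 1 fun _ _ _ => rfl
    have EE : ip (Th _ e) (Th _ e) = 4 := by rw [h.ip_Th_Th e1 e1, if_pos rfl, if_pos he]; norm_num
    simp only [ip_sub_left, ip_sub_right, E1, EE, ip_comm 1 (Th _ e), ip_comm (Th _ e) a,
      ip_comm (Th _ e) a', d.aE, d'.aE, ip_one_one, ip_comm 1 a, ip_comm 1 a', d.a1, d'.a1,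
      d.sa.norm, d'.sa.norm, haa, ip_comm a' a]
    norm_num
  obtain ⟨b, hb⟩ : ∃ b, b = Th _ e - 1 - a - a' := ⟨_, rfl⟩
  rw [← hb] at hd
  have hE : Th _ e = 1 + a + a' + b := by rw [hb]; abel
  have v1 := congrFun d.eq 1
  have v2 := congrFun d'.eq 1
  have v3 := congrFun hE 1
  have t1 := congrFun d.eq t
  have t2 := congrFun d'.eq t
  have t3 := congrFun hE t
  have s1 := h.SJ_Th l1
  have s2 := h.SJ_Th m1
  have s3 := h.SJ_Th e1
  rw [d.eq] at s1; rw [d'.eq] at s2; rw [hE] at s3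
  simp only [SJ_add, Th_one, h.Th_t, hl, hm, het, Pi.add_apply, Pi.one_apply] at v1 v2 v3 t1 t2 t3 s1 s2 s3
  have p1 := d.sa.SJ h.DD_conj
  have p2 := d'.sa.SJ h.DD_conj
  have p3 := d.sc.SJ h.DD_conj
  have p4 := hd.SJ h.DD_conj
  have hN : (#(DD 2 G) : ℂ) ^ 2 ≠ 0 := by
    rw [h.card_DD]; exact pow_ne_zero _ (by exact_mod_cast index_ne_zero_of_finite)
  generalize (#(DD 2 G) : ℂ) ^ 2 = N at *
  have y1 : a' 1 = a 1 := by linear_combination v1 - v2
  have y2 : c' 1 = -1 - a 1 := by linear_combination -v1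
  have y3 : b 1 = -1 - 2 * a 1 := by linear_combination -v3 - y1
  have x1 : a t = -2 := by
    have : N * (a' t ^ 2 - a t ^ 2) = 0 := by
      linear_combination p1 - p2 + SJ a' * y1 + a 1 * (s2 - s1)
    have := (mul_eq_zero.1 this).resolve_left hN
    have e : a' t = a t + 4 := by linear_combination t1 - t2
    rw [e] at this; linear_combination this / 8
  have x2 : a' t = 2 := by linear_combination t1 - t2 + x1
  have x3 : c' t = 1 := by linear_combination -t1 - x1
  have x4 : b t = 3 := by linear_combination -t3 - x1 - x2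
  rw [y1, x2] at p2; rw [y2, x3] at p3; rw [y3, x4] at p4
  have : N * (a 1 + 2) ^ 2 = 0 := by
    have s4 : SJ c' = SJ a' + SJ b := by linear_combination s1 - s3
    rw [s4] at p3
    linear_combination (-(1 + a 1) * (1 + 2 * a 1)) * p2 + ((1 + a 1) * a 1) * p4 -
      ((1 + 2 * a 1) * a 1) * p3
  have y4 : c' 1 = 1 := by
    have := pow_eq_zero_iff two_ne_zero |>.1 ((mul_eq_zero.1 this).resolve_left hN)
    linear_combination y2 - this
  obtain ⟨j, rfl | rfl⟩ := d.sc
  · have := h.simple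
    rcases (kerI_normal j).eq_bot_or_eq_top with e | e
    · have : t ∈ kerI j := mem_kerI.2 (by rw [x3, ← chi_one, y4])
      exact h.t1 (by rwa [e, mem_bot] at this)
    · have := d.c1; rw [kerI_eq_top_iff.1 e, chi_triv, ip_one_one] at this; exact one_ne_zero this
  · rw [Pi.neg_apply, chi_one] at y4
    have : ((deg j + 1 : ℕ) : ℂ) = 0 := by push_cast; linear_combination -y4
    exact absurd (Nat.cast_eq_zero.1 this) (by omega)

theorem coh {l m e : ↥(K ⊔ zpowers t) →* ℂ} (het : e ⟨t, h.tT⟩ = -1) (he : e = lbar e)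
    (hl : l ≠ lbar l) (hm : m ≠ lbar m) {a c a' c' : G → ℂ}
    (d : Dec (Th _ l) (Th _ e) a c) (d' : Dec (Th _ m) (Th _ e) a' c') : a' = a := by
  have l1 : l ≠ 1 := by rintro rfl; exact hl (MonoidHom.ext fun x => rfl)
  have m1 : m ≠ 1 := by rintro rfl; exact hm (MonoidHom.ext fun x => rfl)
  have hel : e * l ≠ lbar (e * l) := fun e2 => hl (MonoidHom.ext fun x => by
    have := DFunLike.congr_fun e2 x
    have e3 : e x⁻¹ = e x := (DFunLike.congr_fun he x).symm
    have e4 : e x ≠ 0 := fun e5 => by simpa [e5] using lin_norm e x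
    simp only [lbar, MonoidHom.mul_apply, MonoidHom.coe_mk, OneHom.coe_mk, e3] at this ⊢
    exact mul_left_cancel₀ e4 this)
  have el1 : e * l ≠ 1 := by intro e2; rw [e2] at hel; exact hel (MonoidHom.ext fun x => rfl)
  obtain ⟨a2, c2, d2⟩ := h.exists_dec het he hel
  rcases h.lin_t l with e1 | e1 <;> rcases h.lin_t m with e2 | e2
  · have : (e * l) ⟨t, h.tT⟩ = -1 := by simp [het, e1]
    rw [← h.coh_pm het he l1 e1 this d d2, h.coh_pm het he m1 e2 this d' d2]
  · exact h.coh_pm het he l1 e1 e2 d d'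
  · exact (h.coh_pm het he m1 e2 e1 d' d).symm
  · have : (e * l) ⟨t, h.tT⟩ = 1 := by simp [het, e1]
    rw [h.coh_pm het he el1 this e1 d2 d, h.coh_pm het he el1 this e2 d2 d']

theorem exists_nonreal (hK : K ≠ ⊥) : ∃ l : ↥(K ⊔ zpowers t) →* ℂ, l ≠ lbar l := by
  classical
  have := Fintype.ofFinite ↥(K ⊔ zpowers t)
  by_contra! hc
  obtain ⟨x, hx, x1⟩ := (bot_or_exists_ne_one K).resolve_left hK
  have hT : ∀ a b : ↥(K ⊔ zpowers t), a * b = b * a := fun a b => Subtype.ext (h.Tcomm a.2 b.2)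
  have s0 := sum_deg_mul_chi (G := ↥(K ⊔ zpowers t)) ⟨x, mem_sup_left hx⟩
  rw [if_neg (fun e => x1 (congrArg Subtype.val e)), sum_congr rfl fun i _ => by
    rw [deg_eq_one_of_comm hT, show chi i _ = 1 from
      h.real_K (hc (linOf (deg_eq_one_of_comm hT i))) _ hx]] at s0
  have : Nonempty (Irr ↥(K ⊔ zpowers t)) := ⟨triv _⟩
  simp at s0

theorem char (hK : K ≠ ⊥) : ∃ (ψ : G → ℤ), SI (fun g => (ψ g : ℂ)) ∧ ∑ g, ψ g = 0 ∧
    (∀ x, InA (K ⊔ zpowers t) x → ψ x = 1) ∧
    (centralizer ({t} : Set G)).index * (ψ 1 - 1) ^ 2 = 8 * (Nat.card K : ℤ) ^ 2 * (ψ 1 * (ψ 1 + 1)) := by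
  have := Fintype.ofFinite ↥(K ⊔ zpowers t)
  obtain ⟨e, heK, het⟩ := h.exists_eps
  have he : e = lbar e := h.lin_ext (fun x hx => by
    rw [heK x hx]; exact (heK x⁻¹ (inv_mem hx)).symm) (h.lbar_t e).symm
  obtain ⟨l, hl⟩ := h.exists_nonreal hK
  have l1 : l ≠ 1 := by rintro rfl; exact hl (MonoidHom.ext fun x => rfl)
  obtain ⟨a, c, d⟩ := h.exists_dec het he hl
  have hT : ∀ x ∈ K ⊔ zpowers t, x ≠ 1 → a x = 1 := fun x hx x1 =>
    val_of_ip _ (fun a b => Subtype.ext (h.Tcomm a.2 b.2)) d.sa.vc.isClass (fun m m1 => by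
      by_cases hm : m = lbar m
      · rw [(h.real_eq heK het hm).resolve_left m1, ip_comm, d.aE]
      · obtain ⟨a', c', d'⟩ := h.exists_dec het he hm
        rw [← h.coh het he hl hm d d', d'.eq, ip_add_left, ip_add_left, ip_comm 1, d'.a1, d'.sa.norm,
          ip_comm, d'.ac]; simp) hx x1
  have ct : c t ^ 2 = 4 := by
    have := congrFun d.eq t
    rw [h.Th_t] at this
    simp only [Pi.add_apply, Pi.one_apply, hT t h.tT h.t1] at this
    rcases h.lin_t l with e1 | e1 <;> rw [e1] at this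
    · rw [show c t = -2 by linear_combination -this]; norm_num
    · rw [show c t = 2 by linear_combination -this]; norm_num
  have hint : ∀ g, ∃ n : ℤ, a g = n := fun g => by
    refine FT.exists_int_of_fixed (d.sa.vc.isIntegral g) fun u => ?_
    have su := d.sa.gal u
    have v : ∀ x ∈ K ⊔ zpowers t, x ≠ 1 → u (a x) = 1 := fun x hx x1 => by rw [hT x hx x1, map_one]
    have i1 := ip_Th_const _ l1 su.vc.isClass 1 v
    have i2 : ip 1 (fun g => u (a g)) = 0 := by
      have := congrArg u ((ip_comm _ _).trans d.a1)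
      simpa [ip, map_sum] using this
    have i3 : ip c (fun g => u (a g)) = 0 := by
      rcases d.sc.cases su with e1 | e1 | e1
      · exact e1
      · have := congrFun e1 t; rw [v t h.tT h.t1] at this; rw [← this] at ct; norm_num at ct
      · have := congrFun e1 t
        rw [v t h.tT h.t1, Pi.neg_apply, eq_comm, neg_eq_iff_eq_neg] at this
        rw [this] at ct; norm_num at ct
    rw [d.eq, ip_add_left, ip_add_left, i2, i3, zero_add, add_zero] at i1
    exact congrFun (d.sa.eq_of_ip su i1) g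
  choose ψ hψ using hint
  refine ⟨ψ, by rw [← funext hψ]; exact d.sa, ?_, fun x ⟨x1, g, hg⟩ => ?_, ?_⟩
  · have := d.a1
    simp only [ip, Pi.one_apply, mul_one, hψ, mul_eq_zero, inv_eq_zero, card_ne_zero', false_or] at this
    exact_mod_cast this
  · have := hT _ hg fun e => x1 (by simpa [mul_assoc] using congrArg (g * · * g⁻¹) e)
    rw [d.sa.vc.isClass.conj', hψ] at this
    exact_mod_cast this
  · have s1 := h.SJ_Th l1
    have v1 := congrFun d.eq 1
    rw [d.eq, SJ_add, SJ_add, SJ_one, ← Nat.card_eq_fintype_card,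
      ← (centralizer ({t} : Set G)).index_mul_card, h.cardH] at s1
    simp only [Th_one, Pi.add_apply, Pi.one_apply] at v1
    have p1 := d.sa.SJ h.DD_conj
    have p3 := d.sc.SJ h.DD_conj
    rw [show c 1 = -1 - a 1 by linear_combination -v1, ct] at p3
    rw [hT t h.tT h.t1] at p1
    rw [h.card_DD, hψ] at *
    have hN : ((centralizer ({t} : Set G)).index : ℂ) ≠ 0 := by exact_mod_cast index_ne_zero_of_finite
    have : ((centralizer ({t} : Set G)).index : ℂ) * (ψ 1 - 1) ^ 2 =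
        8 * (Nat.card K : ℂ) ^ 2 * (ψ 1 * (ψ 1 + 1)) := by
      apply mul_left_cancel₀ hN
      push_cast at s1
      linear_combination (ψ 1 * (ψ 1 + 1) : ℂ) * s1 - (ψ 1 + 1 : ℂ) * p1 + (ψ 1 : ℂ) * p3
    exact_mod_cast this

end VK

end Cfsg.Agent.Lib.AG
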