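/-
Brauer–Suzuki–Wall, part 5: the order of `G` and the `p`-elements.
-/
import Cfsg.Agent.Lib.AG.BSW4

set_option autoImplicit false
set_option linter.unusedSectionVars false

namespace Cfsg.Agent.Lib.AG

open Subgroup Cfsg.Agent.Lib Cfsg.Agent.Lib.Char Finset

variable {G : Type*} [Group G] [Fintype G] {t s w : G} {K : Subgroup G}

theorem card_TI (N : Subgroup G) (A : Set G) (hA : ∀ a ∈ A, a ∈ N)
    (hc : ∀ a ∈ A, ∀ n ∈ N, n * a * n⁻¹ ∈ A) (hTI : ∀ a ∈ A, ∀ x, x⁻¹ * a * x ∈ A → x ∈ N) :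
    {g | ∃ x, x⁻¹ * g * x ∈ A}.ncard * Nat.card N = Nat.card G * A.ncard := by
  classical
  let f : N → ℂ := fun n => if (n : G) ∈ A then 1 else 0
  have hf : IsClass f := fun a n => if_congr ⟨fun e => by
    simpa [mul_assoc] using hc _ e _ (inv_mem n.2), fun e => hc _ e _ n.2⟩ rfl rfl
  have hfA : ∀ h : N, f h ≠ 0 → (h : G) ∈ A := fun h e => by simpa [f] using e
  have e1 : ∀ g, ind N f g = if ∃ x, x⁻¹ * g * x ∈ A then 1 else 0 := fun g => by
    split_ifs with hg
    · obtain ⟨x, hx⟩ := hg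
      rw [← (isClass_ind N f).conj' g x]
      exact (ind_apply_of_TI hf hfA ⟨_, hA _ hx⟩ (hTI _ hx)).trans (if_pos hx)
    · exact ind_eq_zero hfA fun x hx => hg ⟨x, hx⟩
  have e2 := ip_ind N f (isClass_const (1 : ℂ))
  simp only [ip, e1, Function.comp_apply, mul_one, sum_boole, f] at e2
  have e3 : #{n : N | (n : G) ∈ A} = A.ncard := by
    rw [Set.ncard_eq_toFinset_card']
    exact card_bij (fun a _ => (a : G)) (by simp) (by simp) fun a ha =>
      ⟨⟨a, hA a (by simpa using ha)⟩, by simpa using ha, rfl⟩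
  rw [e3] at e2
  have h1 := card_ne_zero' (G := G)
  have h2 := card_ne_zero' (G := N)
  rw [Set.ncard_eq_toFinset_card', Set.toFinset_setOf, Nat.card_eq_fintype_card,
    Nat.card_eq_fintype_card]
  field_simp at e2
  exact_mod_cast e2

theorem vc_cong {ψ : G → ℤ} (hψ : IsVChar fun g => (ψ g : ℂ)) {p : ℕ} [Fact p.Prime] {u y : G}
    (hc : Commute u y) {k : ℕ} (hu : u ^ p ^ k = 1) : (p : ℤ) ∣ ψ (u * y) - ψ y := by
  obtain ⟨m, lam, h⟩ := hψ.exists_lin (H := zpowers u × zpowers y)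
    (fun a b => Prod.ext (zpowers_comm u _ _) (zpowers_comm y _ _))
    ((zpowers u).subtype.noncommCoprod (zpowers y).subtype fun ⟨_, a, ha⟩ ⟨_, b, hb⟩ => by
      subst ha hb; exact hc.zpow_zpow a b)
  have h1 := h (⟨u, mem_zpowers u⟩, ⟨y, mem_zpowers y⟩)
  have h2 := h (1, ⟨y, mem_zpowers y⟩)
  simp only [MonoidHom.noncommCoprod_apply, coe_subtype, map_one, one_mul] at h1 h2
  rw [← pv_int_lt_iff, Int.cast_sub, h1, h2, ← sum_sub_distrib]
  refine Valuation.map_sum_lt _ one_ne_zero fun i _ => ?_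
  rw [show ((⟨u, mem_zpowers u⟩, ⟨y, mem_zpowers y⟩) : zpowers u × zpowers y) =
    (⟨u, mem_zpowers u⟩, 1) * (1, ⟨y, mem_zpowers y⟩) by simp, map_mul, ← mul_sub, ← sub_one_mul]
  refine pv_mul_lt_right (pv_int _) (pv_mul_lt_left (pv_sub_one_lt (k := k) ?_)
    (pv_le_one_of_isIntegral ((isChar_lin _).isVChar.isIntegral _)))
  rw [← map_pow, show ((⟨u, mem_zpowers u⟩, 1) : zpowers u × zpowers y) ^ p ^ k = 1 from
    Prod.ext (Subtype.ext hu) (one_pow _), map_one]

theorem SI.defect_zero {ψ : G → ℂ} (hψ : SI ψ) {q n : ℕ} (h1 : ψ 1 = q ∨ ψ 1 = -q)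
    (hG : Nat.card G = n * q) {p : ℕ} [Fact p.Prime] (hp : ¬ p ∣ n) {g : G} (hg : p ∣ orderOf g) :
    ψ g = 0 := by
  obtain ⟨i, hi⟩ := hψ
  have hd : deg i = q := by
    have := deg_pos i
    rcases hi with rfl | rfl <;> rcases h1 with e | e <;> simp only [Pi.neg_apply, chi_one] at e
    · exact_mod_cast e
    · have : ((deg i + q : ℕ) : ℂ) = 0 := by push_cast; linear_combination e
      exact absurd (Nat.cast_eq_zero.1 this) (by omega)
    · have : ((deg i + q : ℕ) : ℂ) = 0 := by push_cast; linear_combination -e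
      exact absurd (Nat.cast_eq_zero.1 this) (by omega)
    · exact_mod_cast neg_injective e
  have hI : IntC p (idemS {i}) := fun x => by
    have hq : (q : ℂ) ≠ 0 := hd ▸ deg_ne_zero i
    rw [idemS, sum_singleton, coeff_idem, hd, ← Nat.card_eq_fintype_card, hG, Nat.cast_mul,
      div_mul_cancel_right₀ hq]
    exact pv_mul_le (pv_inv_le (pv_nat_eq_one hp)) (pv_le_one_of_isIntegral ((isVChar_chi i).isIntegral _))
  have := section_orthogonality _ hI (g := g) (h := 1) fun e => pSec_one_iff.1 e hg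
  rw [sum_singleton, inv_one, chi_one] at this
  have := (mul_eq_zero.1 this).resolve_right (deg_ne_zero i)
  rcases hi with rfl | rfl <;> simp [this]

namespace VK

variable (h : VS t s w K)
include h

theorem card_A : {g | InA (K ⊔ zpowers t) g}.ncard + (centralizer ({t} : Set G)).index =
    (centralizer ({t} : Set G)).index * (2 * Nat.card K) := by
  have := card_TI (centralizer ({t} : Set G)) (((K ⊔ zpowers t : Subgroup G) : Set G) \ {1})
    (fun a ha => mem_centralizer_singleton_iff.2 (h.Tt ha.1).symm)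
    (fun a ha n hn => ⟨by
      rcases h.memH.1 (mem_centralizer_singleton_iff.1 hn).symm with e | e
      · exact mul_mem (mul_mem e ha.1) (inv_mem e)
      · rw [inv_eq_of_mul_eq_one_right (h.outer e).1, (h.outer e).2 a ha.1]; exact inv_mem ha.1,
      fun e => ha.2 (by simpa using e)⟩)
    (fun a ha x hx => mem_centralizer_singleton_iff.2 (h.tiT ha.1 ha.2 hx.1).symm)
  have e1 := Set.ncard_diff_singleton_add_one (s := ((K ⊔ zpowers t : Subgroup G) : Set G)) (one_mem _)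
  rw [show ((K ⊔ zpowers t : Subgroup G) : Set G).ncard = _ from h.cardT] at e1
  have e2 : {g | ∃ x : G, x⁻¹ * g * x ∈ ((K ⊔ zpowers t : Subgroup G) : Set G) \ {1}} =
      {g | InA (K ⊔ zpowers t) g} := by
    ext g
    exact ⟨fun ⟨x, hx, x1⟩ => ⟨fun e => x1 (by simp [e]), x, hx⟩, fun ⟨g1, x, hx⟩ =>
      ⟨x, hx, fun e => g1 (by simpa [mul_assoc] using congrArg (x * · * x⁻¹) e)⟩⟩
  rw [e2, ← (centralizer ({t} : Set G)).index_mul_card, mul_right_comm] at this
  rw [Nat.eq_of_mul_eq_mul_right Nat.card_pos this, ← e1]; ring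

theorem char2 (hK : K ≠ ⊥) : ∃ (ψ : G → ℤ) (q k' : ℕ), SI (fun g => (ψ g : ℂ)) ∧
    ((ψ 1 = q ∧ q = 4 * Nat.card K + 1 ∧ k' = 2 * Nat.card K + 1) ∨
      (ψ 1 = -q ∧ q + 1 = 4 * Nat.card K ∧ k' + 1 = 2 * Nat.card K)) ∧
    Nat.card G = 4 * Nat.card K * k' * q ∧ (∀ x, InA (K ⊔ zpowers t) x → ψ x = 1) ∧
    (∀ x, x ≠ 1 → ψ x = 0 ∨ ψ x = 1 ∨ ψ x = -1) ∧ {x | ψ x = 0}.ncard + 1 = q ^ 2 := by
  classical
  obtain ⟨ψ, hs, s0, hA, hN⟩ := h.char hK
  have k3 := h.three_le hK
  obtain ⟨m, hm⟩ : ∃ m : ℤ, ψ 1 = 1 + 4 * Nat.card K * m := by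
    obtain ⟨n, hn⟩ := (hs.vc.comp (centralizer ({t} : Set G)).subtype).ip_int isVChar_one
    have : ∀ x : centralizer ({t} : Set G), (ψ x : ℂ) = 1 + if x = 1 then (ψ 1 - 1 : ℂ) else 0 :=
      fun x => by
      split_ifs with e
      · simp [e]
      · rw [hA x (h.inA_of_comm (InA.of_mem h.tT h.t1) (mem_centralizer_singleton_iff.1 x.2).symm
          fun e' => e (Subtype.ext e'))]; simp
    simp only [ip, Function.comp_apply, coe_subtype, this, Pi.one_apply, mul_one, sum_add_distrib,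
      sum_ite_eq', mem_univ, if_true, sum_const, card_univ, nsmul_eq_mul] at hn
    rw [inv_mul_eq_iff_eq_mul₀ card_ne_zero', ← Nat.card_eq_fintype_card, h.cardH] at hn
    refine ⟨n - 1, ?_⟩
    have : (ψ 1 : ℂ) = 1 + 4 * Nat.card K * (n - 1) := by push_cast at hn; linear_combination hn
    exact_mod_cast this
  have hA' := h.card_A
  have hG := (centralizer ({t} : Set G)).index_mul_card
  rw [h.cardH] at hG
  generalize (centralizer ({t} : Set G)).index = N at *
  generalize Nat.card K = k at *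
  have e1 : m * (m * N - 6 * k - 8 * k ^ 2 * m) = 1 := by
    rw [hm] at hN
    have : (16 * k ^ 2 : ℤ) ≠ 0 := by positivity
    apply mul_left_cancel₀ this
    linear_combination hN
  obtain ⟨q, k', hq, hNq, hz⟩ : ∃ q k' : ℕ, ((ψ 1 = q ∧ q = 4 * k + 1 ∧ k' = 2 * k + 1) ∨
      (ψ 1 = -q ∧ q + 1 = 4 * k ∧ k' + 1 = 2 * k)) ∧ N = k' * q ∧ ψ 1 * (ψ 1 + 1) = 2 * N := by
    rcases Int.eq_one_or_neg_one_of_mul_eq_one e1 with rfl | rfl
    · refine ⟨4 * k + 1, 2 * k + 1, Or.inl ⟨by rw [hm]; push_cast; ring, rfl, rfl⟩, ?_, ?_⟩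
      · zify; linear_combination e1
      · rw [hm]; linear_combination -2 * e1
    · obtain ⟨j, rfl⟩ : ∃ j, k = j + 1 := ⟨k - 1, by omega⟩
      refine ⟨4 * j + 3, 2 * j + 1, Or.inr ⟨by rw [hm]; push_cast; ring, by ring, by ring⟩, ?_, ?_⟩
      · zify; push_cast at e1; linear_combination e1
      · rw [hm]; linear_combination -2 * e1
  have s2 : ∑ g, ψ g * ψ g = Nat.card G := by
    have := hs.norm
    simp only [ip, hs.vc.inv, map_intCast] at this
    rw [inv_mul_eq_iff_eq_mul₀ card_ne_zero', mul_one, ← Nat.card_eq_fintype_card] at this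
    exact_mod_cast this
  have v : ∀ x, x ≠ 1 → ψ x = 0 ∨ ψ x = 1 ∨ ψ x = -1 := fun x x1 => by
    have := (sum_eq_zero_iff_of_nonneg (s := univ) (f := fun g => ψ g * ψ g + ψ g -
      2 * (if InA (K ⊔ zpowers t) g then 1 else 0) - if g = 1 then 2 * (N : ℤ) else 0)
      fun g _ => ?_).1 ?_ x (mem_univ _)
    · by_cases e : InA (K ⊔ zpowers t) x
      · exact Or.inr (Or.inl (hA x e))
      · simp only [if_neg e, if_neg x1] at this
        have : ψ x * (ψ x + 1) = 0 := by linear_combination this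
        rcases mul_eq_zero.1 this with e | e
        exacts [Or.inl e, Or.inr (Or.inr (by omega))]
    · by_cases e : InA (K ⊔ zpowers t) g
      · simp [e, e.1, hA g e]
      · by_cases g1 : g = 1
        · rw [if_neg e, if_pos g1, g1]; linarith
        · rw [if_neg e, if_neg g1]; nlinarith [sq_nonneg (2 * ψ g + 1), Int.lt_or_le (ψ g) 0]
    · rw [Set.ncard_eq_toFinset_card', Set.toFinset_setOf] at hA'
      simp only [sum_sub_distrib, sum_add_distrib, s0, s2, ← mul_sum, sum_boole, sum_ite_eq',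
        mem_univ, if_true, ← hG]
      zify at hA'; push_cast; linear_combination -2 * hA'
  refine ⟨ψ, q, k', hs, hq, by rw [← hG, hNq]; ring, hA, v, ?_⟩
  have z0 : ψ 1 ≠ 0 := by rcases hq with ⟨e, _, _⟩ | ⟨e, _, _⟩ <;> omega
  have : ∑ g, ψ g * ψ g = ∑ g, (1 - (if ψ g = 0 then 1 else 0) +
      if g = 1 then (ψ 1 * ψ 1 - 1) else 0) := sum_congr rfl fun g _ => by
    by_cases g1 : g = 1
    · simp [g1, z0]
    · rcases v g g1 with e | e | e <;> simp [g1, e]
  simp only [sum_sub_distrib, sum_add_distrib, s2, sum_boole, sum_ite_eq', mem_univ, if_true,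
    sum_const, card_univ, nsmul_eq_mul, mul_one, Nat.card_eq_fintype_card] at this
  rw [Set.ncard_eq_toFinset_card', Set.toFinset_setOf]
  zify
  rcases hq with ⟨e, _, _⟩ | ⟨e, _, _⟩ <;> rw [e] at this <;> linear_combination this

end VK

end Cfsg.Agent.Lib.AG
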