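/-
Brauer–Suzuki–Wall, part 6: `q` is a prime power and `p`-singular elements have centralisers of order `q`.
-/
import Cfsg.Agent.Lib.AG.BSW5

set_option autoImplicit false
set_option linter.unusedSectionVars false

namespace Cfsg.Agent.Lib.AG

open Subgroup Cfsg.Agent.Lib Cfsg.Agent.Lib.Char

variable {G : Type*} [Group G] [Finite G] {t s w : G} {K : Subgroup G}

theorem ncard_class (x : G) : {y | IsConj x y}.ncard * Nat.card (centralizer ({x} : Set G)) =
    Nat.card G := Invol.card_conj_mul_card_centralizer x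

theorem VK.count (h : VS t s w K) (hK : K ≠ ⊥) : ∃ q k' p f : ℕ, p.Prime ∧ q = p ^ f ∧
    ((q = 4 * Nat.card K + 1 ∧ k' = 2 * Nat.card K + 1) ∨
      (q + 1 = 4 * Nat.card K ∧ k' + 1 = 2 * Nat.card K)) ∧
    Nat.card G = 4 * Nat.card K * k' * q ∧
    (∀ x : G, p ∣ orderOf x → Nat.card (centralizer ({x} : Set G)) = q) ∧
    {x : G | p ∣ orderOf x}.ncard + 1 = q ^ 2 := by
  have := Fintype.ofFinite G
  obtain ⟨ψ, q, k', hs, hq, hG, hA, v, hZ⟩ := h.char2 hK
  have k3 := h.three_le hK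
  have hcop : (4 * Nat.card K * k').Coprime q := by
    refine Nat.coprime_of_dvd fun r hr h1 h2 => hr.one_lt.ne' (Nat.dvd_one.1 ?_)
    rcases hq with ⟨-, e1, e2⟩ | ⟨-, e1, e2⟩ <;> rcases (Nat.Prime.dvd_mul hr).1 h1 with e | e
    · exact (Nat.dvd_add_right e).1 (e1 ▸ h2)
    · exact (Nat.dvd_add_right h2).1 ((show 2 * k' = q + 1 by omega) ▸ e.mul_left 2)
    · exact (Nat.dvd_add_right h2).1 (e1 ▸ e)
    · exact (Nat.dvd_add_right (e.mul_left 2)).1 ((show q = 2 * k' + 1 by omega) ▸ h2)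
  have hq2 : 2 * (4 * Nat.card K * k') + 1 = q ^ 2 := by
    rcases hq with ⟨-, e1, e2⟩ | ⟨-, e1, e2⟩
    · rw [e1, e2]; ring
    · rw [← e1, show q = 2 * k' + 1 by omega]; ring
  have qodd : ¬ 2 ∣ q := by omega
  have z0 : ∀ p : ℕ, p.Prime → p ∣ q → ∀ g, p ∣ orderOf g → ψ g = 0 := fun p hp h1 g hg => by
    have := Fact.mk hp
    have := hs.defect_zero (q := q) (by rcases hq with ⟨e, -⟩ | ⟨e, -⟩ <;> simp [e]) hG
      (fun e => hp.one_lt.ne' (Nat.eq_one_of_dvd_coprimes hcop e h1)) hg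
    exact_mod_cast this
  have nz : ∀ n, ∀ y : G, orderOf y = n → y ≠ 1 → (orderOf y).Coprime q → ψ y = 1 ∨ ψ y = -1 := by
    intro n
    induction n using Nat.strong_induction_on with
    | _ n ih =>
    intro y hn y1 hc
    refine (v y y1).resolve_left fun e0 => ?_
    have nA : ¬ InA (K ⊔ zpowers t) y := fun e => by rw [hA y e] at e0; exact one_ne_zero e0
    obtain ⟨r, hr, hry⟩ := Nat.exists_prime_and_dvd (fun e => y1 (orderOf_eq_one_iff.1 e))
    have := Fact.mk hr
    have hrk : r ∣ k' := by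
      have h1 : r ∣ 4 * Nat.card K * k' * q := hG ▸ hry.trans (orderOf_dvd_natCard y)
      have h2 := (Nat.Coprime.coprime_dvd_left hry hc).dvd_of_dvd_mul_right h1
      have h3 := Nat.Coprime.coprime_dvd_left hry (h.coprime_of_not nA)
      rw [show 4 * Nat.card K * k' = 2 * Nat.card K * (2 * k') by ring] at h2
      exact (Nat.Coprime.coprime_mul_right_right h3).dvd_of_dvd_mul_left (h3.dvd_of_dvd_mul_left h2)
    obtain ⟨u, y', -, hy', hc', ⟨j, hj⟩, hreg, e⟩ := exists_ppart (p := r) y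
    have hd := vc_cong hs.vc hc' hj
    rw [← e, e0, zero_sub, dvd_neg] at hd
    have r1 : ¬ (r : ℤ) ∣ 1 := fun e => hr.one_lt.ne' (by exact_mod_cast Int.eq_one_of_dvd_one (by positivity) e)
    by_cases y'1 : y' = 1
    · have hk : (r : ℤ) ∣ 2 * k' := (Int.natCast_dvd_natCast.2 hrk).mul_left 2
      rw [y'1] at hd
      rcases hq with ⟨e1, e2, e3⟩ | ⟨e1, e2, e3⟩
      · exact r1 ((show (2 * k' : ℤ) - ψ 1 = 1 by omega) ▸ hk.sub hd)
      · exact r1 ((show -((2 * k' : ℤ) + ψ 1) = 1 by omega) ▸ (hk.add hd).neg_right)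
    · have hdv := orderOf_dvd_of_mem_zpowers hy'
      have hlt : orderOf y' < n := hn ▸ lt_of_le_of_ne (Nat.le_of_dvd (orderOf_pos y) hdv)
        fun e => hreg (e ▸ hry)
      rcases ih _ hlt y' rfl y'1 (hc.coprime_dvd_left hdv) with e1 | e1 <;> rw [e1] at hd
      exacts [r1 hd, r1 (dvd_neg.1 hd)]
  have cls : ∀ x : G, ψ x = 0 → {y | IsConj x y} ⊆ {y | ψ y = 0} := fun x hx y hy => by
    have := hs.vc.isClass.of_isConj hy
    have : ψ x = ψ y := by exact_mod_cast this
    exact this.symm.trans hx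
  have cq : ∀ p : ℕ, p.Prime → p ∣ q → ∀ x : G, p ∣ orderOf x →
      Nat.card (centralizer ({x} : Set G)) = q := fun p hp h1 x hx => by
    have := Fact.mk hp
    have hc : (Nat.card (centralizer ({x} : Set G))).Coprime (4 * Nat.card K * k') := by
      refine Nat.coprime_of_dvd fun r hr h2 h3 => ?_
      have := Fact.mk hr
      have hrq : r.Coprime q := hcop.coprime_dvd_left h3
      obtain ⟨y, hy⟩ := exists_prime_orderOf_dvd_card' r h2
      rw [← orderOf_coe] at hy
      have hx' : orderOf (x ^ (orderOf x / p)) = p := orderOf_pow_orderOf_div (orderOf_pos x).ne' hx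
      have hcm : Commute (x ^ (orderOf x / p)) y :=
        (show Commute x y from (mem_centralizer_singleton_iff.1 y.2).symm).pow_left _
      have hd := vc_cong hs.vc hcm (k := 1) (p := p) (by rw [pow_one, ← hx', hx', ← orderOf_dvd_iff_pow_eq_one, hx'])
      rw [z0 p hp h1 _ (by
        rw [hcm.orderOf_mul_eq_mul_orderOf_of_coprime (by
          rw [hx', hy]; exact (hrq.coprime_dvd_right h1).symm), hx']
        exact dvd_mul_right _ _), zero_sub, dvd_neg] at hd
      have r1 : ¬ (p : ℤ) ∣ 1 := fun e =>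
        hp.one_lt.ne' (by exact_mod_cast Int.eq_one_of_dvd_one (by positivity) e)
      rcases nz _ y rfl (fun e => hr.one_lt.ne' (by rw [← hy, e, orderOf_one])) (hy ▸ hrq)
        with e1 | e1 <;> rw [e1] at hd
      exacts [r1 hd, r1 (dvd_neg.1 hd)]
    obtain ⟨d, hd⟩ := hc.dvd_of_dvd_mul_left (hG ▸ card_subgroup_dvd_card _)
    have e1 := ncard_class x
    have e2 := Set.ncard_le_ncard (cls x (z0 p hp h1 x hx))
    rw [hG, hd, mul_comm _ d, ← mul_assoc] at e1
    rw [Nat.eq_of_mul_eq_mul_right Nat.card_pos e1] at e2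
    have : d < 3 := by
      by_contra! h3
      have := Nat.mul_le_mul_left (4 * Nat.card K * k') h3
      have : 0 < k' := by omega
      have : 0 < 4 * Nat.card K * k' := by positivity
      omega
    have : ¬ 2 ∣ d := fun e => qodd (hd ▸ e.mul_left _)
    rw [hd, show d = 1 by omega, mul_one]
  obtain ⟨p, hp, hpq⟩ := Nat.exists_prime_and_dvd (show q ≠ 1 by omega)
  have := Fact.mk hp
  have uq : ∀ r : ℕ, r.Prime → r ∣ q → r = p := fun r hr h1 => by
    by_contra hne
    have := Fact.mk hr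
    obtain ⟨x, hx⟩ := exists_prime_orderOf_dvd_card' (G := G) p (hG ▸ hpq.mul_left _)
    obtain ⟨y, hy⟩ := exists_prime_orderOf_dvd_card' r ((cq p hp hpq x hx.symm.dvd).symm ▸ h1)
    rw [← orderOf_coe] at hy
    have hxy : orderOf (x * y) = p * r := by
      rw [(show Commute x y from (mem_centralizer_singleton_iff.1 y.2).symm
        ).orderOf_mul_eq_mul_orderOf_of_coprime (by
          rw [hx, hy]; exact (Nat.coprime_primes hp hr).2 (Ne.symm hne)), hx, hy]
    have c : ∀ r : ℕ, r.Prime → r ∣ q → ∀ x : G, r ∣ orderOf x →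
        {y | IsConj x y}.ncard = 4 * Nat.card K * k' := fun r hr h1 x hx => by
      have := ncard_class x
      rw [cq r hr h1 x hx, hG] at this
      exact Nat.eq_of_mul_eq_mul_right (by omega) this
    have dj : ∀ a b : G, orderOf a ≠ orderOf b → Disjoint {y | IsConj a y} {y | IsConj b y} :=
      fun a b hab => Set.disjoint_left.2 fun z h1 h2 => hab (by
        obtain ⟨g, hg⟩ := isConj_iff.1 (IsConj.trans h1 (IsConj.symm h2))
        rw [← hg]; exact ((MulAut.conj g).orderOf_eq a).symm)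
    have := Set.ncard_le_ncard (Set.union_subset (Set.union_subset (cls x (z0 p hp hpq x hx.symm.dvd))
      (cls y (z0 r hr h1 y hy.symm.dvd))) (cls (x * y) (z0 p hp hpq _ (hxy ▸ dvd_mul_right _ _))))
    rw [Set.ncard_union_eq (Set.disjoint_union_left.2 ⟨dj _ _ (by
        rw [hx, hxy]; exact ((Nat.lt_mul_iff_one_lt_right hp.pos).2 hr.one_lt).ne), dj _ _ (by
        rw [hy, hxy]; exact ((Nat.lt_mul_iff_one_lt_left hr.pos).2 hp.one_lt).ne)⟩),
      Set.ncard_union_eq (dj _ _ (by rw [hx, hy]; exact Ne.symm hne)), c p hp hpq x hx.symm.dvd,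
      c r hr h1 y hy.symm.dvd, c p hp hpq _ (hxy ▸ dvd_mul_right _ _)] at this
    have : 0 < k' := by omega
    have : 0 < 4 * Nat.card K * k' := by positivity
    omega
  refine ⟨q, k', p, _, hp, Nat.eq_prime_pow_of_unique_prime_dvd (by omega) (uq _), by tauto, hG,
    cq p hp hpq, ?_⟩
  rw [← hZ]; congr 2; ext x
  refine ⟨z0 p hp hpq x, fun e => by_contra fun hn => ?_⟩
  by_cases x1 : x = 1
  · rw [x1] at e; change ψ 1 = 0 at e; omega
  · change ψ x = 0 at e
    have := nz _ x rfl x1 (Nat.coprime_of_dvd fun r hr h1 h2 => hn (uq r hr h2 ▸ h1))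
    omega

end Cfsg.Agent.Lib.AG
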