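/-
Brauer–Suzuki–Wall theorem: Zassenhaus data from `C(t) = K ⋊ V`.
-/
import Cfsg.Agent.Lib.AG.BSW6

set_option autoImplicit false
set_option linter.unusedSectionVars false

namespace Cfsg.Agent.Lib.AG

open Subgroup Cfsg.Agent.Lib

variable {G : Type*} [Group G] [Finite G] {t s w : G} {K : Subgroup G}

theorem inv_of_fpf {K : Subgroup G} {u : G} (hu : u * u = 1) (hK : ∀ k ∈ K, u * k * u ∈ K)
    (hf : ∀ k ∈ K, k * u = u * k → k = 1) {k : G} (hk : k ∈ K) : u * k * u = k⁻¹ := by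
  have ui : u⁻¹ = u := inv_eq_of_mul_eq_one_right hu
  let f : K → K := fun a => ⟨(a : G)⁻¹ * (u * a * u), mul_mem (inv_mem a.2) (hK _ a.2)⟩
  have : Function.Injective f := fun a b e => by
    have e1 : (a : G)⁻¹ * (u * a * u) = (b : G)⁻¹ * (u * b * u) := congrArg Subtype.val e
    refine Subtype.ext (mul_inv_eq_one.1 (hf _ (mul_mem a.2 (inv_mem b.2)) ?_))
    calc (a : G) * (b : G)⁻¹ * u = a * ((b : G)⁻¹ * (u * b * u)) * u⁻¹ * (b : G)⁻¹ := by group
      _ = _ := by rw [← e1]; group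
  obtain ⟨a, ha⟩ := Finite.surjective_of_injective this ⟨k, hk⟩
  have e : k = (a : G)⁻¹ * (u * a * u) := (congrArg Subtype.val ha).symm
  rw [e]
  calc u * ((a : G)⁻¹ * (u * a * u)) * u = u * (a : G)⁻¹ * u * a * (u * u) := by group
    _ = _ := by rw [hu, mul_inv_rev, mul_inv_rev, mul_inv_rev, ui]; group

/-- the Sylow `p`-data -/
structure ZQ (Q : Subgroup G) (p q : ℕ) : Prop where
  expQ : ∀ x ∈ Q, x ^ p = 1
  commQ : ∀ x ∈ Q, ∀ y ∈ Q, x * y = y * x
  cardQ : Nat.card Q = q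
  centQ : ∀ x ∈ Q, x ≠ 1 → ∀ g : G, x * g = g * x → g ∈ Q
  ti : ∀ g : G, ∀ x ∈ Q, x ≠ 1 → g * x * g⁻¹ ∈ Q → g ∈ normalizer (Q : Set G)
  tiN : ∀ g : G, ∀ x ∈ Q, x ≠ 1 → g * x * g⁻¹ ∈ normalizer (Q : Set G) → g ∈ normalizer (Q : Set G)
  cardN : 2 * Nat.card (normalizer (Q : Set G)) + q = q ^ 2
  cell : ∀ j ∉ normalizer (Q : Set G), ∀ g ∉ normalizer (Q : Set G),
    ∃ n ∈ normalizer (Q : Set G), ∃ v ∈ Q, g = n * j * v
  conj : ∀ g : G, p ∣ orderOf g → ∃ x : G, x⁻¹ * g * x ∈ Q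

theorem zq_of {p q f n : ℕ} (hp : p.Prime) (hq : q = p ^ f) (hG : Nat.card G = n * q)
    (hn : 2 * n + 1 = q ^ 2) (hC : ∀ x : G, p ∣ orderOf x → Nat.card (centralizer ({x} : Set G)) = q)
    (hZ : {x : G | p ∣ orderOf x}.ncard + 1 = q ^ 2)
    (hab : ∀ P : Subgroup G, IsPGroup p P → ∀ x ∈ P, ∀ y ∈ P, x * y = y * x)
    {x0 : G} (h0 : orderOf x0 = p) : ZQ (centralizer {x0}) p q := by
  have := Fact.mk hp
  have := Fintype.ofFinite G
  set Q := centralizer ({x0} : Set G)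
  have cQ : Nat.card Q = q := hC x0 h0.symm.dvd
  have pQ : IsPGroup p Q := IsPGroup.of_card (cQ.trans hq)
  have xQ : x0 ∈ Q := mem_centralizer_singleton_iff.2 rfl
  have x1 : x0 ≠ 1 := fun e => hp.one_lt.ne' (by rw [← h0, e, orderOf_one])
  have q0 : 0 < q := cQ ▸ Nat.card_pos
  have mx : ∀ P : Subgroup G, IsPGroup p P → x0 ∈ P → P ≤ Q := fun P hP hx y hy =>
    mem_centralizer_singleton_iff.2 (hab P hP y hy x0 hx)
  have ord : ∀ x ∈ Q, x ≠ 1 → p ∣ orderOf x := fun x hx h1 => by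
    obtain ⟨i, -, hi⟩ := (Nat.dvd_prime_pow hp).1 (hq ▸ cQ ▸ Q.orderOf_dvd_natCard hx)
    rw [hi]; exact dvd_pow_self p fun e => h1 (orderOf_eq_one_iff.1 (by rw [hi, e, pow_zero]))
  have cent : ∀ x ∈ Q, x ≠ 1 → ∀ g : G, x * g = g * x → g ∈ Q := fun x hx h1 g hg => by
    rw [eq_of_le_of_card_ge (H := Q) (K := centralizer {x}) (fun y hy =>
      mem_centralizer_singleton_iff.2 (hab Q pQ y hy x hx)) (by rw [hC x (ord x hx h1), cQ])]
    exact mem_centralizer_singleton_iff.2 hg.symm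
  have ti : ∀ g : G, ∀ x ∈ Q, x ≠ 1 → g * x * g⁻¹ ∈ Q → g ∈ normalizer (Q : Set G) :=
    fun g x hx h1 hg => mem_normalizer_fintype fun y hy => cent _ hg (by simpa using h1) _ (by
      rw [conj_mul, conj_mul, hab Q pQ x hx y hy])
  have ti' : ∀ x ∈ Q, x ≠ 1 → ∀ g : G, g⁻¹ * x * g ∈ Q → g ∈ normalizer (Q : Set G) :=
    fun x hx h1 g hg => inv_mem_iff.1 (ti g⁻¹ x hx h1 (by rwa [inv_inv]))
  have conj : ∀ g : G, p ∣ orderOf g → ∃ x : G, x⁻¹ * g * x ∈ Q := fun g hg => by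
    obtain ⟨P, hP⟩ := pQ.exists_le_sylow
    have hy : orderOf (g ^ (orderOf g / p)) = p ^ 1 := by
      rw [pow_one]; exact orderOf_pow_orderOf_div (orderOf_pos g).ne' hg
    obtain ⟨a, ha⟩ := Invol.exists_conj_mem_sylow P hy
    refine ⟨a⁻¹, cent _ (mx P P.isPGroup' (hP xQ) ha) (fun e => hp.one_lt.ne' ?_) _ ?_⟩
    · rw [← pow_one p, ← hy, show g ^ (orderOf g / p) = 1 by simpa using e, orderOf_one]
    · rw [inv_inv, conj_mul, conj_mul, ((Commute.refl g).pow_left _).eq]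
  have nQ : ∀ n ∈ normalizer (Q : Set G), ∀ a ∈ Q, n * a * n⁻¹ ∈ Q := fun n hn a ha =>
    (mem_normalizer_iff.1 hn a).1 ha
  have cN : 2 * Nat.card (normalizer (Q : Set G)) + q = q ^ 2 := by
    have := card_TI (normalizer (Q : Set G)) ((Q : Set G) \ {1}) (fun a ha => le_normalizer ha.1)
      (fun a ha n hn => ⟨nQ n hn a ha.1, fun e => ha.2 (by simpa using e)⟩)
      (fun a ha x hx => ti' a ha.1 ha.2 x hx.1)
    have e1 := Set.ncard_diff_singleton_add_one (s := (Q : Set G)) (one_mem _)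
    rw [show (Q : Set G).ncard = _ from cQ] at e1
    have e2 : {g | ∃ x : G, x⁻¹ * g * x ∈ (Q : Set G) \ {1}} = {x : G | p ∣ orderOf x} := by
      ext g
      refine ⟨fun ⟨x, hx, x1⟩ => ?_, fun hg => ?_⟩
      · have := ord _ hx x1
        rwa [show orderOf (x⁻¹ * g * x) = orderOf g by simpa using (MulAut.conj x⁻¹).orderOf_eq g] at this
      · obtain ⟨x, hx⟩ := conj g hg
        refine ⟨x, hx, fun e => hp.one_lt.ne' ?_⟩
        have : g = 1 := by simpa [mul_assoc] using congrArg (x * · * x⁻¹) e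
        simpa [this] using hg
    rw [e2, hG, show {x : G | p ∣ orderOf x}.ncard = n * 2 by omega, mul_assoc, mul_assoc] at this
    have n0 : 0 < n := Nat.pos_of_mul_pos_right (b := q) (by rw [← hG]; exact Nat.card_pos)
    rw [Nat.eq_of_mul_eq_mul_left n0 this, ← e1]; ring
  have tiN : ∀ g : G, ∀ x ∈ Q, x ≠ 1 → g * x * g⁻¹ ∈ normalizer (Q : Set G) →
      g ∈ normalizer (Q : Set G) := fun j y m1 h1 e =>
    ti j _ m1 h1 (mx (Q ⊔ zpowers (j * y * j⁻¹)) (pQ.to_sup_of_normal_left'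
      (Invol.isPGroup_zpowers_of_orderOf (k := _) (((MulAut.conj j).orderOf_eq _).trans
        ((Nat.dvd_prime_pow hp).1 (hq ▸ cQ ▸ Q.orderOf_dvd_natCard m1)).choose_spec.2))
      (zpowers_le_of_mem e)) (mem_sup_left xQ) (mem_sup_right (mem_zpowers _)))
  refine ⟨?_, hab Q pQ, cQ, cent, ti, tiN, cN, fun j hj g hg => ?_, conj⟩
  · let Ω : Subgroup G :=
      { carrier := {x | x ∈ Q ∧ x ^ p = 1}
        one_mem' := ⟨one_mem _, one_pow _⟩
        mul_mem' := fun {a b} ha hb => ⟨mul_mem ha.1 hb.1, by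
          rw [(show Commute a b from hab Q pQ a ha.1 b hb.1).mul_pow, ha.2, hb.2, one_mul]⟩
        inv_mem' := fun {a} ha => ⟨inv_mem ha.1, by rw [inv_pow, ha.2, inv_one]⟩ }
    have c1 : ∀ y, IsConj x0 y → y ≠ 1 ∧ y ^ p = 1 := fun y hy => by
      obtain ⟨a, rfl⟩ := isConj_iff.1 hy
      exact ⟨by simpa using x1, by rw [conj_pow, ← h0, pow_orderOf_eq_one]; simp⟩
    have := card_TI (normalizer (Q : Set G)) {y | y ∈ Q ∧ IsConj x0 y} (fun a ha => le_normalizer ha.1)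
      (fun a ha n hn => ⟨nQ n hn a ha.1, ha.2.trans (isConj_iff.2 ⟨n, rfl⟩)⟩)
      (fun a ha x hx => ti' a ha.1 (c1 a ha.2).1 x hx.1)
    have e2 : {g | ∃ x : G, x⁻¹ * g * x ∈ {y | y ∈ Q ∧ IsConj x0 y}} = {y | IsConj x0 y} := by
      ext g
      refine ⟨fun ⟨x, _, hx⟩ => hx.trans (isConj_iff.2 ⟨x, by group⟩), fun hg => ?_⟩
      obtain ⟨a, rfl⟩ := isConj_iff.1 hg
      exact ⟨a, by rw [show a⁻¹ * (a * x0 * a⁻¹) * a = x0 by group]; exact ⟨xQ, IsConj.refl _⟩⟩
    have e3 := ncard_class x0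
    rw [cQ, hG] at e3
    have n0 : 0 < n := Nat.pos_of_mul_pos_right (b := q) (by rw [← hG]; exact Nat.card_pos)
    rw [e2, Nat.eq_of_mul_eq_mul_right q0 e3, hG, mul_assoc] at this
    have e4 := Nat.eq_of_mul_eq_mul_left n0 this
    have e5 : (insert 1 {y | y ∈ Q ∧ IsConj x0 y}).ncard ≤ Nat.card Ω :=
      Set.ncard_le_ncard (t := (Ω : Set G)) (by
        rintro y (rfl | hy)
        exacts [one_mem Ω, ⟨hy.1, (c1 y hy.2).2⟩])
    rw [Set.ncard_insert_of_notMem (fun e => (c1 1 e.2).1 rfl)] at e5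
    have hle : Ω ≤ Q := fun _ h => h.1
    obtain ⟨d, hd⟩ := card_dvd_of_le hle
    have e6 : 2 * {y | y ∈ Q ∧ IsConj x0 y}.ncard + 1 = q :=
      Nat.eq_of_mul_eq_mul_left q0 (by rw [e4] at cN; linear_combination cN)
    have : d ≤ 1 := by
      by_contra! h2
      have := Nat.mul_le_mul_left (Nat.card Ω) h2
      omega
    have := eq_of_le_of_card_ge hle (by nlinarith)
    exact fun x hx => (this.symm ▸ hx : x ∈ Ω).2
  · classical
    let F : normalizer (Q : Set G) × Q → G := fun a => a.1 * j * a.2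
    have inj : Function.Injective F := fun ⟨a, u⟩ ⟨b, v⟩ e => by
      have e1 : (a : G) * j * u = b * j * v := e
      have e2 : j * (u * (v : G)⁻¹) * j⁻¹ = (a : G)⁻¹ * b := by
        calc j * (u * (v : G)⁻¹) * j⁻¹ = (a : G)⁻¹ * (a * j * u) * (v : G)⁻¹ * j⁻¹ := by group
          _ = _ := by rw [e1]; group
      have uv : (u : G) * (v : G)⁻¹ = 1 := by_contra fun h1 =>
        hj (tiN j _ (mul_mem u.2 (inv_mem v.2)) h1 (e2 ▸ mul_mem (inv_mem a.2) b.2))
      rw [uv, mul_one, mul_inv_cancel, eq_comm, inv_mul_eq_one] at e2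
      exact Prod.ext (Subtype.ext e2) (Subtype.ext (mul_inv_eq_one.1 uv))
    have sub : Set.range F ⊆ (normalizer (Q : Set G) : Set G)ᶜ := by
      rintro _ ⟨⟨a, u⟩, rfl⟩ e
      have : (a : G)⁻¹ * (a * j * u) * (u : G)⁻¹ ∈ normalizer (Q : Set G) :=
        mul_mem (mul_mem (inv_mem a.2) e) (inv_mem (le_normalizer u.2))
      exact hj (by simpa [mul_assoc] using this)
    have c1 := Set.ncard_add_ncard_compl (normalizer (Q : Set G) : Set G)
    have c2 : (Set.range F).ncard = Nat.card (normalizer (Q : Set G)) * q := by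
      rw [Set.ncard_range_of_injective inj, Nat.card_prod, cQ]
    have := Set.eq_of_subset_of_ncard_le sub (by
      rw [c2]; rw [hG, show (normalizer (Q : Set G) : Set G).ncard =
        Nat.card (normalizer (Q : Set G)) from rfl] at c1
      nlinarith)
    obtain ⟨⟨a, u⟩, e⟩ : g ∈ Set.range F := this ▸ hg
    exact ⟨a, a.2, u, u.2, e.symm⟩

theorem ZQ.zs {Q D : Subgroup G} {p q : ℕ} {j : G} (h : ZQ Q p q) (hs : IsSimpleGroup G)
    (hp : p.Prime) (q11 : 11 ≤ q) (q8 : q % 8 = 3 ∨ q % 8 = 5)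
    (hG : 2 * Nat.card G = q * (q ^ 2 - 1)) (hN : Q ⊔ D = normalizer (Q : Set G))
    (cD : 2 * Nat.card D + 1 = q) (jj : j * j = 1) (jD : ∀ d ∈ D, j * d * j = d⁻¹)
    (jN : j ∉ normalizer (Q : Set G)) : ZS Q D p q j := by
  have hD : D ≤ normalizer (Q : Set G) := hN ▸ le_sup_right
  refine ⟨hs, hp, h.expQ, h.commQ, h.cardQ, q11, q8, hG, h.centQ, hN ▸ h.ti, hD, cD, jj, jD,
    hN ▸ jN, fun g hg => ?_⟩
  obtain ⟨n, hn, v, hv, rfl⟩ := h.cell j jN g (hN ▸ hg)
  rw [← hN, ← SetLike.mem_coe, coe_mul_of_right_le_normalizer_left _ _ hD] at hn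
  obtain ⟨u, hu, d, hd, rfl⟩ := hn
  exact ⟨u, hu, d, hd, v, hv, rfl⟩

theorem ZQ.card_compl {Q D : Subgroup G} {p q : ℕ} (h : ZQ Q p q)
    (hN : Q ⊔ D = normalizer (Q : Set G)) (hI : Q ⊓ D = ⊥) : 2 * Nat.card D + 1 = q := by
  have := Core.card_sup_mul_card_inf (H := D) (N := Q) (hN ▸ le_sup_right)
  rw [sup_comm, hN, inf_comm, hI, card_bot, mul_one, h.cardQ] at this
  have e := h.cardN
  rw [this] at e
  exact Nat.eq_of_mul_eq_mul_left (h.cardQ ▸ Nat.card_pos) (by linear_combination e)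

/-- Brauer–Suzuki–Wall, with the abelian Sylow hypothesis for the relevant primes. -/
theorem VK.zs' (h : VS t s w K) (hK : K ≠ ⊥)
    (hA : ∀ p : ℕ, p.Prime → (∀ x : G, p ∣ orderOf x → IsPGroup p (centralizer ({x} : Set G))) →
      ∀ P : Subgroup G, IsPGroup p P → ∀ x ∈ P, ∀ y ∈ P, x * y = y * x) :
    ∃ Q D p q j, ZS Q D p q j ∧ ZQ Q p q ∧
    ((q = 4 * Nat.card K + 1 ∧ D = K ⊔ zpowers t ∧ j = s) ∨
      (q + 1 = 4 * Nat.card K ∧ j = t ∧ Odd (Nat.card D))) := by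
  obtain ⟨q, k', p, f, hp, hq, hk, hG, hC, hZ⟩ := h.count hK
  have := Fact.mk hp
  have k3 := h.three_le hK
  obtain ⟨k0, hk0⟩ := h.Kodd
  have hq2 : 2 * (4 * Nat.card K * k') + 1 = q ^ 2 := by
    rcases hk with ⟨e1, e2⟩ | ⟨e1, e2⟩
    · rw [e1, e2]; ring
    · rw [← e1, show q = 2 * k' + 1 by omega]; ring
  have zq := @zq_of G _ _ p q f _ hp hq hG hq2 hC hZ (hA p hp fun x hx =>
    IsPGroup.of_card ((hC x hx).trans hq))
  have hG2 : 2 * Nat.card G = q * (q ^ 2 - 1) := by rw [← hq2, hG, Nat.add_sub_cancel]; ring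
  have hpq : p ∣ q := hq ▸ dvd_pow_self p (by rintro rfl; rw [pow_zero] at hq; omega)
  obtain ⟨x0, h0⟩ := exists_prime_orderOf_dvd_card' (G := G) p (hG ▸ hpq.mul_left _)
  have odd : ∀ {Q : Subgroup G}, ZQ Q p q → ∀ y ∈ Q, y * y = 1 → y = 1 := fun z y hy e => by
    have h1 := orderOf_dvd_of_pow_eq_one ((pow_two y).trans e)
    have h2 := z.cardQ ▸ Subgroup.orderOf_dvd_natCard _ hy
    rcases (Nat.dvd_prime Nat.prime_two).1 h1 with e | e
    · exact orderOf_eq_one_iff.1 e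
    · rw [e] at h2; omega
  have fpf : ∀ {Q : Subgroup G}, ZQ Q p q → ∀ j ∈ normalizer (Q : Set G), j * j = 1 → j ≠ 1 →
      ∀ y ∈ Q, j * y * j = y⁻¹ := fun z j hj jj j1 y hy =>
    inv_of_fpf jj (fun k hk => by
      have := (mem_normalizer_iff.1 hj k).1 hk
      rwa [inv_eq_of_mul_eq_one_right jj] at this)
      (fun k hk e => by_contra fun k1 => j1 (odd z j (z.centQ k hk k1 j e) jj)) hy
  rcases hk with ⟨e1, e2⟩ | ⟨e1, e2⟩
  · obtain ⟨x1, h1, ht⟩ : ∃ x1 : G, orderOf x1 = p ∧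
        t ∈ normalizer (centralizer ({x1} : Set G) : Set G) := by
      have z := zq h0
      have : 2 ∣ Nat.card (normalizer (centralizer ({x0} : Set G) : Set G)) := by
        have e := z.cardN
        rw [show q ^ 2 = 2 * (2 * (Nat.card K * q)) + q by rw [e1]; ring] at e
        omega
      obtain ⟨j, hj⟩ := exists_prime_orderOf_dvd_card' 2 this
      rw [← orderOf_coe, orderOf_eq_prime_iff, pow_two] at hj
      obtain ⟨g, hg⟩ := h.invol_conj hj.1 hj.2
      have h1 : orderOf (g⁻¹ * x0 * g) = p := by simpa [h0] using (MulAut.conj g⁻¹).orderOf_eq x0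
      refine ⟨_, h1, (zq h1).ti t _ (mem_centralizer_singleton_iff.2 rfl)
        (fun e => hp.one_lt.ne' (by rw [← h1, e, orderOf_one])) (mem_centralizer_singleton_iff.2 ?_)⟩
      have := mem_centralizer_singleton_iff.1 ((mem_normalizer_iff.1 j.2 x0).1
        (mem_centralizer_singleton_iff.2 rfl))
      rw [← hg]
      calc _ = g⁻¹ * ((j : G) * x0 * (j : G)⁻¹ * x0) * g := by group
        _ = _ := by rw [this]; group
    have z := zq h1
    generalize centralizer ({x1} : Set G) = Q at z ht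
    have : Nontrivial Q := Finite.one_lt_card_iff_nontrivial.1 (by rw [z.cardQ]; omega)
    obtain ⟨y, y1⟩ := exists_ne (1 : Q)
    have two : ∀ g ∈ normalizer (Q : Set G), g * g = 1 → g ≠ 1 → g * t ∈ Q := fun g hg gg g1 => by
      refine z.centQ y y.2 (fun e => y1 (Subtype.ext e)) _ ?_
      have a1 := fpf z g hg gg g1 _ (inv_mem y.2)
      rw [inv_inv, ← fpf z t ht h.tt h.t1 y y.2] at a1
      calc (y : G) * (g * t) = g * (t * y * t) * g * (g * t) := by rw [a1]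
        _ = g * t * y * t * (g * g) * t := by group
        _ = _ := by rw [gg, mul_one, mul_assoc, h.tt, mul_one]
    have out : ∀ g ∈ normalizer (Q : Set G), g * s ∉ K ⊔ zpowers t := fun g hg e => by
      obtain ⟨gg, -⟩ := h.outer e
      have gt := h.memH.2 (Or.inr e)
      have := odd z _ (two g hg gg fun e' => h.outer_not e (e' ▸ one_mem _)) (by
        rw [mul_assoc, ← mul_assoc t, gt, mul_assoc, h.tt, mul_one, gg])
      rw [eq_inv_of_mul_eq_one_left this, h.tinv] at e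
      exact h.outer_not e h.tT
    have hN : Q ⊔ normalizer (Q : Set G) ⊓ (K ⊔ zpowers t) = normalizer (Q : Set G) := by
      refine le_antisymm (sup_le le_normalizer inf_le_left) fun n hn => ?_
      have hu := two (n * t * n⁻¹) (mul_mem (mul_mem hn ht) (inv_mem hn))
        (by rw [conj_mul, h.tt]; simp) (by simpa using h.t1)
      obtain ⟨v, hv, e⟩ : ∃ v ∈ Q, v * v = n * t * n⁻¹ * t := ⟨_, pow_mem hu (2 * Nat.card K + 1), by
        rw [← pow_add, show 2 * Nat.card K + 1 + (2 * Nat.card K + 1) = Nat.card Q + 1 by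
          rw [z.cardQ]; omega, pow_succ,
          orderOf_dvd_iff_pow_eq_one.1 (Q.orderOf_dvd_natCard hu), one_mul]⟩
      have m : v⁻¹ * n ∈ normalizer (Q : Set G) := mul_mem (inv_mem (le_normalizer hv)) hn
      have c : t * (v⁻¹ * n) = v⁻¹ * n * t := by
        calc t * (v⁻¹ * n) = t * v⁻¹ * (t * t) * n := by rw [h.tt]; group
          _ = v⁻¹ * (v * (t * v⁻¹ * t)) * t * n := by group
          _ = v⁻¹ * n * t * n⁻¹ * (t * t) * n := by rw [fpf z t ht h.tt h.t1 _ (inv_mem hv), inv_inv, e]; group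
          _ = _ := by rw [h.tt]; group
      rw [show n = v * (v⁻¹ * n) by group]
      exact mul_mem_sup hv ⟨m, (h.memH.1 c).resolve_right (out _ m)⟩
    have hD := z.card_compl hN (eq_bot_iff.2 fun x hx => mem_bot.2 (odd z x hx.1 (by
      have := fpf z t ht h.tt h.t1 x hx.1
      rw [h.Tt hx.2.2, mul_assoc, h.tt, mul_one] at this
      nth_rewrite 1 [this]; exact inv_mul_cancel x)))
    have hT := eq_of_le_of_card_ge (inf_le_right : normalizer (Q : Set G) ⊓ (K ⊔ zpowers t) ≤ _)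
      (by rw [h.cardT]; omega)
    rw [hT] at hN hD
    exact ⟨Q, _, p, q, s, z.zs h.simple hp (by omega) (by omega) hG2 hN hD h.ss (fun _ => h.Tinv)
      (fun e => out s e (by rw [h.ss]; exact one_mem _)), z, Or.inl ⟨e1, rfl, rfl⟩⟩
  · have z := zq h0
    generalize centralizer ({x0} : Set G) = Q at z
    have ht : t ∉ normalizer (Q : Set G) := fun e => by
      have h1 := Subgroup.orderOf_dvd_natCard _ e
      have h2 := z.cardN
      rw [orderOf_eq_prime ((pow_two t).trans h.tt) h.t1] at h1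
      rw [show q ^ 2 = 2 * (2 * (k' * k') + k') + q by rw [show q = 2 * k' + 1 by omega]; ring] at h2
      omega
    set D := normalizer (Q : Set G) ⊓ (normalizer (Q : Set G)).comap (MulAut.conj t).toMonoidHom
    have hN : Q ⊔ D = normalizer (Q : Set G) := by
      refine le_antisymm (sup_le le_normalizer inf_le_left) fun n hn => ?_
      obtain ⟨m, hm, v, hv, e⟩ := z.cell t ht (t * n) fun e => ht (by
        simpa using mul_mem e (inv_mem hn))
      rw [show n = n * v⁻¹ * v by group, sup_comm]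
      refine mul_mem_sup (mem_inf.2 ⟨mul_mem hn (inv_mem (le_normalizer hv)), ?_⟩) hv
      show t * (n * v⁻¹) * t⁻¹ ∈ normalizer (Q : Set G)
      rw [← mul_assoc, e]; simpa [mul_assoc] using hm
    have hD := z.card_compl hN (eq_bot_iff.2 fun x hx => mem_bot.2 (by_contra fun x1 =>
      ht (z.tiN t x hx.1 x1 hx.2.2)))
    refine ⟨Q, D, p, q, t, z.zs h.simple hp (by omega) (by omega) hG2 hN hD h.tt
      (fun d hd => inv_of_fpf (K := D) h.tt (fun d hd => mem_inf.2 ⟨?_, ?_⟩) (fun d hd e => ?_) hd) ht, z,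
      Or.inr ⟨e1, rfl, Nat.odd_iff.2 (by omega)⟩⟩
    · have : t * d * t⁻¹ ∈ normalizer (Q : Set G) := hd.2
      rwa [h.tinv] at this
    · show t * (t * d * t) * t⁻¹ ∈ normalizer (Q : Set G)
      rw [show t * (t * d * t) * t⁻¹ = t * t * d by group, h.tt, one_mul]; exact hd.1
    · have h1 := h.cardH ▸ Subgroup.orderOf_dvd_natCard _ (mem_centralizer_singleton_iff.2 e)
      have h2 := (D.orderOf_dvd_natCard hd).mul_left 2
      rw [show 4 * Nat.card K = 2 * Nat.card D + 2 by omega] at h1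
      have h3 := (Nat.dvd_add_right h2).1 h1
      rcases (Nat.dvd_prime Nat.prime_two).1 h3 with e | e
      · exact orderOf_eq_one_iff.1 e
      · have := D.orderOf_dvd_natCard hd
        rw [e] at this; omega

/-- Brauer–Suzuki–Wall; every element of order divisible by `p` is conjugate into `Q` (`ZQ.conj`). -/
theorem VK.zsq (hA : AG G) (h : VS t s w K) (hK : K ≠ ⊥) : ∃ Q D p q j, ZS Q D p q j ∧ ZQ Q p q ∧
    ((q = 4 * Nat.card K + 1 ∧ D = K ⊔ zpowers t ∧ j = s) ∨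
      (q + 1 = 4 * Nat.card K ∧ j = t ∧ Odd (Nat.card D))) :=
  h.zs' hK fun p hp _ => hA p hp

theorem VK.zs (hA : AG G) (h : VS t s w K) (hK : K ≠ ⊥) : ∃ Q D p q j, ZS Q D p q j ∧
    ((q = 4 * Nat.card K + 1 ∧ D = K ⊔ zpowers t ∧ j = s) ∨
      (q + 1 = 4 * Nat.card K ∧ j = t ∧ Odd (Nat.card D))) := by
  obtain ⟨Q, D, p, q, j, h1, -, h2⟩ := h.zsq hA hK
  exact ⟨Q, D, p, q, j, h1, h2⟩

end Cfsg.Agent.Lib.AG
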