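/-
A-groups project (S2554): closure properties of A-groups.
-/
import Cfsg.Agent.Lib.AG.Defs
import Cfsg.Agent.Lib.Transfer.AbelianSylow

set_option autoImplicit false

namespace Cfsg.Agent.Lib.AG

open Subgroup Cfsg.Agent.Lib.Core

variable {G : Type*} [Group G]

theorem AG.of_injective {X : Type*} [Group X] (hA : AG G) (f : X →* G)
    (hf : Function.Injective f) : AG X := fun p hp P hP x hx y hy => hf (by
  rw [map_mul, map_mul]
  exact hA p hp (P.map f) (hP.map f) _ ⟨x, hx, rfl⟩ _ ⟨y, hy, rfl⟩)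

theorem AG.subgroup (hA : AG G) (H : Subgroup G) : AG H :=
  hA.of_injective H.subtype H.subtype_injective

theorem AG.of_equiv {X : Type*} [Group X] (hA : AG G) (e : G ≃* X) : AG X :=
  hA.of_injective e.symm.toMonoidHom e.symm.injective

variable {p : ℕ} [hp : Fact p.Prime]

theorem AG.comm (hA : AG G) {P : Subgroup G} (hP : IsPGroup p P) {x y : G} (hx : x ∈ P)
    (hy : y ∈ P) : x * y = y * x := hA p hp.out P hP x hx y hy

theorem AG.isMulCommutative (hA : AG G) {P : Subgroup G} (hP : IsPGroup p P) :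
    IsMulCommutative P := ⟨⟨fun a b => Subtype.ext (hA.comm hP a.2 b.2)⟩⟩

/-- subgroups of a common `p`-subgroup commute -/
theorem AG.le_centralizer (hA : AG G) {P X Y : Subgroup G} (hP : IsPGroup p P) (hX : X ≤ P)
    (hY : Y ≤ P) : X ≤ centralizer (Y : Set G) := fun _ hx =>
  mem_centralizer_iff.mpr fun _ hy => hA.comm hP (hY hy) (hX hx)

theorem AG.le_centralizer_singleton (hA : AG G) {P : Subgroup G} (hP : IsPGroup p P) {x : G}
    (hx : x ∈ P) : P ≤ centralizer {x} := fun _ hy =>
  mem_centralizer_singleton_iff.mpr (hA.comm hP hy hx)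

/-- a `p`-subgroup normalising a `p`-subgroup centralises it -/
theorem AG.comm_of_sup (hA : AG G) {P Q : Subgroup G} (hP : IsPGroup p P) (hQ : IsPGroup p Q)
    (h : P ≤ normalizer (Q : Set G)) : P ≤ centralizer (Q : Set G) :=
  hA.le_centralizer (isPGroup_sup_of_le_normalizer hP hQ h) le_sup_left le_sup_right

theorem AG.syl_le_centralizer (hA : AG G) {P H X : Subgroup G} (hP : IsSyl p P H) (hX : X ≤ P) :
    P ≤ centralizer (X : Set G) := hA.le_centralizer hP.isPGroup le_rfl hX

variable [Finite G]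

theorem AG.exists_syl_le_centralizer (hA : AG G) {X H : Subgroup G} (hX : IsPGroup p X)
    (hXH : X ≤ H) : ∃ P, IsSyl p P H ∧ X ≤ P ∧ P ≤ centralizer (X : Set G) := by
  obtain ⟨P, hP, h⟩ := exists_isSyl_ge hX hXH
  exact ⟨P, hP, h, hA.syl_le_centralizer hP h⟩

/-- every `p`-subgroup of `H` centralises `O_p(H)` -/
theorem AG.le_centralizer_OpOf (hA : AG G) {P H : Subgroup G} (hP : IsPGroup p P)
    (h : P ≤ normalizer (H : Set G)) : P ≤ centralizer (OpOf p H : Set G) :=
  hA.comm_of_sup hP (OpOf_isPGroup H) (le_normalizer_OpOf h)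

omit hp in
theorem AG.of_surjective {Q : Type*} [Group Q] (hA : AG G) (f : G →* Q)
    (hf : Function.Surjective f) : AG Q := by
  intro q hq R hR x hx y hy
  haveI : Fact q.Prime := ⟨hq⟩
  haveI : Finite Q := Finite.of_surjective f hf
  obtain ⟨P, hP⟩ := exists_isSyl q (R.comap f)
  have h1 := hP.map f
  rw [map_comap_eq_self_of_surjective hf] at h1
  have h2 : R = P.map f := h1.eq_of_le hR h1.le le_rfl
  rw [h2] at hx hy
  obtain ⟨a, ha, rfl⟩ := hx
  obtain ⟨b, hb, rfl⟩ := hy
  rw [← map_mul, ← map_mul, hA.comm hP.isPGroup ha hb]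

omit hp in
theorem AG.quot (hA : AG G) (N : Subgroup G) [N.Normal] : AG (G ⧸ N) :=
  hA.of_surjective _ (QuotientGroup.mk'_surjective N)

omit hp in
theorem AG.bar {X : Subgroup G} {Q : Type*} [Group Q] (hA : AG G) (f : X →* Q)
    (hf : Function.Surjective f) : AG Q := (hA.subgroup X).of_surjective f hf

omit hp in
/-- nilpotent subgroups are abelian -/
theorem AG.nilpotent_le_centralizer (hA : AG G) {H : Subgroup G} (hH : Group.IsNilpotent H) :
    H ≤ centralizer (H : Set G) := by
  refine le_of_isNilpotent_of_forall_OpOf hH fun q hq => ?_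
  haveI : Fact q.Prime := ⟨hq⟩
  rw [le_centralizer_iff]
  refine le_of_isNilpotent_of_forall_OpOf hH fun r hr => ?_
  haveI : Fact r.Prime := ⟨hr⟩
  by_cases h : r = q
  · subst h
    exact hA.le_centralizer (OpOf_isPGroup H) le_rfl le_rfl
  · exact OpOf_le_centralizer_OpOf h H

omit hp in
theorem AG.fitting_le_centralizer (hA : AG G) (H : Subgroup G) :
    fittingOf H ≤ centralizer (fittingOf H : Set G) :=
  hA.nilpotent_le_centralizer (fittingOf_isNilpotent H)

omit hp in
theorem AG.fitting_comm (hA : AG G) (H : Subgroup G) {x y : G} (hx : x ∈ fittingOf H)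
    (hy : y ∈ fittingOf H) : x * y = y * x :=
  mem_centralizer_iff.mp (hA.fitting_le_centralizer H hy) x hx

omit hp in
theorem AG.fitting_isMulCommutative (hA : AG G) (H : Subgroup G) :
    IsMulCommutative (fittingOf H) := ⟨⟨fun a b => Subtype.ext (hA.fitting_comm H a.2 b.2)⟩⟩

omit hp in
theorem AG.center_inf_commutator_top (hA : AG G) : center G ⊓ commutator G = ⊥ := by
  by_contra hne
  have h1 : Nat.card ↥(center G ⊓ commutator G) ≠ 1 := fun h => hne (card_eq_one.mp h)
  obtain ⟨q, hq, hd⟩ := Nat.exists_prime_and_dvd h1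
  haveI : Fact q.Prime := ⟨hq⟩
  obtain ⟨x, hx⟩ := exists_prime_orderOf_dvd_card' q hd
  have hxq : (x : G) ^ q ^ 1 = 1 := by
    rw [pow_one, ← hx, ← Subgroup.coe_pow, pow_orderOf_eq_one, Subgroup.coe_one]
  obtain ⟨P, hP⟩ := (isPGroup_zpowers hxq).exists_le_sylow
  haveI := hA.isMulCommutative P.isPGroup'
  have h2 := Transfer.abelian_hall_inf_commutator_inf_center (H := (P : Subgroup G))
    P.card_coprime_index
  have h3 : (x : G) ∈ (P : Subgroup G) ⊓ commutator G ⊓ center G :=
    ⟨⟨hP (mem_zpowers _), x.2.2⟩, x.2.1⟩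
  rw [h2, mem_bot] at h3
  have h4 : x = 1 := Subtype.ext h3
  rw [h4, orderOf_one] at hx
  exact hq.one_lt.ne hx

omit hp in
/-- `Z(H) ∩ H' = 1` -/
theorem AG.center_inf_commutator (hA : AG G) (H : Subgroup G) :
    centralizer (H : Set G) ⊓ ⁅H, H⁆ = ⊥ := by
  have h1 := congrArg (Subgroup.map H.subtype) (hA.subgroup H).center_inf_commutator_top
  rw [map_inf _ _ _ H.subtype_injective, map_subtype_center, Subgroup.map_bot,
    map_subtype_commutator] at h1
  rw [eq_bot_iff, ← h1]
  exact le_inf (le_inf (inf_le_right.trans (commutator_le_of_le_normalizer_left le_normalizer))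
    inf_le_left) inf_le_right

omit hp in
theorem AG.inf_centralizer_of_perfect (hA : AG G) {K : Subgroup G} (hK : ⁅K, K⁆ = K) :
    K ⊓ centralizer (K : Set G) = ⊥ := by
  rw [inf_comm]
  nth_rw 2 [← hK]
  exact hA.center_inf_commutator K

omit hp in
theorem AG.eq_bot_or_eq_of_qs (hA : AG G) {K N : Subgroup G} (hK : QS K) (hN : N ≤ K)
    (hn : K ≤ normalizer (N : Set G)) : N = ⊥ ∨ N = K :=
  (hK.dichotomy N hN hn).imp_left fun h =>
    eq_bot_iff.mpr ((le_inf hN h).trans (hA.inf_centralizer_of_perfect hK.perfect).le)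

omit hp in
/-- quasisimple A-groups are simple -/
theorem AG.simple_of_qs (hA : AG G) {K : Subgroup G} (hK : QS K) : IsSimpleGroup K := by
  haveI : Nontrivial K := (nontrivial_iff_ne_bot K).mpr hK.ne_bot
  refine ⟨fun N hN => ?_⟩
  rcases hA.eq_bot_or_eq_of_qs hK (map_subtype_le N) (le_normalizer_map_subtype_of_normal N) with
    h | h
  · exact Or.inl ((map_eq_bot_iff_of_injective N K.subtype_injective).mp h)
  · refine Or.inr (map_injective K.subtype_injective ?_)
    rw [h, ← MonoidHom.range_eq_map, range_subtype]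

/-- `P ≤ O_{p',p}(X)` when `X` has no `p`-components -/
theorem AG.syl_le_OppPOf (hA : AG G) {P X : Subgroup G} (hL : LOf p X = ⊥) (hP : IsSyl p P X) :
    P ≤ OppPOf p X := by
  have h1 := hP.inf_normal (OppPOf_le (p := p) X) (self_le_normalizer_OppPOf X)
  exact (le_inf hP.le (hA.syl_le_centralizer hP inf_le_left)).trans
    (inf_centralizer_le_OppPOf hL h1)

/-- `X = O_{p'}(X) N_X(P)` when `X` has no `p`-components -/
theorem AG.fact_of_LOf (hA : AG G) {P X : Subgroup G} (hL : LOf p X = ⊥) (hP : IsSyl p P X) :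
    OppOf p X ⊔ (X ⊓ normalizer (P : Set G)) = X := by
  have h0 := hA.syl_le_OppPOf hL hP
  have h1 : IsSyl p P (OppPOf p X) := hP.mono h0 (OppPOf_le X)
  have h2 := h1.frattini_sup (OppPOf_le X) (self_le_normalizer_OppPOf X)
  rw [← h1.sup_OppOf] at h2
  refine le_antisymm (sup_le (OppOf_le X) inf_le_left) (h2.ge.trans ?_)
  exact sup_le (sup_le ((le_inf hP.le le_normalizer).trans le_sup_right) le_sup_left) le_sup_right

theorem AG.psolv_fact (hA : AG G) {P X : Subgroup G} (hX : PSolv p X) (hP : IsSyl p P X) :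
    OppOf p X ⊔ (X ⊓ normalizer (P : Set G)) = X := hA.fact_of_LOf hX.LOf_eq_bot hP

theorem AG.solv_fact (hA : AG G) {P X : Subgroup G} (hX : Group.IsSolvable X) (hP : IsSyl p P X) :
    OppOf p X ⊔ (X ⊓ normalizer (P : Set G)) = X := hA.psolv_fact (psolv_of_isSolvable hX) hP

/-- Elementwise form. -/
theorem AG.exists_mul_of_LOf (hA : AG G) {P X : Subgroup G} (hL : LOf p X = ⊥) (hP : IsSyl p P X)
    {x : G} (hx : x ∈ X) : ∃ o ∈ OppOf p X, ∃ n ∈ X ⊓ normalizer (P : Set G), o * n = x := by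
  rw [← hA.fact_of_LOf hL hP] at hx
  exact (mem_sup_of_le_normalizer_left
    (le_normalizer_OppOf (inf_le_left.trans le_normalizer))).mp hx

/-- Burnside's transfer theorem for a subgroup: `X = O_{p'}(X) P`. -/
theorem burnside_sup {P X : Subgroup G} (hP : IsSyl p P X)
    (h : X ⊓ normalizer (P : Set G) ≤ centralizer (P : Set G)) : OppOf p X ⊔ P = X := by
  obtain ⟨S, hS⟩ := hP.exists_sylow
  have h1 : normalizer ((S : Subgroup X) : Set X) ≤ centralizer ((S : Subgroup X) : Set X) := by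
    rw [hS, ← subgroupOf_centralizer_eq hP.le]
    intro x hx
    have : (x : G) ∈ X ⊓ normalizer (P : Set G) := by
      rw [← map_subtype_normalizer_subgroupOf hP.le]
      exact ⟨x, hx, rfl⟩
    exact h this
  have hc := MonoidHom.ker_transferSylow_isComplement' S h1
  set K := (MonoidHom.transferSylow S h1).ker with hK
  have hKp : ¬ p ∣ Nat.card K := MonoidHom.not_dvd_card_ker_transferSylow S h1
  have h2 : K.map X.subtype ≤ OppOf p X :=
    le_OppOf (map_subtype_le _) (le_normalizer_map_subtype_of_normal K)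
      (by rwa [card_map_subtype])
  refine le_antisymm (sup_le (OppOf_le X) hP.le) fun x hx => ?_
  obtain ⟨⟨k, s⟩, hks⟩ := hc.2 ⟨x, hx⟩
  have h3 : ((k : X) : G) * ((s : X) : G) = x := congrArg Subtype.val hks
  rw [← h3]
  refine mul_mem (mem_sup_left (h2 ⟨k, k.2, rfl⟩)) (mem_sup_right ?_)
  exact (hS.le s.2 : (s : X) ∈ P.subgroupOf X)

end Cfsg.Agent.Lib.AG
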