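/-
A-groups project: a form of Brauer's second main theorem, and small character lemmas.
-/
import Cfsg.Agent.Lib.Char.Section

set_option autoImplicit false
set_option linter.unusedSectionVars false

namespace Cfsg.Agent.Lib.AG.C2

open Cfsg.Agent.Lib.Char MonoidAlgebra

variable {p : ℕ} [hp : Fact p.Prime] {G : Type*} [Group G] [Fintype G]

theorem twisted (H : Subgroup G) [Fintype H] (g : H)
    (hg : ∀ n : ℕ, ¬ p ∣ n → ∀ x : G, (g : G) ^ n * x = x * (g : G) ^ n → x ∈ H)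
    {f : G → ℂ} (hf : IsClass f) (hi : ∀ x, pv p (f x) ≤ 1) :
    ∃ (t : GA G) (c : ℂ), c ≠ 1 ∧ single (g : G) 1 * t = c • (t * single (g : G) 1) ∧
      MaxC p (t - (ga f - incl H (ga (f ∘ H.subtype)))) := by
  classical
  obtain ⟨z, hz, hz0, hz1⟩ := exists_root_of_unity (p := p)
  let σ : Equiv.Perm G := (MulAut.conj (g : G)).toEquiv
  have hσ : ∀ x, σ x = g * x * (g : G)⁻¹ := fun x => rfl
  have hσn : ∀ (n : ℕ) x, (σ ^ n) x = (g : G) ^ n * x * ((g : G) ^ n)⁻¹ := by
    intro n; induction n with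
    | zero => simp
    | succ n ih => intro x; rw [pow_succ', Equiv.Perm.mul_apply, ih, hσ]; group
  obtain ⟨φ, hφ1, hφ2⟩ := exists_twist σ p hz hz0
  have hφ3 : ∀ x, x ∉ H → φ (σ x) = z * φ x := fun x hx => hφ2 x fun n hn => by
    by_contra hpn
    rw [hσn, mul_inv_eq_iff_eq_mul] at hn
    exact hx (hg n hpn x hn)
  refine ⟨ga fun x => if x ∈ H then 0 else f x * φ x, z⁻¹, by simpa using hz1, ?_, ?_⟩
  · apply ga_ext; intro a
    simp only [coeff_single_mul_apply, coeff_ga, one_mul, coeff_smul, Finsupp.smul_apply,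
      coeff_mul_single_apply, mul_one, smul_eq_mul]
    have h1 : a * (g : G)⁻¹ = σ ((g : G)⁻¹ * a) := by rw [hσ]; group
    have h2 : a * (g : G)⁻¹ ∈ H ↔ (g : G)⁻¹ * a ∈ H := by
      rw [H.mul_mem_cancel_right (H.inv_mem g.2), H.mul_mem_cancel_left (H.inv_mem g.2)]
    by_cases ha : (g : G)⁻¹ * a ∈ H
    · simp [ha, h2]
    · rw [if_neg ha, if_neg (h2.not.2 ha), h1, hφ3 _ ha, hσ, hf]
      field_simp
  · intro a
    simp only [coeff_sub, Finsupp.sub_apply, coeff_ga, coeff_incl]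
    by_cases ha : a ∈ H
    · rw [if_pos ha, ext0_of_mem _ ha]
      simp
    · rw [if_neg ha, ext0_of_not_mem _ ha, sub_zero, ← mul_sub_one]
      exact pv_mul_lt_right (hi a) (pv_sub_one_lt (k := 1) (by simpa using hφ1 a))

theorem exists_E {y : GA G} (hy : ∀ x, y * x = x * y) (hi : IntC p y) {i : Irr G}
    (h : pv p (omega i y) = 1) :
    ∃ (v : GA G) (S : Finset (Irr G)), (∀ x, v * x = x * v) ∧ IntC p v ∧ y * v = idemS S ∧ i ∈ S := by
  classical
  have k : ∀ T : Finset (Irr G), (∀ j ∈ T, pv p (omega j y) < 1) → ∃ v : GA G, (∀ x, v * x = x * v) ∧ IntC p v ∧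
      (∀ j ∈ T, omega j (y * v) = 0) ∧ ∀ j, pv p (omega j y) = 1 → pv p (omega j v) = 1 := by
    intro T
    induction T using Finset.induction_on with
    | empty => exact fun _ => ⟨1, by simp, intC_one, by simp, fun j _ => by rw [omega_one, map_one]⟩
    | insert a T ha ih =>
      intro hT
      obtain ⟨v, v1, v2, v3, v4⟩ := ih fun j hj => hT j (Finset.mem_insert_of_mem hj)
      have ha := hT a (Finset.mem_insert_self _ _)
      have c : ∀ x, (y - omega a y • 1) * x = x * (y - omega a y • 1) := fun x => by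
        simp [sub_mul, mul_sub, hy]
      have o : ∀ j, omega j (y - omega a y • 1) = omega j y - omega a y := fun j => by
        rw [omega_sub, omega_smul, omega_one, mul_one]
      refine ⟨v * (y - omega a y • 1), central_mul v1 c, v2.mul (hi.sub (intC_one.smul ha.le)),
        fun j hj => ?_, fun j hj => ?_⟩
      · rw [← mul_assoc, omega_mul _ (central_mul hy v1), o]
        rcases Finset.mem_insert.1 hj with rfl | hj
        · simp
        · rw [v3 j hj, zero_mul]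
      · rw [omega_mul _ v1, map_mul, v4 j hj, one_mul, o]
        exact pv_eq_one_of_sub hj (by simpa using ha)
  obtain ⟨v, v1, v2, v3, v4⟩ := k (Finset.univ.filter fun j => pv p (omega j y) < 1) (by simp)
  obtain ⟨w, w1, w2, w3⟩ := exists_mul_eq_idemS (central_mul hy v1) (hi.mul v2)
    (Finset.univ.filter fun j => pv p (omega j y) = 1)
    (fun j hj => by
      have := (Finset.mem_filter.1 hj).2
      rw [omega_mul _ hy, map_mul, this, v4 j this, one_mul])
    (fun j hj => v3 j (by simpa using lt_of_le_of_ne (pv_omega_le j hy hi) (by simpa using hj)))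
  exact ⟨v * w, _, central_mul v1 w1, v2.mul w2, by rw [← mul_assoc, w3], by simpa using h⟩

theorem m2_aux (H : Subgroup G) [Fintype H] (g : H)
    (hg : ∀ n : ℕ, ¬ p ∣ n → ∀ x : G, (g : G) ^ n * x = x * (g : G) ^ n → x ∈ H)
    {f : G → ℂ} (hf : IsClass f) (hi : ∀ x, pv p (f x) ≤ 1) {e y : GA G} (he : e * e = e) (eI : IntC p e)
    (eg : e * single (g : G) 1 = single (g : G) 1 * e) (hy : ∀ x, y * x = x * y) (yI : IntC p y)
    (ey : e * y = e * (ga f - incl H (ga (f ∘ H.subtype)))) {i : Irr G} (h : pv p (omega i y) = 1) :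
    lin (chi i) (e * single (g : G) 1) = 0 := by
  obtain ⟨t, c, hc, ht, hm⟩ := twisted H g hg hf hi
  obtain ⟨v, S, v1, v2, v3, hS⟩ := exists_E hy yI h
  have hec := idemS_comm S
  have key := green_ga (p := p) (isClass_chi i) (e := e * idemS S) (t := e * t * v) (g := g) hc
    (by rw [mul_assoc, ← mul_assoc (idemS S), hec, mul_assoc, idemS_mul_self, ← mul_assoc, he])
    (eI.mul (v3 ▸ yI.mul v2))
    (by rw [mul_assoc, hec, ← mul_assoc, eg, mul_assoc])
    (by
      rw [← mul_assoc, ← mul_assoc, ← eg, mul_assoc e, ht, mul_assoc _ v, v1]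
      simp [mul_assoc])
    (by
      rw [← v3, ← mul_assoc, ey, ← sub_mul, ← mul_sub]
      exact (MaxC.mul_left eI hm).mul_right v2)
  rwa [← hec, mul_assoc, lin_chi_mul_central _ hec, omega_idemS, if_pos hS, one_mul] at key

/-- separation by a class function whose restriction is an idempotent -/
theorem m2 (H : Subgroup G) [Fintype H] {f : G → ℂ} (hf : IsClass f) (hi : ∀ x, pv p (f x) ≤ 1)
    {S : Finset (Irr H)} (hS : ga (f ∘ H.subtype) = idemS S) (i : Irr G) :
    (∀ g : H, (∀ n : ℕ, ¬ p ∣ n → ∀ x : G, (g : G) ^ n * x = x * (g : G) ^ n → x ∈ H) →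
      proj S (chi i ∘ H.subtype) g = 0) ∨
    ∀ g : H, (∀ n : ℕ, ¬ p ∣ n → ∀ x : G, (g : G) ^ n * x = x * (g : G) ^ n → x ∈ H) →
      proj S (chi i ∘ H.subtype) g = chi i g := by
  have fI := intC_ga (p := p) hi
  have eI : IntC p (incl H (idemS S)) := IntC.incl (hS ▸ intC_ga fun x => hi _)
  have pr : ∀ g : H, proj S (chi i ∘ H.subtype) g = lin (chi i) (incl H (idemS S) * single (g : G) 1) :=
    fun g => by rw [proj_eq_lin _ ((isClass_chi i).comp _), ← lin_incl, map_mul (incl H), incl_single]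
  have bb : incl H (idemS S) * incl H (idemS S) = incl H (idemS S) := by rw [← map_mul, idemS_mul_self]
  have bg : ∀ g : H, incl H (idemS S) * single (g : G) 1 = single (g : G) 1 * incl H (idemS S) := fun g => by
    rw [← incl_single, ← map_mul, idemS_comm, map_mul]
  rcases (pv_omega_le i (ga_central hf) fI).lt_or_eq with h | h
  · refine .inl fun g hg => ?_
    rw [pr]
    refine m2_aux H g hg hf hi bb eI (bg g) (y := ga f - 1) (fun x => by simp [sub_mul, mul_sub, ga_central hf])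
      (fI.sub intC_one) (by rw [hS, mul_sub, mul_sub, bb, mul_one]) ?_
    rw [omega_sub, omega_one]
    exact pv_eq_one_of_sub (b := -1) (by simp) (by simpa using h)
  · refine .inr fun g hg => ?_
    have := m2_aux H g hg hf hi (e := 1 - incl H (idemS S)) (by simp [mul_sub, sub_mul, bb]) (intC_one.sub eI)
      (by simp [mul_sub, sub_mul, bg]) (ga_central hf) fI (by rw [hS]; simp [mul_sub, sub_mul, bb]) h
    rw [sub_mul, one_mul, map_sub, lin_single, one_mul, sub_eq_zero] at this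
    rw [pr, this]

/-- the index of a linear character -/
noncomputable def ix (lam : G →* ℂ) : Irr G := (exists_chi_eq_lin lam).choose

theorem chi_ix (lam : G →* ℂ) : chi (ix lam) = lam := (exists_chi_eq_lin lam).choose_spec

theorem ix_inj : Function.Injective (ix (G := G)) := fun a b e =>
  DFunLike.coe_injective (by rw [← chi_ix a, e, chi_ix])

theorem deg_ix (lam : G →* ℂ) : deg (ix lam) = 1 := by
  have := chi_one (ix lam)
  rw [chi_ix, map_one] at this
  exact_mod_cast this.symm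

open Classical in
theorem ip_lin (a b : G →* ℂ) : ip a b = if a = b then 1 else 0 := by
  rw [← chi_ix a, ← chi_ix b, ip_chi_chi]; simp only [ix_inj.eq_iff]

theorem idemS_lin {ι : Type*} (T : Finset ι) (L : ι → G →* ℂ) (hL : Function.Injective L) :
    idemS (T.image fun a => ix (L a)) = ga fun g => (Fintype.card G : ℂ)⁻¹ * ∑ a ∈ T, L a g⁻¹ := by
  refine ga_ext fun g => ?_
  rw [idemS, Finset.sum_image fun a _ b _ e => hL (ix_inj e), coeff_ga, Finset.mul_sum]
  simp only [coeff_sum, Finsupp.finsetSum_apply, coeff_idem, chi_ix, deg_ix]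
  simp

theorem proj_lin {ι : Type*} (T : Finset ι) (L : ι → G →* ℂ) (hL : Function.Injective L) (f : G → ℂ) (g : G) :
    proj (T.image fun a => ix (L a)) f g = ∑ a ∈ T, ip f (L a) * L a g := by
  rw [proj_apply, Finset.sum_image fun a _ b _ e => hL (ix_inj e)]
  simp only [chi_ix]

/-- the `+1`-eigenspace of an involution -/
theorem isChar_half {X : Type*} [Group X] [Fintype X] (φ : X →* G) {j : G} (hj : j * j = 1)
    (hc : ∀ x, φ x * j = j * φ x) (i : Irr G) : IsChar fun x => (chi i (φ x) + chi i (φ x * j)) / 2 := by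
  have := isChar_trace_mul ((rho i).comp φ) ((1 / 2 : ℂ) • (1 + rho i j)) (by
    rw [smul_mul_smul_comm, add_mul, mul_add, mul_add, ← map_mul, hj, map_one]
    simp only [one_mul, mul_one]; module) (fun x => by
    simp only [MonoidHom.comp_apply, mul_smul_comm, smul_mul_assoc, mul_add, add_mul, ← map_mul, hc, mul_one,
      one_mul])
  convert this using 2 with x
  simp only [MonoidHom.comp_apply, mul_smul_comm, mul_add, ← map_mul, mul_one, Matrix.trace_smul,
    Matrix.trace_add, chi, smul_eq_mul]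
  ring

/-- distinct linear constituents of multiplicity at least two -/
theorem two_mul_le {f : G → ℂ} (hf : IsChar f) {n m : ℕ} (h1 : f 1 = n) (L : ℕ → G →* ℂ)
    (hL : Set.InjOn L (Set.Iio m)) (h2 : ∀ a < m, ∃ k : ℕ, 2 ≤ k ∧ ip f (L a) = k) : 2 * m ≤ n := by
  classical
  obtain ⟨c, rfl⟩ := hf
  simp only [Finset.sum_apply, Pi.smul_apply, chi_one, smul_eq_mul] at h1
  have e : ∑ i, c i * deg i = n := by exact_mod_cast h1
  have inj : Set.InjOn (fun a => ix (L a)) (Finset.range m : Set ℕ) := fun a ha b hb e =>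
    hL (by simpa using ha) (by simpa using hb) (ix_inj e)
  calc 2 * m = ∑ a ∈ Finset.range m, 2 := by simp [mul_comm]
    _ ≤ ∑ a ∈ Finset.range m, c (ix (L a)) * deg (ix (L a)) := Finset.sum_le_sum fun a ha => by
      obtain ⟨k, k2, e⟩ := h2 a (Finset.mem_range.1 ha)
      rw [← chi_ix, ip_sum_smul_chi (fun i => (c i : ℂ))] at e
      rw [deg_ix, mul_one, show c (ix (L a)) = k by exact_mod_cast e]; exact k2
    _ = ∑ i ∈ (Finset.range m).image fun a => ix (L a), c i * deg i := (Finset.sum_image (f := fun i => c i * deg i) inj).symm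
    _ ≤ n := e ▸ Finset.sum_le_sum_of_subset (Finset.subset_univ _)

section Int
variable {ι : Type*} [Fintype ι] {x : ι → ℕ} (hx : ∀ a, 0 < x a)
include hx

theorem col0 {d : ι → ℤ} (h4 : ∑ a, d a * d a = 4) (h0 : ∑ a, d a * x a = 0) (a : ι) :
    d a = 0 ∨ d a = 1 ∨ d a = -1 := by
  classical
  rw [← Finset.add_sum_erase _ _ (Finset.mem_univ a)] at h4 h0
  have n : 0 ≤ ∑ b ∈ Finset.univ.erase a, d b * d b := Finset.sum_nonneg fun b _ => mul_self_nonneg _
  have : ¬ d a * d a = 4 := fun e => by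
    have z := (Finset.sum_eq_zero_iff_of_nonneg fun b _ => mul_self_nonneg (d b)).1
      (show ∑ b ∈ Finset.univ.erase a, d b * d b = 0 by omega)
    rw [Finset.sum_eq_zero fun b hb => by rw [mul_self_eq_zero.1 (z b hb), zero_mul], add_zero,
      mul_eq_zero] at h0
    have := hx a
    rcases h0 with h0 | h0
    · rw [h0] at e; omega
    · omega
  have h3 : d a * d a < 4 := by omega
  have h1 : d a < 2 := by nlinarith
  have h2 : -2 < d a := by nlinarith
  omega

theorem col {d : ι → ℤ} (h4 : ∑ a, d a * d a = 4) (h0 : ∑ a, d a * x a = 0) :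
    ∃ a b c e, ∀ {M : Type} [AddCommMonoid M] (f : ι → M), (∀ i, d i = 0 → f i = 0) →
      (∑ i, f i = f a + f b + f c + f e) ∧ ∀ i ∈ [a, b, c, e], d i = 1 ∨ d i = -1 := by
  classical
  have k := col0 hx h4 h0
  have s : ∀ {M : Type} [AddCommMonoid M] (f : ι → M), (∀ i, d i = 0 → f i = 0) →
      ∑ i, f i = ∑ i ∈ Finset.univ.filter fun i => d i ≠ 0, f i := fun f hf =>
    (Finset.sum_subset (Finset.subset_univ _) fun i _ hi => hf i (by simpa using hi)).symm
  rw [s _ (fun i e => by simp [e]), Finset.sum_congr rfl (g := fun _ => 1) (fun i hi => by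
    have := (Finset.mem_filter.1 hi).2
    rcases k i with e | e | e <;> simp_all), Finset.sum_const, nsmul_one] at h4
  obtain ⟨a, b, c, e, h1, h2, h3, h5, h6, h7, hS⟩ := Finset.card_eq_four.1
    (show (Finset.univ.filter fun i => d i ≠ 0).card = 4 by exact_mod_cast h4)
  refine ⟨a, b, c, e, fun f hf => ⟨?_, fun i hi => (k i).resolve_left ?_⟩⟩
  · rw [s f hf, hS, Finset.sum_insert (by simp [*]), Finset.sum_insert (by simp [*]), Finset.sum_pair h7]
    simp only [add_assoc]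
  · exact (Finset.mem_filter.1 (hS.ge (by simpa using hi))).2

theorem col_one {d : ι → ℤ} (h4 : ∑ a, d a * d a = 4) (h0 : ∑ a, d a * x a = 0)
    (hs : 8 / 15 ≤ ∑ a, (d a : ℚ) / x a) : ∃ a, d a ≠ 0 ∧ x a ≤ 5 := by
  obtain ⟨a, b, c, e, k⟩ := col hx h4 h0
  rw [(k _ fun i e => by simp [e]).1] at h0 hs
  have s := (k (fun _ => (0 : ℤ)) fun _ _ => rfl).2
  by_contra! hh
  have q : ∀ i ∈ [a, b, c, e], d i = 1 ∧ (d i : ℚ) / x i ≤ 1 / 6 ∨ d i = -1 ∧ (d i : ℚ) / x i ≤ 0 := fun i hi => by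
    have : (6 : ℚ) ≤ x i := by exact_mod_cast hh i (by rcases s i hi with e | e <;> simp [e])
    refine (s i hi).imp (fun e => ⟨e, ?_⟩) fun e => ⟨e, ?_⟩ <;> rw [e]
    · exact one_div_le_one_div_of_le (by norm_num) this |>.trans_eq' (by simp)
    · exact div_nonpos_of_nonpos_of_nonneg (by simp) (by positivity)
  have := hx a; have := hx b; have := hx c; have := hx e
  rcases q a (by simp) with ⟨a1, a2⟩ | ⟨a1, a2⟩ <;> rcases q b (by simp) with ⟨b1, b2⟩ | ⟨b1, b2⟩ <;>
    rcases q c (by simp) with ⟨c1, c2⟩ | ⟨c1, c2⟩ <;> rcases q e (by simp) with ⟨e1, e2⟩ | ⟨e1, e2⟩ <;>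
    first | linarith | (rw [a1, b1, c1, e1] at h0; omega)

omit hx in
theorem had {y1 y2 y3 y4 p1 p2 p3 p4 q1 q2 q3 q4 : ℤ} (a1 : p1 = 1 ∨ p1 = -1) (a2 : p2 = 1 ∨ p2 = -1)
    (a3 : p3 = 1 ∨ p3 = -1) (a4 : p4 = 1 ∨ p4 = -1) (b1 : q1 = 1 ∨ q1 = -1) (b2 : q2 = 1 ∨ q2 = -1)
    (b3 : q3 = 1 ∨ q3 = -1) (b4 : q4 = 1 ∨ q4 = -1) (e1 : y1 + y2 + y3 + y4 = 0)
    (e2 : p1 * y1 + p2 * y2 + p3 * y3 + p4 * y4 = 0) (e3 : q1 * y1 + q2 * y2 + q3 * y3 + q4 * y4 = 0)
    (e4 : p1 + p2 + p3 + p4 = 0) (e5 : q1 + q2 + q3 + q4 = 0) (e6 : p1 * q1 + p2 * q2 + p3 * q3 + p4 * q4 = 0)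
    (hs : 8 / 15 ≤ ((1 + p1 + q1) ^ 2 / y1 + (1 + p2 + q2) ^ 2 / y2 + (1 + p3 + q3) ^ 2 / y3 +
      (1 + p4 + q4) ^ 2 / y4 : ℚ)) : |y1| ≤ 15 := by
  obtain ⟨c, hc⟩ : ∃ c, y1 = p1 * q1 * c := ⟨p1 * q1 * y1, by
    rcases a1 with rfl | rfl <;> rcases b1 with rfl | rfl <;> simp⟩
  have k : y2 = p2 * q2 * c ∧ y3 = p3 * q3 * c ∧ y4 = p4 * q4 * c ∧ |y1| = |c| ∧ (((1 + p1 + q1) ^ 2 / (p1 * q1) +
      (1 + p2 + q2) ^ 2 / (p2 * q2) + (1 + p3 + q3) ^ 2 / (p3 * q3) + (1 + p4 + q4) ^ 2 / (p4 * q4) : ℚ) = 8) := by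
    rcases a1 with rfl | rfl <;> rcases a2 with rfl | rfl <;> rcases a3 with rfl | rfl <;>
      rcases a4 with rfl | rfl <;> (try omega) <;> rcases b1 with rfl | rfl <;> rcases b2 with rfl | rfl <;>
      rcases b3 with rfl | rfl <;> rcases b4 with rfl | rfl <;> (try omega) <;>
      exact ⟨by omega, by omega, by omega, by simp [hc], by norm_num⟩
  obtain ⟨h2, h3, h4, h5, h6⟩ := k
  rw [hc, h2, h3, h4] at hs
  simp only [Int.cast_mul, ← div_div _ _ (c : ℚ), ← add_div] at hs h6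
  rw [h6] at hs
  have c0 : (0 : ℚ) < c := by
    by_contra! hh
    have : (8 : ℚ) / c ≤ 0 := div_nonpos_of_nonneg_of_nonpos (by norm_num) hh
    linarith
  rw [div_le_div_iff₀ (by norm_num) c0] at hs
  have : (c : ℚ) ≤ 15 := by linarith
  rw [h5, abs_of_pos (by exact_mod_cast c0)]
  exact_mod_cast this

theorem col_three {d d1 d2 : ι → ℤ} (h4 : ∑ a, d a * d a = 4) (h0 : ∑ a, d a * x a = 0)
    (h41 : ∑ a, d1 a * d1 a = 4) (h01 : ∑ a, d1 a * x a = 0) (h42 : ∑ a, d2 a * d2 a = 4)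
    (h02 : ∑ a, d2 a * x a = 0) (o1 : ∑ a, d a * d1 a = 0) (o2 : ∑ a, d a * d2 a = 0)
    (o3 : ∑ a, d1 a * d2 a = 0) (p1 : ∀ a, 2 ∣ d a - d1 a) (p2 : ∀ a, 2 ∣ d a - d2 a)
    (hs : 8 / 15 ≤ ∑ a, (d a : ℚ) * ((d a + d1 a + d2 a) ^ 2 / x a)) : ∃ a, d a ≠ 0 ∧ x a ≤ 15 := by
  obtain ⟨a, b, c, e, k⟩ := col hx h4 h0
  have z1 : ∀ i, d i = 0 → d1 i = 0 := fun i e => by have := p1 i; have := col0 hx h41 h01 i; omega
  have z2 : ∀ i, d i = 0 → d2 i = 0 := fun i e => by have := p2 i; have := col0 hx h42 h02 i; omega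
  have h01' := h01
  have h02' := h02
  rw [(k _ fun i e => by simp [e, z1 i e, z2 i e]).1] at h0 h01 h02 o1 o2 o3 hs
  have s := (k (fun _ => (0 : ℤ)) fun _ _ => rfl).2
  have q : ∀ i ∈ [a, b, c, e], (d i * d1 i = 1 ∨ d i * d1 i = -1) ∧ (d i * d2 i = 1 ∨ d i * d2 i = -1) ∧
      d1 i * x i = d i * d1 i * (d i * x i) ∧ d2 i * x i = d i * d2 i * (d i * x i) ∧
      d1 i * d2 i = d i * d1 i * (d i * d2 i) ∧ (d i : ℚ) * ((d i + d1 i + d2 i) ^ 2 / x i) =
        (1 + (d i * d1 i : ℤ) + (d i * d2 i : ℤ)) ^ 2 / (d i * x i : ℤ) := fun i hi => by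
    have r1 := p1 i; have := col0 hx h41 h01' i; have r2 := p2 i; have := col0 hx h42 h02' i
    rcases s i hi with e | e <;> rw [e] at r1 r2 ⊢ <;>
      refine ⟨by omega, by omega, by ring, by ring, by ring, by push_cast; ring⟩
  obtain ⟨a1, a2, a3, a4, a5, a6⟩ := q a (by simp)
  obtain ⟨b1, b2, b3, b4, b5, b6⟩ := q b (by simp)
  obtain ⟨c1, c2, c3, c4, c5, c6⟩ := q c (by simp)
  obtain ⟨e1, e2, e3, e4, e5, e6⟩ := q e (by simp)
  have := had a1 b1 c1 e1 a2 b2 c2 e2 h0 (by rwa [← a3, ← b3, ← c3, ← e3]) (by rwa [← a4, ← b4, ← c4, ← e4]) o1 o2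
    (by rwa [← a5, ← b5, ← c5, ← e5]) (by rwa [← a6, ← b6, ← c6, ← e6])
  rcases s a (by simp) with e | e <;> rw [e] at this <;> exact ⟨a, by simp [e], by simp at this; exact_mod_cast this⟩

end Int

end Cfsg.Agent.Lib.AG.C2
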