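/-
A-groups project (S2554), piece C1, part 1: the local structure of a simple group with a Klein
four Sylow 2-subgroup and the count of pairs of involutions with product of even order.
-/
import Cfsg.Agent.Lib.AG.Defs
import Cfsg.Agent.Lib.Char.Section
import Cfsg.Agent.Lib.Transfer.AbelianSylow
import Cfsg.Agent.Lib.Transfer.SylowIn

set_option autoImplicit false
set_option linter.unusedSectionVars false

namespace Cfsg.Agent.Lib.AG

open Subgroup Cfsg.Agent.Lib.Char Cfsg.Agent.Lib.Transfer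
open scoped Pointwise

variable {G : Type*} [Group G] {t s w : G}

namespace V4

theorem ttx (h : V4 t s w) (x : G) : t * (t * x) = x := by rw [← mul_assoc, h.tt, one_mul]
theorem ssx (h : V4 t s w) (x : G) : s * (s * x) = x := by rw [← mul_assoc, h.ss, one_mul]
theorem stx (h : V4 t s w) (x : G) : s * (t * x) = t * (s * x) := by
  rw [← mul_assoc, ← h.comm, mul_assoc]
theorem st (h : V4 t s w) : s * t = t * s := h.comm.symm
theorem t_inv (h : V4 t s w) : t⁻¹ = t := inv_eq_of_mul_eq_one_right h.tt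
theorem s_inv (h : V4 t s w) : s⁻¹ = s := inv_eq_of_mul_eq_one_right h.ss
theorem tsts (h : V4 t s w) : t * s * (t * s) = 1 := by
  rw [mul_assoc, h.stx, h.ss, h.ttx]
theorem ts1 (h : V4 t s w) : t * s ≠ 1 := fun e => h.ts (by
  rw [← h.t_inv]; exact inv_eq_of_mul_eq_one_right e)
theorem t_ts (h : V4 t s w) : t ≠ t * s := fun e => h.s1 (by simpa using e.symm)
theorem s_ts (h : V4 t s w) : s ≠ t * s := fun e => h.t1 (by simpa using e.symm)

theorem wts (h : V4 t s w) : w * (t * s) * w⁻¹ = t := by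
  have : w * (t * s) * w⁻¹ = (w * t * w⁻¹) * (w * s * w⁻¹) := by group
  rw [this, h.wt, h.ws, h.stx, h.ss, mul_one]

/-- symmetry `s ↔ ts` -/
theorem swap (h : V4 t s w) : V4 t (t * s) w⁻¹ where
  simple := h.simple
  tt := h.tt
  ss := h.tsts
  t1 := h.t1
  s1 := h.ts1
  ts := h.t_ts
  comm := by rw [mul_assoc, h.st]
  n8 := h.n8
  wt := by
    conv_lhs => rw [← h.wts]
    group
  ws := by
    rw [h.ttx]
    conv_lhs => rw [← h.ws]
    group

/-- the Sylow 2-subgroup `{1, t, s, ts}` -/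
def VV (h : V4 t s w) : Subgroup G where
  carrier := {g | g = 1 ∨ g = t ∨ g = s ∨ g = t * s}
  one_mem' := Or.inl rfl
  mul_mem' := by
    rintro a b (rfl | rfl | rfl | rfl) (rfl | rfl | rfl | rfl) <;>
      simp [h.tt, h.ss, h.ttx, h.ssx, h.stx, h.st, mul_assoc]
  inv_mem' := by
    rintro a (rfl | rfl | rfl | rfl) <;> simp [h.t_inv, h.s_inv, h.st]

theorem mem_VV (h : V4 t s w) {g : G} : g ∈ h.VV ↔ g = 1 ∨ g = t ∨ g = s ∨ g = t * s := Iff.rfl

theorem t_mem (h : V4 t s w) : t ∈ h.VV := Or.inr (Or.inl rfl)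
theorem s_mem (h : V4 t s w) : s ∈ h.VV := Or.inr (Or.inr (Or.inl rfl))

theorem VV_comm (h : V4 t s w) {a b : G} (ha : a ∈ h.VV) (hb : b ∈ h.VV) : a * b = b * a := by
  rcases ha with rfl | rfl | rfl | rfl <;> rcases hb with rfl | rfl | rfl | rfl <;>
      simp [h.tt, h.ss, h.ttx, h.ssx, h.stx, h.st, mul_assoc]

theorem card_VV (h : V4 t s w) : Nat.card h.VV = 4 := by
  have : (h.VV : Set G) = {1, t, s, t * s} := by ext; simp [mem_VV]
  rw [← SetLike.coe_sort_coe, Nat.card_coe_set_eq, this, Set.ncard_insert_of_notMem,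
    Set.ncard_insert_of_notMem, Set.ncard_pair h.s_ts]
  · simp [h.ts, h.s1]
  · simp [h.t1.symm, h.s1.symm, h.ts1.symm]

theorem VV_le (h : V4 t s w) : h.VV ≤ centralizer {t} := fun _ ha =>
  mem_centralizer_singleton_iff.2 (h.VV_comm ha h.t_mem)

theorem isConj_s (h : V4 t s w) : IsConj t s := isConj_iff.2 ⟨w, h.wt⟩
theorem isConj_ts (h : V4 t s w) : IsConj t (t * s) := h.swap.isConj_s

variable [Finite G]

theorem syl (h : V4 t s w) : IsSylowIn 2 h.VV ⊤ := by
  refine isSylowIn_of_not_dvd le_top (IsPGroup.of_card (n := 2) h.card_VV) fun hd => h.n8 ?_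
  rw [relIndex_top_right] at hd
  rw [← h.VV.card_mul_index, h.card_VV]
  exact Nat.mul_dvd_mul_left 4 hd

theorem conj_in (h : V4 t s w) {K : Subgroup G} (hK : h.VV ≤ K) {u : G} (hu : u ∈ K) {k : ℕ}
    (hp : u ^ 2 ^ k = 1) : ∃ g ∈ K, g * u * g⁻¹ ∈ h.VV := by
  obtain ⟨g, hg, hle⟩ := (h.syl.of_le hK le_top).exists_conj_le
    (Transfer.isPGroup_zpowers hp) (by simpa using hu)
  exact ⟨g, hg, conj_smul_le_iff.1 hle u (mem_zpowers u)⟩

theorem isConj' (h : V4 t s w) {u : G} (h1 : u ≠ 1) {k : ℕ} (hp : u ^ 2 ^ k = 1) : IsConj t u := by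
  obtain ⟨g, -, hg⟩ := h.conj_in le_top (mem_top u) hp
  have hc : IsConj (g * u * g⁻¹) u := (isConj_iff.2 ⟨g, rfl⟩).symm
  rcases hg with e | e | e | e
  · exact absurd (by simpa using e) h1
  · rwa [e] at hc
  · rw [e] at hc; exact h.isConj_s.trans hc
  · rw [e] at hc; exact h.isConj_ts.trans hc

/-- all involutions are conjugate -/
theorem isConj (h : V4 t s w) {u : G} (h1 : u ≠ 1) (hp : u * u = 1) : IsConj t u :=
  h.isConj' h1 (k := 1) (by rw [pow_one, pow_two, hp])

omit [Finite G] in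
theorem sq_of_isConj (h : V4 t s w) {u : G} (hc : IsConj t u) : u * u = 1 := by
  obtain ⟨g, rfl⟩ := isConj_iff.1 hc
  rw [conj_mul, h.tt]; simp

omit [Finite G] in
theorem ne_of_isConj (h : V4 t s w) {u : G} (hc : IsConj t u) : u ≠ 1 := by
  rintro rfl
  exact h.t1 (isConj_one_left.1 hc)

theorem pSec (h : V4 t s w) {g : G} (hg : ¬ PReg 2 g) : PSec 2 g t := by
  obtain ⟨u, y, -, -, hc, ⟨k, hu⟩, hy, rfl⟩ := exists_ppart (p := 2) g
  refine (pSec_mul_of_commute hc hy).trans (.of_isConj (h.isConj' ?_ hu).symm)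
  rintro rfl
  exact hg (by simpa using hy)

omit [Finite G] in
theorem t_pow (h : V4 t s w) : t ^ 2 ^ 1 = 1 := by rw [pow_one, pow_two, h.tt]

theorem npc (h : V4 t s w) : HasNormalPComplement 2 (centralizer {t}) ∧
    (pResidual 2 (centralizer {t})).index = 4 := by
  set C := centralizer ({t} : Set G)
  have hS : IsSylowIn 2 h.VV C := h.syl.of_le h.VV_le le_top
  have : IsMulCommutative hS.toSylow := ⟨⟨fun a b => Subtype.ext (Subtype.ext
    (h.VV_comm (mem_subgroupOf.1 a.2) (mem_subgroupOf.1 b.2)))⟩⟩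
  have h1 : HasNormalPComplement 2 C := by
    refine hasNormalPComplement_of_abelian_sylow hS.toSylow fun g hg ho => ?_
    have gt : (g : G) * t * (g : G)⁻¹ = t := by
      rw [mem_centralizer_singleton_iff.1 g.2, mul_inv_cancel_right]
    have gs : (g : G) * s * (g : G)⁻¹ = s := by
      have h2 : (g : G) * s * (g : G)⁻¹ ∈ h.VV :=
        mem_subgroupOf.1 (conj_mem_of_mem_normalizer hg
          (x := ⟨s, h.VV_le h.s_mem⟩) (mem_subgroupOf.2 h.s_mem))
      rcases h2 with e | e | e | e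
      · exact absurd (by simpa using e) h.s1
      · rw [← gt] at e; exact absurd (by simpa using e.symm) h.ts
      · exact e
      · have h3 : (g : G) ^ 2 ∈ centralizer {s} := by
          rw [mem_centralizer_singleton_iff]
          have : (g : G) ^ 2 * s * ((g : G) ^ 2)⁻¹ =
              (g : G) * ((g : G) * s * (g : G)⁻¹) * (g : G)⁻¹ := by rw [pow_two]; group
          rw [e, ← conj_mul, gt, e, h.ttx] at this
          exact mul_inv_eq_iff_eq_mul.1 this
        have h4 : (g : G) ∈ zpowers ((g : G) ^ 2) := by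
          refine mem_zpowers_pow_iff.2 ?_
          rw [orderOf_coe]; exact ho.symm
        have h5 := mem_centralizer_singleton_iff.1 ((zpowers_le.2 h3) h4)
        rw [h5, mul_inv_cancel_right]
    rw [mem_centralizer_iff]
    intro x hx
    have a1 := mul_inv_eq_iff_eq_mul.1 gt
    have a2 := mul_inv_eq_iff_eq_mul.1 gs
    apply Subtype.ext
    rcases (mem_subgroupOf.1 hx : (x : G) ∈ h.VV) with e | e | e | e <;>
      simp only [coe_mul, e]
    · simp
    · exact a1.symm
    · exact a2.symm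
    · rw [← mul_assoc, a1, mul_assoc, mul_assoc, a2]
  refine ⟨h1, ?_⟩
  rw [(isComplement'_pResidual_of_not_dvd (hasNormalPComplement_iff_not_dvd.1 h1)
    hS.toSylow).symm.index_eq_card, hS.coe_toSylow, card_subgroupOf_of_le h.VV_le, h.card_VV]

/-- `s · sʰ` has odd order for `h ∈ C(t)` -/
theorem odd_comm (h : V4 t s w) {g : G} (hg : g ∈ centralizer {t}) :
    PReg 2 (s * (g * s * g⁻¹)) := by
  set C := centralizer ({t} : Set G)
  obtain ⟨h1, h2⟩ := h.npc
  have hc : IsMulCommutative (C ⧸ pResidual 2 C) :=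
    IsPGroup.isMulCommutative_of_card_eq_prime_sq (p := 2) h2
  let s' : C := ⟨s, h.VV_le h.s_mem⟩
  let g' : C := ⟨g, hg⟩
  have h3 : s' * (g' * s' * g'⁻¹) ∈ pResidual 2 C := by
    rw [← QuotientGroup.eq_one_iff]
    have hs : s' * s' = 1 := Subtype.ext h.ss
    simp only [QuotientGroup.mk_mul, QuotientGroup.mk_inv]
    rw [hc.is_comm.comm (g' : C ⧸ pResidual 2 C), mul_inv_cancel_right, ← QuotientGroup.mk_mul, hs,
      QuotientGroup.mk_one]
  have h4 : PReg 2 (s' * (g' * s' * g'⁻¹)) := fun hd =>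
    hasNormalPComplement_iff_not_dvd.1 h1 (hd.trans (orderOf_dvd_natCard _ h3))
  exact (pReg_coe_iff _).2 h4

end V4

/-! ### counting -/

theorem inv_of_mem_zpowers {a x z : G} (h : a * x * a⁻¹ = x⁻¹) (hz : z ∈ zpowers x) :
    a * z * a⁻¹ = z⁻¹ := by
  obtain ⟨n, rfl⟩ := hz
  simp only
  rw [← conj_zpow, h, inv_zpow]

theorem eq_or_of_mem_zpowers {x z : G} (h : x * x = 1) (hz : z ∈ zpowers x) : z = 1 ∨ z = x := by
  obtain ⟨n, rfl⟩ := hz
  have h2 : x ^ (2 : ℤ) = 1 := by rw [zpow_two, h]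
  rcases Int.even_or_odd' n with ⟨m, rfl | rfl⟩
  · left; simp only; rw [zpow_mul, h2, one_zpow]
  · right; simp only; rw [zpow_add, zpow_mul, h2, one_zpow, one_mul, zpow_one]

theorem comm_of_mem_zpowers {a b z : G} (ha : a * a = 1) (hb : b * b = 1) (hz : z * z = 1)
    (h : z ∈ zpowers (b * a)) : a * z = z * a ∧ b * z = z * b := by
  have ia := inv_eq_of_mul_eq_one_right ha
  have ib := inv_eq_of_mul_eq_one_right hb
  have iz := inv_eq_of_mul_eq_one_right hz
  constructor
  · rw [← mul_inv_eq_iff_eq_mul, inv_of_mem_zpowers ?_ h, iz]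
    rw [mul_inv_rev, ia, ib, mul_assoc, mul_assoc, ha, mul_one]
  · rw [← mul_inv_eq_iff_eq_mul, inv_of_mem_zpowers ?_ h, iz]
    rw [mul_inv_rev, ia, ib, ← mul_assoc, hb, one_mul]

theorem isConj_conj_iff {t a g : G} : IsConj t (g * a * g⁻¹) ↔ IsConj t a :=
  ⟨fun h => h.trans (isConj_iff.2 ⟨g, rfl⟩).symm, fun h => h.trans (isConj_iff.2 ⟨g, rfl⟩)⟩

theorem conj_mem_zpowers_iff {z x g : G} : g * z * g⁻¹ ∈ zpowers (g * x * g⁻¹) ↔ z ∈ zpowers x := by
  simp only [mem_zpowers_iff, conj_zpow]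
  simp

section Count
variable [Fintype G]

open Classical in
/-- the `K`-class of `a` -/
noncomputable def cls (K : Subgroup G) (a : G) : Finset G :=
  Finset.univ.filter fun b => ∃ k ∈ K, k * a * k⁻¹ = b

theorem mem_cls {K : Subgroup G} {a b : G} : b ∈ cls K a ↔ ∃ k ∈ K, k * a * k⁻¹ = b := by
  simp [cls]

theorem card_cls (K : Subgroup G) (a : G) : (cls K a).card = (centralizer {a}).relIndex K := by
  let _ : MulAction K G := MulAction.compHom G (MulAut.conj.comp K.subtype)
  have hs : ∀ (k : K) (y : G), k • y = k * y * (k : G)⁻¹ := fun _ _ => rfl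
  have h1 : MulAction.stabilizer K a = (centralizer {a}).subgroupOf K := by
    ext k
    rw [MulAction.mem_stabilizer_iff, hs, mem_subgroupOf, mem_centralizer_singleton_iff,
      mul_inv_eq_iff_eq_mul]
  rw [relIndex, ← h1, MulAction.index_stabilizer, ← Set.ncard_coe_finset]
  congr 1
  ext b
  simp only [Finset.mem_coe, mem_cls, MulAction.mem_orbit_iff, hs]
  exact ⟨fun ⟨k, hk, e⟩ => ⟨⟨k, hk⟩, e⟩, fun ⟨k, e⟩ => ⟨k, k.2, e⟩⟩

theorem mem_cls_top {a b : G} : b ∈ cls ⊤ a ↔ IsConj a b := by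
  simp [mem_cls, isConj_iff]

theorem sum_conj_cls {M : Type*} [Semiring M] (a : G) (F : G → M) :
    ∑ x, F (x * a * x⁻¹) = Nat.card (centralizer ({a} : Set G)) * ∑ b ∈ cls ⊤ a, F b := by
  classical
  rw [← Finset.sum_fiberwise_of_maps_to (s := Finset.univ) (t := cls ⊤ a)
    (g := fun g => g * a * g⁻¹) (fun g _ => mem_cls.2 ⟨g, mem_top g, rfl⟩), Finset.mul_sum]
  refine Finset.sum_congr rfl fun u hu => ?_
  obtain ⟨k, -, rfl⟩ := mem_cls.1 hu
  rw [Finset.sum_congr rfl (g := fun _ => F (k * a * k⁻¹))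
    fun g hg => by rw [(Finset.mem_filter.1 hg).2], Finset.sum_const, nsmul_eq_mul]
  congr 2
  rw [Nat.card_eq_fintype_card, Fintype.card_subtype]
  refine Finset.card_equiv (Equiv.mulLeft k⁻¹) fun g => ?_
  simp only [Finset.mem_filter, Finset.mem_univ, true_and, Equiv.coe_mulLeft,
    mem_centralizer_singleton_iff]
  constructor
  · intro e
    calc k⁻¹ * g * a = k⁻¹ * (g * a * g⁻¹) * g := by group
      _ = _ := by rw [e]; group
  · intro e
    calc g * a * g⁻¹ = k * (k⁻¹ * g * a) * g⁻¹ := by group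
      _ = _ := by rw [e]; group

open Classical in
/-- the number of conjugates `a` of `t` with `z ∈ ⟨b a⟩` -/
noncomputable def DD (t z b : G) : ℕ := ((cls ⊤ t).filter fun a => z ∈ zpowers (b * a)).card

theorem DD_conj (t z b g : G) : DD t (g * z * g⁻¹) (g * b * g⁻¹) = DD t z b := by
  classical
  symm
  refine Finset.card_equiv (MulAut.conj g).toEquiv fun a => ?_
  simp only [Finset.mem_filter, mem_cls_top, MulEquiv.toEquiv_eq_coe, EquivLike.coe_coe,
    MulAut.conj_apply, isConj_conj_iff, conj_mul, conj_mem_zpowers_iff]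

namespace V4

theorem relIndex_ts (h : V4 t s w) :
    (centralizer {t * s}).relIndex (centralizer {t}) =
      (centralizer {s}).relIndex (centralizer {t}) := by
  unfold relIndex
  congr 1
  ext g
  have := mem_centralizer_singleton_iff.1 g.2
  simp only [mem_subgroupOf, mem_centralizer_singleton_iff]
  rw [← mul_assoc, this, mul_assoc, mul_assoc, mul_right_inj]

theorem DD_ts (h : V4 t s w) : DD t t s = (centralizer {s}).relIndex (centralizer {t}) := by
  classical
  rw [← h.relIndex_ts, ← card_cls, DD]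
  congr 1
  ext a
  rw [Finset.mem_filter, mem_cls_top, mem_cls]
  constructor
  · rintro ⟨ha, hz⟩
    have aa := h.sq_of_isConj ha
    have aH : a ∈ centralizer {t} :=
      mem_centralizer_singleton_iff.2 (comm_of_mem_zpowers aa h.ss h.tt hz).1
    obtain ⟨g, hg, hv⟩ := h.conj_in h.VV_le aH (k := 1) (by rw [pow_one, pow_two, aa])
    have e0 : ∀ v, g * a * g⁻¹ = v → g⁻¹ * v * g⁻¹⁻¹ = a := fun v e => by rw [← e]; group
    rcases hv with e | e | e | e
    · exact absurd (by simpa using e) (h.ne_of_isConj ha)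
    · have e1 := e0 _ e
      rw [mem_centralizer_singleton_iff.1 (inv_mem hg), mul_inv_cancel_right] at e1
      rw [← e1, h.st] at hz
      rcases eq_or_of_mem_zpowers h.tsts hz with e2 | e2
      · exact absurd e2 h.t1
      · exact absurd e2 h.t_ts
    · have h1 := h.odd_comm (inv_mem hg)
      rw [e0 _ e] at h1
      refine absurd ?_ h1
      rw [← orderOf_eq_prime (p := 2) (x := t) (by rw [pow_two, h.tt]) h.t1]
      exact orderOf_dvd_of_mem_zpowers hz
    · exact ⟨g⁻¹, inv_mem hg, e0 _ e⟩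
  · rintro ⟨g, hg, rfl⟩
    refine ⟨isConj_conj_iff.2 h.isConj_ts, ?_⟩
    have gt := mem_centralizer_singleton_iff.1 hg
    have e : s * (g * (t * s) * g⁻¹) = t * (s * (g * s * g⁻¹)) := by
      rw [← mul_assoc g, gt, ← h.stx]; simp only [mul_assoc]
    have hc : Commute t (s * (g * s * g⁻¹)) := by
      have c1 : Commute t s := h.comm
      have c2 : Commute t g := gt.symm
      exact c1.mul_right ((c2.mul_right c1).mul_right c2.inv_right)
    have := mem_zpowers_pow_of_commute hc (h.odd_comm hg) h.t_pow (n := 1) (by norm_num)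
    rwa [pow_one, ← e] at this

theorem DD_eq (h : V4 t s w) {z : G} (hz : IsConj t z) [DecidableEq G] :
    DD t z t = if z ∈ cls (centralizer {t}) s ∪ cls (centralizer {t}) (t * s) then
      (centralizer {s}).relIndex (centralizer {t}) else 0 := by
  classical
  have key : ∀ g ∈ centralizer {t}, ∀ v, DD t (g * v * g⁻¹) t = DD t v t := fun g hg v => by
    conv_rhs => rw [← DD_conj t v t g, mem_centralizer_singleton_iff.1 hg, mul_inv_cancel_right]
  split_ifs with hm
  · rcases Finset.mem_union.1 hm with h1 | h1 <;> obtain ⟨g, hg, rfl⟩ := mem_cls.1 h1 <;>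
      rw [key g hg]
    · rw [← DD_conj t s t w⁻¹, h.swap.wt, ← h.relIndex_ts, ← h.swap.DD_ts]
      congr 1
      conv_lhs => rw [← h.wt]
      group
    · rw [← DD_conj t _ t w, h.wts, h.wt, h.DD_ts]
  · rw [DD, Finset.card_eq_zero, Finset.filter_eq_empty_iff]
    intro a ha hz'
    have ha' := mem_cls_top.1 ha
    have aa := h.sq_of_isConj ha'
    have zz := h.sq_of_isConj hz
    obtain ⟨c1, c2⟩ := comm_of_mem_zpowers aa h.tt zz hz'
    have zH : z ∈ centralizer {t} := mem_centralizer_singleton_iff.2 c2.symm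
    obtain ⟨g, hg, hv⟩ := h.conj_in h.VV_le zH (k := 1) (by rw [pow_one, pow_two, zz])
    have e0 : ∀ v, g * z * g⁻¹ = v → g⁻¹ * v * g⁻¹⁻¹ = z := fun v e => by rw [← e]; group
    rcases hv with e | e | e | e
    · exact absurd (by simpa using e) (h.ne_of_isConj hz)
    · have e1 := e0 _ e
      rw [mem_centralizer_singleton_iff.1 (inv_mem hg), mul_inv_cancel_right] at e1
      subst e1
      have h2 : t * a * (t * a) = 1 := by
        rw [mul_assoc, ← mul_assoc a, c1, mul_assoc, aa, mul_one, h.tt]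
      rcases eq_or_of_mem_zpowers h2 hz' with e2 | e2
      · exact h.t1 e2
      · exact h.ne_of_isConj ha' (by simpa using e2.symm)
    · exact hm (Finset.mem_union_left _ (mem_cls.2 ⟨g⁻¹, inv_mem hg, e0 _ e⟩))
    · exact hm (Finset.mem_union_right _ (mem_cls.2 ⟨g⁻¹, inv_mem hg, e0 _ e⟩))

theorem disj (h : V4 t s w) :
    Disjoint (cls (centralizer {t}) s) (cls (centralizer {t}) (t * s)) := by
  rw [Finset.disjoint_left]
  intro a h1 h2
  obtain ⟨g, hg, rfl⟩ := mem_cls.1 h1
  obtain ⟨g', hg', e⟩ := mem_cls.1 h2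
  have h3 := h.odd_comm (mul_mem (inv_mem hg') hg)
  have e1 : g'⁻¹ * g * s * (g'⁻¹ * g)⁻¹ = t * s := by
    calc _ = g'⁻¹ * (g * s * g⁻¹) * g' := by group
      _ = _ := by rw [← e]; group
  rw [e1, h.stx, h.ss, mul_one] at h3
  exact h3 (by rw [orderOf_eq_prime (p := 2) (by rw [pow_two, h.tt]) h.t1])

open Classical in
theorem card_inv (h : V4 t s w) (g : G) :
    ((cls ⊤ t).filter fun z => z ∈ zpowers g).card = if PReg 2 g then 0 else 1 := by
  have ho : ∀ z, IsConj t z → orderOf z = 2 := fun z hz =>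
    orderOf_eq_prime (p := 2) (by rw [pow_two, h.sq_of_isConj hz]) (h.ne_of_isConj hz)
  split_ifs with hg
  · rw [Finset.card_eq_zero, Finset.filter_eq_empty_iff]
    intro z hz hz'
    exact hg (ho z (mem_cls_top.1 hz) ▸ orderOf_dvd_of_mem_zpowers hz')
  · have h1 : orderOf (g ^ (orderOf g / 2)) = 2 :=
      orderOf_pow_orderOf_div (orderOf_pos g).ne' (not_not.1 hg)
    rw [Finset.card_eq_one]
    refine ⟨g ^ (orderOf g / 2), ?_⟩
    ext z
    simp only [Finset.mem_filter, mem_cls_top, Finset.mem_singleton]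
    constructor
    · rintro ⟨h2, h3⟩
      exact Invol.involution_unique_of_isCyclic inferInstance h3 (pow_mem (mem_zpowers g) _)
        (ho z h2) h1
    · rintro rfl
      refine ⟨h.isConj ?_ ?_, pow_mem (mem_zpowers g) _⟩
      · intro e; rw [e] at h1; simp at h1
      · have := pow_orderOf_eq_one (g ^ (orderOf g / 2))
        rwa [h1, pow_two] at this

open Classical in
/-- the number of involutions `a` with `t a` of even order is `2 k²` -/
theorem count (h : V4 t s w) : ∑ a ∈ cls ⊤ t, (if PReg 2 (t * a) then 0 else 1) =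
    2 * (centralizer {s}).relIndex (centralizer {t}) ^ 2 := by
  simp only [← h.card_inv, Finset.card_filter]
  rw [Finset.sum_comm]
  simp only [← Finset.card_filter]
  have h1 : ∀ z ∈ cls ⊤ t, ((cls ⊤ t).filter fun a => z ∈ zpowers (t * a)).card = _ :=
    fun z hz => h.DD_eq (mem_cls_top.1 hz)
  rw [Finset.sum_congr rfl h1, ← Finset.sum_filter, Finset.sum_const, Finset.filter_mem_eq_inter,
    Finset.inter_eq_right.2, Finset.card_union_of_disjoint h.disj, card_cls, card_cls,
    h.relIndex_ts, smul_eq_mul]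
  · ring
  · intro a ha
    rcases Finset.mem_union.1 ha with h2 | h2 <;> obtain ⟨g, -, rfl⟩ := mem_cls.1 h2
    · exact mem_cls_top.2 (isConj_conj_iff.2 h.isConj_s)
    · exact mem_cls_top.2 (isConj_conj_iff.2 h.isConj_ts)

end V4

end Count

end Cfsg.Agent.Lib.AG
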