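/-
A-groups project (S2554), piece C1: the principal 2-block and the order formula for a simple group
with a Klein four Sylow 2-subgroup.
-/
import Cfsg.Agent.Lib.AG.Ord1
import Cfsg.Agent.Lib.Char.IntLemmas

set_option autoImplicit false
set_option linter.unusedSectionVars false

namespace Cfsg.Agent.Lib.AG

open Subgroup Cfsg.Agent.Lib.Char

variable {G : Type*} [Group G] {t s w : G}

/-- the principal 2-block `{1, χ 0, χ 1, χ 2}` -/
structure Dat [Finite G] (t s : G) (χ : Fin 3 → Irr G) (δ y : Fin 3 → ℤ) : Prop where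
  inj : Function.Injective χ
  ne : ∀ i, χ i ≠ triv G
  mem : ∀ j, j ∈ B0 2 G ↔ j = triv G ∨ ∃ i, j = χ i
  sgn : ∀ i, δ i = 1 ∨ δ i = -1
  hy : ∀ i, y i = δ i * deg (χ i)
  y4 : ∀ i, y i % 4 = 1
  y1 : ∀ i, y i ≠ 1
  sum : 1 + y 0 + y 1 + y 2 = 0
  even : ∀ i g, ¬ PReg 2 g → chi (χ i) g = δ i
  odd : ∀ g, PReg 2 g → 1 + ∑ i, (δ i : ℂ) * chi (χ i) g = 0
  sig : ((centralizer {t}).index : ℚ) * (1 + 1 / y 0 + 1 / y 1 + 1 / y 2) =
    8 * ((centralizer {s}).relIndex (centralizer {t}) : ℚ) ^ 2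

theorem inv_cases {y : ℤ} (h4 : y % 4 = 1) (h1 : y ≠ 1) : ∃ q : ℚ, 1 / (y : ℚ) = q ∧
    ((y = -3 ∧ q = -1 / 3) ∨ (y = -7 ∧ q = -1 / 7) ∨ (y = -11 ∧ q = -1 / 11) ∨
    (y = 5 ∧ q = 1 / 5) ∨ (y = 9 ∧ q = 1 / 9) ∨ (y ≤ -15 ∧ -1 / 15 ≤ q ∧ q ≤ 0) ∨
    (13 ≤ y ∧ 0 ≤ q ∧ q ≤ 1 / 13)) := by
  refine ⟨_, rfl, ?_⟩
  have : y = -3 ∨ y = -7 ∨ y = -11 ∨ y = 5 ∨ y = 9 ∨ y ≤ -15 ∨ 13 ≤ y := by omega
  rcases this with rfl | rfl | rfl | rfl | rfl | h | h
  iterate 5 norm_num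
  · have h2 : (y : ℚ) ≤ -15 := by exact_mod_cast h
    refine Or.inr (Or.inr (Or.inr (Or.inr (Or.inr (Or.inl ⟨h, ?_, ?_⟩)))))
    · rw [le_div_iff_of_neg (by linarith)]; linarith
    · exact div_nonpos_of_nonneg_of_nonpos zero_le_one (by linarith)
  · have h2 : (13 : ℚ) ≤ y := by exact_mod_cast h
    refine Or.inr (Or.inr (Or.inr (Or.inr (Or.inr (Or.inr ⟨h, ?_, ?_⟩)))))
    · exact div_nonneg zero_le_one (by linarith)
    · exact one_div_le_one_div_of_le (by norm_num) h2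

theorem sigma_bounds {a b c : ℤ} (a4 : a % 4 = 1) (b4 : b % 4 = 1) (c4 : c % 4 = 1) (a1 : a ≠ 1)
    (b1 : b ≠ 1) (c1 : c ≠ 1) (h : 1 + a + b + c = 0) :
    (8 / 15 : ℚ) ≤ 1 + 1 / a + 1 / b + 1 / c ∧ (1 + 1 / a + 1 / b + 1 / c : ℚ) ≤ 4 / 3 := by
  obtain ⟨p, hp, ha⟩ := inv_cases a4 a1
  obtain ⟨q, hq, hb⟩ := inv_cases b4 b1
  obtain ⟨r, hr, hc⟩ := inv_cases c4 c1
  rw [hp, hq, hr]
  clear hp hq hr a4 b4 c4 a1 b1 c1
  rcases ha with ⟨_, _⟩ | ⟨_, _⟩ | ⟨_, _⟩ | ⟨_, _⟩ | ⟨_, _⟩ | ⟨_, _, _⟩ | ⟨_, _, _⟩ <;>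
  rcases hb with ⟨_, _⟩ | ⟨_, _⟩ | ⟨_, _⟩ | ⟨_, _⟩ | ⟨_, _⟩ | ⟨_, _, _⟩ | ⟨_, _, _⟩ <;>
  rcases hc with ⟨_, _⟩ | ⟨_, _⟩ | ⟨_, _⟩ | ⟨_, _⟩ | ⟨_, _⟩ | ⟨_, _, _⟩ | ⟨_, _, _⟩ <;>
  first | omega | (constructor <;> linarith)

theorem Dat.bounds [Finite G] {χ : Fin 3 → Irr G} {δ y : Fin 3 → ℤ} (h : Dat t s χ δ y) :
    (8 / 15 : ℚ) ≤ 1 + 1 / y 0 + 1 / y 1 + 1 / y 2 ∧
      (1 + 1 / y 0 + 1 / y 1 + 1 / y 2 : ℚ) ≤ 4 / 3 :=
  sigma_bounds (h.y4 0) (h.y4 1) (h.y4 2) (h.y1 0) (h.y1 1) (h.y1 2) h.sum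

namespace V4

theorem not_pReg (h : V4 t s w) {u : G} (hu : IsConj t u) : ¬ PReg 2 u := fun hp =>
  hp (by rw [orderOf_eq_prime (p := 2) (by rw [pow_two, h.sq_of_isConj hu]) (h.ne_of_isConj hu)])

/-- restriction to the four-group -/
theorem restr [Finite G] (h : V4 t s w) {f : G → ℂ} (hf : IsVChar f) :
    ∃ n : ℤ, f 1 + 3 * f t = 4 * n := by
  classical
  have := Fintype.ofFinite G
  have := Fintype.ofFinite h.VV
  obtain ⟨n, hn⟩ := (isVChar_one (G := h.VV)).ip_int (hf.comp h.VV.subtype)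
  refine ⟨n, ?_⟩
  rw [ip_comm, ip, ← Nat.card_eq_fintype_card, h.card_VV] at hn
  simp only [Pi.one_apply, mul_one, Function.comp_apply, coe_subtype] at hn
  rw [← Finset.sum_subtype ({1, t, s, t * s} : Finset G) (by simp [mem_VV]), Finset.sum_insert,
    Finset.sum_insert, Finset.sum_pair h.s_ts, ← hf.isClass.of_isConj h.isConj_s,
    ← hf.isClass.of_isConj h.isConj_ts] at hn
  · rw [← hn]; push_cast; ring
  · simp [h.ts, h.s1]
  · simp [h.t1.symm, h.s1.symm, h.ts1.symm]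

theorem dat [Finite G] (h : V4 t s w) : ∃ χ δ y, Dat t s χ δ y := by
  classical
  have := Fintype.ofFinite G
  have := h.simple
  have hint : ∀ i : Irr G, ∃ n : ℤ, chi i t = n := fun i =>
    (isVChar_chi i).int_of_real_four (by rw [show 4 = 2 * 2 by rfl, pow_mul, pow_two t, h.tt, one_pow])
      (by rw [h.t_inv])
  choose c hc using hint
  have hev : ∀ i ∈ B0 2 G, ∀ g, ¬ PReg 2 g → chi i g = c i := fun i hi g hg => by
    rw [chi_eq_of_pSec h.t_pow h.npc.1 (h.pSec hg) hi, hc]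
  have hn : ∑ i ∈ B0 2 G, (c i : ℂ) * c i = 4 := by
    have := B0_column_norm h.t_pow h.npc.1
    rw [h.npc.2, h.t_inv] at this
    simpa only [hc, Nat.cast_ofNat] using this
  have hod : ∀ g, PReg 2 g → ∑ i ∈ B0 2 G, (c i : ℂ) * chi i g = 0 := fun g hg => by
    have := B0_orthogonality (p := 2) (g := g) (h := t)
      fun hs => not_pReg_of_pSec hs h.t_pow h.t1 hg
    rw [h.t_inv] at this
    simpa only [hc, mul_comm] using this
  have c1 : c (triv G) = 1 := by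
    have := hc (triv G)
    rw [chi_triv, Pi.one_apply] at this
    exact_mod_cast this.symm
  have hφ : regInd 2 G = chi (triv G) - (1 / 4 : ℂ) • ∑ i ∈ B0 2 G, (c i : ℂ) • chi i := by
    funext g
    simp only [regInd, chi_triv, Pi.sub_apply, Pi.one_apply, Pi.smul_apply, Finset.sum_apply,
      smul_eq_mul]
    split_ifs with hg
    · rw [hod g hg]; ring
    · rw [Finset.sum_congr rfl fun i hi => by rw [hev i hi g hg], hn]; ring
  have hnz : ∀ i ∈ (B0 2 G).erase (triv G), c i ≠ 0 := fun i hi h0 => by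
    obtain ⟨h1, h2⟩ := Finset.mem_erase.1 hi
    refine mem_B0_iff_ip.1 h2 ?_
    rw [hφ, ip_sub_left, ip_smul_left, ip_sum_left]
    simp only [ip_smul_left, ip_chi_chi, mul_ite, mul_one, mul_zero, Finset.sum_ite_eq', h2,
      if_true, h0, if_neg h1.symm]
    simp
  have h3 : ∑ i ∈ (B0 2 G).erase (triv G), c i * c i = (3 : ℕ) := by
    have h1 : ∑ i ∈ B0 2 G, c i * c i = 4 := by exact_mod_cast hn
    rw [← Finset.add_sum_erase _ _ triv_mem_B0, c1] at h1
    push_cast; omega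
  obtain ⟨h4, h5⟩ := int_small_norm _ c 3 le_rfl h3
  rw [Finset.filter_true_of_mem hnz] at h4
  obtain ⟨a0, a1, a2, n01, n02, n12, hS⟩ := Finset.card_eq_three.1 h4
  let χ : Fin 3 → Irr G := ![a0, a1, a2]
  have hχ : ∀ i, χ i ∈ (B0 2 G).erase (triv G) := fun i => by
    rw [hS]; fin_cases i <;> simp [χ]
  have hB : ∀ i, χ i ∈ B0 2 G := fun i => (Finset.mem_erase.1 (hχ i)).2
  have hsum : ∀ F : Irr G → ℂ, ∑ i ∈ B0 2 G, F i = F (triv G) + ∑ i, F (χ i) := fun F => by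
    rw [← Finset.add_sum_erase _ _ triv_mem_B0, hS, Finset.sum_insert (by simp [n01, n02]),
      Finset.sum_pair n12, Fin.sum_univ_three, ← add_assoc (F a0)]
    rfl
  have hsg : ∀ i, c (χ i) = 1 ∨ c (χ i) = -1 := fun i =>
    Int.eq_one_or_neg_one_of_mul_eq_one (h5 _ (hχ i) (hnz _ (hχ i)))
  have hodd : ∀ g, PReg 2 g → 1 + ∑ i, (c (χ i) : ℂ) * chi (χ i) g = 0 := fun g hg => by
    have := hod g hg
    rw [hsum, c1] at this
    simpa using this
  refine ⟨χ, fun i => c (χ i), fun i => c (χ i) * deg (χ i), ?_,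
    fun i => (Finset.mem_erase.1 (hχ i)).1, fun j => ?_, hsg, fun _ => rfl, fun i => ?_,
    fun i e => ?_, ?_, fun i g hg => hev _ (hB i) g hg, hodd, ?_⟩
  · intro i j e
    fin_cases i <;> fin_cases j <;> simp_all [χ, eq_comm]
  · constructor
    · intro hj
      by_cases e : j = triv G
      · exact Or.inl e
      · have : j ∈ (B0 2 G).erase (triv G) := Finset.mem_erase.2 ⟨e, hj⟩
        rw [hS] at this
        simp only [Finset.mem_insert, Finset.mem_singleton] at this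
        rcases this with e | e | e
        exacts [Or.inr ⟨0, e⟩, Or.inr ⟨1, e⟩, Or.inr ⟨2, e⟩]
    · rintro (rfl | ⟨i, rfl⟩)
      exacts [triv_mem_B0, hB i]
  · obtain ⟨n, hn⟩ := h.restr (isVChar_chi (χ i))
    rw [chi_one, hc] at hn
    have h6 : (deg (χ i) : ℤ) + 3 * c (χ i) = 4 * n := by exact_mod_cast hn
    rcases hsg i with e | e <;> rw [e] at h6 ⊢ <;> omega
  · have h6 : c (χ i) = deg (χ i) := by
      rcases hsg i with e' | e' <;> rw [e'] at e ⊢ <;> omega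
    have h7 : t ∈ kerI (χ i) := mem_kerI.2 (by rw [hc, h6]; simp)
    rcases (kerI_normal (χ i)).eq_bot_or_eq_top with e' | e'
    · exact h.t1 (by simpa [e'] using h7)
    · exact (Finset.mem_erase.1 (hχ i)).1 (kerI_eq_top_iff.1 e')
  · have := hodd 1 pReg_one
    simp only [chi_one, Fin.sum_univ_three] at this
    have h6 : 1 + (c (χ 0) * deg (χ 0) + c (χ 1) * deg (χ 1) + c (χ 2) * deg (χ 2)) = 0 := by
      exact_mod_cast this
    omega
  · have e1 : ∑ x, ∑ i ∈ B0 2 G, (c i : ℂ) * chi i (t * (x * t * x⁻¹)) =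
        Nat.card (centralizer ({t} : Set G)) *
          (8 * ((centralizer {s}).relIndex (centralizer {t}) : ℂ) ^ 2) := by
      rw [sum_conj_cls t fun a => ∑ i ∈ B0 2 G, (c i : ℂ) * chi i (t * a)]
      congr 1
      have e2 := congrArg (fun n : ℕ => (4 * n : ℂ)) h.count
      simp only [Nat.cast_sum, Finset.mul_sum] at e2
      rw [show (8 : ℂ) * ((centralizer {s}).relIndex (centralizer {t}) : ℂ) ^ 2 = 4 * ((2 *
        (centralizer {s}).relIndex (centralizer {t}) ^ 2 : ℕ) : ℂ) by push_cast; ring, ← e2]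
      refine Finset.sum_congr rfl fun a _ => ?_
      split_ifs with hg
      · rw [hod _ hg]; simp
      · rw [Finset.sum_congr rfl fun i hi => by rw [hev i hi _ hg], hn]; simp
    rw [Finset.sum_comm] at e1
    simp only [← Finset.mul_sum, sum_chi_mul_conj, hc] at e1
    rw [hsum, c1, ← Nat.card_eq_fintype_card, ← (centralizer ({t} : Set G)).card_mul_index,
      Fin.sum_univ_three, deg_triv] at e1
    have hH : (Nat.card (centralizer ({t} : Set G)) : ℂ) ≠ 0 := Nat.cast_ne_zero.2 Nat.card_pos.ne'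
    have e3 : ∀ i, (1 : ℂ) / (c (χ i) * deg (χ i)) = c (χ i) * (c (χ i) * c (χ i) / deg (χ i)) := by
      intro i
      have := deg_ne_zero (χ i)
      rcases hsg i with e | e <;> rw [e] <;> push_cast <;> field_simp
    apply Rat.cast_injective (α := ℂ)
    push_cast at e1 ⊢
    rw [e3, e3, e3]
    apply mul_left_cancel₀ hH
    rw [← e1]
    ring

/-- the order formula -/
theorem order [Finite G] (h : V4 t s w) :
    6 * (centralizer {s}).relIndex (centralizer {t}) ^ 2 ≤ (centralizer {t}).index ∧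
      (centralizer {t}).index ≤ 15 * (centralizer {s}).relIndex (centralizer {t}) ^ 2 := by
  obtain ⟨χ, δ, y, hd⟩ := h.dat
  obtain ⟨h1, h2⟩ := hd.bounds
  have h3 := hd.sig
  have h4 : (0 : ℚ) ≤ (centralizer ({t} : Set G)).index := Nat.cast_nonneg _
  have h5 := mul_le_mul_of_nonneg_left h1 h4
  have h6 := mul_le_mul_of_nonneg_left h2 h4
  rw [h3] at h5 h6
  constructor
  · have : (6 * ((centralizer {s}).relIndex (centralizer {t}) : ℚ) ^ 2) ≤
        (centralizer ({t} : Set G)).index := by linarith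
    exact_mod_cast this
  · have : ((centralizer ({t} : Set G)).index : ℚ) ≤
        15 * ((centralizer {s}).relIndex (centralizer {t}) : ℚ) ^ 2 := by linarith
    exact_mod_cast this

theorem card_even [Finite G] (h : V4 t s w) :
    Nat.card {a : G // Even (orderOf (t * (a * t * a⁻¹)))} = Nat.card (centralizer ({t} : Set G)) *
      (2 * (centralizer {s}).relIndex (centralizer {t}) ^ 2) := by
  classical
  have := Fintype.ofFinite G
  have h1 := sum_conj_cls t fun a => if PReg 2 (t * a) then 0 else 1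
  rw [h.count, Nat.cast_id] at h1
  rw [← h1, Nat.card_eq_fintype_card, Fintype.card_subtype, Finset.card_filter]
  refine Finset.sum_congr rfl fun a _ => ?_
  by_cases e : PReg 2 (t * (a * t * a⁻¹))
  · rw [if_pos e, if_neg fun e' => e e'.two_dvd]
  · rw [if_neg e, if_pos (even_iff_two_dvd.2 (not_not.1 e))]

theorem sigma [Finite G] (h : V4 t s w) :
    2 * Nat.card G ≤ 15 * Nat.card {a : G // Even (orderOf (t * (a * t * a⁻¹)))} := by
  rw [h.card_even, ← (centralizer ({t} : Set G)).card_mul_index]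
  have := Nat.mul_le_mul_left (Nat.card (centralizer ({t} : Set G))) h.order.2
  nlinarith

end V4

end Cfsg.Agent.Lib.AG
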