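/-
A-groups project: `B = 1`.
-/
import Cfsg.Agent.Lib.AG.BoneG
import Cfsg.Agent.Lib.AG.M2
import Cfsg.Agent.Lib.AG.Ord
import Cfsg.Agent.S0205

set_option autoImplicit false
set_option linter.unusedSectionVars false

namespace Cfsg.Agent.Lib.AG.C2

open Subgroup Cfsg.Agent.Lib.Char

variable {G : Type*} [Group G] [Fintype G] {t s w : G} {K B : Subgroup G}
  [Fintype (HH t)] [Fintype K] [Fintype B] (ρ : HH t →* B) (e1 e2 : HH t →* ℂ)

/-- linear characters of `C(t)` -/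
noncomputable def LL (a : (B →* ℂ) × Fin 2 × Fin 2) : HH t →* ℂ := a.1.comp ρ * e1 ^ a.2.1.val * e2 ^ a.2.2.val

theorem LL_apply (a : (B →* ℂ) × Fin 2 × Fin 2) (g : HH t) :
    LL ρ e1 e2 a g = a.1 (ρ g) * e1 g ^ a.2.1.val * e2 g ^ a.2.2.val := by simp [LL]

/-- four times `β` on `tU` -/
noncomputable def psi (β : B →* ℂ) : HH t → ℂ :=
  LL ρ e1 e2 (β, 0, 0) + LL ρ e1 e2 (β, 0, 1) - LL ρ e1 e2 (β, 1, 0) - LL ρ e1 e2 (β, 1, 1)

theorem psi_apply (β : B →* ℂ) (g : HH t) : psi ρ e1 e2 β g = β (ρ g) * ((1 - e1 g) * (1 + e2 g)) := by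
  simp [psi, LL_apply]; ring

theorem psi_v (β : B →* ℂ) : IsVChar (psi ρ e1 e2 β) :=
  (((isChar_lin _).isVChar.add (isChar_lin _).isVChar).sub (isChar_lin _).isVChar).sub (isChar_lin _).isVChar

/-- the multiplicities -/
noncomputable def dd (β : B →* ℂ) (i : Irr G) : ℤ := ((psi_v ρ e1 e2 β).ind.ip_int (isVChar_chi i)).choose

theorem dd_eq (β : B →* ℂ) (i : Irr G) : ip (ind (HH t) (psi ρ e1 e2 β)) (chi i) = dd ρ e1 e2 β i :=
  ((psi_v ρ e1 e2 β).ind.ip_int (isVChar_chi i)).choose_spec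

namespace ST
variable {ρ e1 e2} (h : ST t s w K B ρ e1 e2)
include h

theorem LL_inj : Function.Injective (LL ρ e1 e2) := by
  rintro ⟨β, i, j⟩ ⟨γ, k, l⟩ e
  have a1 := DFunLike.congr_fun e ⟨t, mH.2 rfl⟩
  have a2 := DFunLike.congr_fun e ⟨s, h.ms⟩
  simp only [LL_apply, h.ρt ⟨t, mH.2 rfl⟩ rfl, h.ρs ⟨s, h.ms⟩ rfl, map_one, one_pow, one_mul, mul_one] at a1 a2
  have q : ∀ i k : Fin 2, (-1 : ℂ) ^ i.val = (-1) ^ k.val → i = k := fun i k e => by
    fin_cases i <;> fin_cases k <;> first | rfl | norm_num at e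
  refine Prod.ext (MonoidHom.ext fun b => ?_) (Prod.ext (q _ _ a1) (q _ _ a2))
  simpa [LL_apply, h.ρb, h.ρB ⟨b, h.mB b.2⟩ b.2] using DFunLike.congr_fun e ⟨b, h.mB b.2⟩

theorem supp (β : B →* ℂ) (g : HH t) (hg : psi ρ e1 e2 β g ≠ 0) :
    (g : G) ∈ {g : G | g ^ (Nat.card B * Nat.card K) = t} := by
  rw [psi_apply] at hg
  rcases h.sg g with ⟨a | a, b | b⟩
  · simp [a] at hg
  · simp [a] at hg
  · exact h.powA a b
  · simp [b] at hg

omit h in
theorem ti' {a x : G} {n : ℕ} (ha : a ^ n = t) (hx : (x⁻¹ * a * x) ^ n = t) : x ∈ HH t := mH.2 (by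
  rw [show x⁻¹ * a * x = x⁻¹ * a * x⁻¹⁻¹ by simp, conj_pow, ha, inv_inv] at hx
  nth_rewrite 2 [← hx]; group)

open Classical in
theorem ip_psi (β γ : B →* ℂ) : ip (psi ρ e1 e2 β) (psi ρ e1 e2 γ) = if β = γ then 4 else 0 := by
  simp only [psi, ip_add_left, ip_add_right, ip_sub_left, ip_sub_right, ip_lin, h.LL_inj.eq_iff, Prod.mk.injEq]
  by_cases e : β = γ <;> simp [e]
  norm_num

open Classical in
theorem dd_ip (β γ : B →* ℂ) : ∑ i, dd ρ e1 e2 β i * dd ρ e1 e2 γ i = if β = γ then 4 else 0 := by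
  have := ip_ind_ind_of_TI (A := {g : G | g ^ (Nat.card B * Nat.card K) = t}) (fun a ha x hx => ti' ha hx)
    (fun a ha => by rw [Set.mem_ofPred_eq, inv_pow, ha, inv_eq_of_mul_eq_one_left h.tt])
    (psi_v ρ e1 e2 γ).isClass (h.supp β) (h.supp γ)
  rw [(isClass_ind _ _).ip_eq_sum, h.ip_psi] at this
  simp only [dd_eq] at this
  split_ifs at this ⊢ <;> exact_mod_cast this

theorem dd_deg (β : B →* ℂ) : ∑ i, dd ρ e1 e2 β i * (deg i : ℤ) = 0 := by
  have := (isClass_ind (HH t) (psi ρ e1 e2 β)).apply_eq_sum 1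
  rw [ind_one, psi_apply] at this
  simp only [dd_eq, chi_one, map_one, sub_self, zero_mul, mul_zero] at this
  exact_mod_cast this.symm

theorem dd_triv {β : B →* ℂ} (hβ : β ≠ 1) : dd ρ e1 e2 β (triv G) = 0 := by
  classical
  have := dd_eq ρ e1 e2 β (triv G)
  rw [ip_ind _ _ (isClass_chi _), show chi (triv G) ∘ (HH t).subtype = LL ρ e1 e2 (1, 0, 0) from
    funext fun g => by simp [LL_apply]] at this
  simp only [psi, ip_add_left, ip_sub_left, ip_lin, h.LL_inj.eq_iff, Prod.mk.injEq, hβ] at this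
  exact_mod_cast (show (dd ρ e1 e2 β (triv G) : ℂ) = 0 by simpa using this.symm)

theorem csum (β : B →* ℂ) {c : Irr G → ℤ} (hc : ∀ i, dd ρ e1 e2 β i ≠ 0 → chi i t = c i) :
    8 / 15 ≤ ∑ i, (dd ρ e1 e2 β i : ℚ) * (c i ^ 2 / deg i) := by
  classical
  have v : ∀ a, ind (HH t) (psi ρ e1 e2 β) (t * (a * t * a⁻¹)) =
      if Even (orderOf (t * (a * t * a⁻¹))) then 4 else 0 := fun a => by
    have iv : t * (t * (a * t * a⁻¹)) * t⁻¹ = (t * (a * t * a⁻¹))⁻¹ := by
      simp [mul_assoc, h.toV4.t_inv, h.toV4.ttx]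
    generalize t * (a * t * a⁻¹) = y at iv
    split_ifs with hy
    · obtain ⟨g, u, e, u1, u2⟩ := h.even (even_iff_two_dvd.1 hy)
      have p := h.powA u1 u2
      have i2 : g * t * g⁻¹ * u * (g * t * g⁻¹)⁻¹ = (u : G)⁻¹ := by rw [e, conj_inv, conj_inv, ← iv]; group
      have m : g * t * g⁻¹ ∈ HH t := mH.2 (by
        have := congrArg (· ^ (Nat.card B * Nat.card K)) i2
        simp only [conj_pow, inv_pow, p, h.toV4.t_inv] at this
        exact (mul_inv_eq_iff_eq_mul.1 this).symm)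
      have r := congrArg ρ (Subtype.ext i2 : ⟨_, m⟩ * u * ⟨_, m⟩⁻¹ = u⁻¹)
      rw [map_mul, map_mul, map_inv, map_inv, h.ρ_inv (j := ⟨_, m⟩) (by rw [conj_mul, h.tt]; simp), inv_one,
        one_mul, mul_one] at r
      rw [← isClass_ind _ _ y g, ← e, ind_apply_of_TI (psi_v ρ e1 e2 β).isClass (h.supp β) u
        (fun x hx => ti' p hx), psi_apply, u1, u2,
        odd_sq h.Bodd pow_card_eq_one' (mul_eq_one_iff_eq_inv.2 r), map_one]
      norm_num
    · refine ind_eq_zero (h.supp β) fun x hx => hy ?_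
      have : orderOf t ∣ orderOf (x⁻¹ * y * x) := hx ▸ orderOf_pow_dvd _
      rw [orderOf_eq_prime (p := 2) (by rw [pow_two, h.tt]) h.t1, ← inv_inv x, inv_inv x⁻¹,
        ← MulAut.conj_apply, MulEquiv.orderOf_eq] at this
      exact even_iff_two_dvd.2 this
  have e : ∑ a, ind (HH t) (psi ρ e1 e2 β) (t * (a * t * a⁻¹)) =
      Fintype.card G * ∑ i, (dd ρ e1 e2 β i : ℂ) * (c i ^ 2 / deg i) := by
    simp only [(isClass_ind (HH t) (psi ρ e1 e2 β)).apply_eq_sum, dd_eq]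
    rw [Finset.sum_comm, Finset.mul_sum]
    refine Finset.sum_congr rfl fun i _ => ?_
    rw [← Finset.mul_sum, sum_chi_mul_conj]
    by_cases z : dd ρ e1 e2 β i = 0
    · simp [z]
    · rw [hc i z]; ring
  simp only [v, Finset.sum_ite, Finset.sum_const_zero, add_zero, Finset.sum_const, nsmul_eq_mul] at e
  have k := h.toV4.sigma
  rw [Nat.card_eq_fintype_card, Nat.card_eq_fintype_card, Fintype.card_subtype] at k
  have e' : ((Finset.univ.filter fun a => Even (orderOf (t * (a * t * a⁻¹)))).card : ℚ) * 4 =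
      Fintype.card G * ∑ i, (dd ρ e1 e2 β i : ℚ) * (c i ^ 2 / deg i) := by
    apply Rat.cast_injective (α := ℂ); push_cast; exact e
  have k' : 2 * (Fintype.card G : ℚ) ≤ 15 * (Finset.univ.filter fun a => Even (orderOf (t * (a * t * a⁻¹)))).card := by
    exact_mod_cast k
  have p : (0 : ℚ) < Fintype.card G := by exact_mod_cast Fintype.card_pos
  exact le_of_mul_le_mul_left (by linarith) p

theorem pv4 : pv 2 ((Fintype.card (HH t) : ℂ)⁻¹ * 4) ≤ 1 := by
  obtain ⟨a, m, hm, e⟩ := Nat.exists_eq_two_pow_mul_odd (Fintype.card_ne_zero (α := HH t))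
  have : a < 3 := by
    by_contra! hh
    exact h.n8 ((((pow_dvd_pow 2 hh).mul_right m).trans (by rw [← e, ← Nat.card_eq_fintype_card])).trans
      (card_subgroup_dvd_card (HH t)))
  have m0 : (m : ℂ) ≠ 0 := by exact_mod_cast hm.pos.ne'
  rw [show (Fintype.card (HH t) : ℂ)⁻¹ * 4 = (m : ℂ)⁻¹ * (2 ^ (2 - a) : ℕ) by
    rw [e]; interval_cases a <;> push_cast <;> field_simp <;> norm_num]
  exact pv_mul_le (pv_inv_le (pv_nat_eq_one hm.not_two_dvd_nat)) (pv_nat _)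

theorem sep (O : Finset (B →* ℂ)) (hO : ∀ b, ∑ β ∈ O, β (h.cw b) = ∑ β ∈ O, β b) (i : Irr G) :
    (∀ β ∈ O, dd ρ e1 e2 β i = 0) ∨ ∀ g : HH t, e1 g = -1 → e2 g = 1 →
      chi i g = ∑ β ∈ O, dd ρ e1 e2 β i * β (ρ g) := by
  classical
  let R : G → ℂ → Prop := fun g c => ∃ x, ∃ u : HH t, (u : G) = x * g * x⁻¹ ∧ e1 u = 1 ∧ e2 u = 1 ∧
    c = ∑ β ∈ O, β (ρ u)
  let z : G → ℂ := fun g => if hh : ∃ c, R g c then hh.choose else 0
  have zc : IsClass z := fun g y => by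
    have : R (y * g * y⁻¹) = R g := funext fun c => propext
      ⟨fun ⟨x, u, e, r⟩ => ⟨x * y, u, by rw [e]; group, r⟩, fun ⟨x, u, e, r⟩ => ⟨x * y⁻¹, u, by rw [e]; group, r⟩⟩
    simp only [z, this]
  have zH : ∀ g : HH t, z g * 4 = ∑ a ∈ O ×ˢ Finset.univ ×ˢ Finset.univ, LL ρ e1 e2 a g := fun g => by
    simp only [Finset.sum_product, Fin.sum_univ_two, LL_apply, z]
    split_ifs with hh
    · obtain ⟨x, u, e, u1, u2, r⟩ := hh.choose_spec
      obtain ⟨a, b⟩ := h.oddE (g := g) h.odd (by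
        have := h.powU u1 u2; rwa [e, conj_pow, conj_eq_one_iff] at this)
      rw [r, h.fusion (F := fun b => ∑ β ∈ O, β b) (fun b c => Finset.sum_congr rfl fun β _ =>
        (isChar_lin β).isClass b c) hO u1 u2 e, Finset.sum_mul, a, b]
      exact Finset.sum_congr rfl fun β _ => by simp; ring
    · refine (zero_mul _).trans (Finset.sum_eq_zero fun β _ => ?_).symm
      rcases h.sg g with ⟨a | a, b | b⟩
      · exact (hh ⟨_, 1, g, by simp, a, b, rfl⟩).elim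
      all_goals simp [a, b]
  have k := m2 (p := 2) (HH t) (f := fun g => (Fintype.card (HH t) : ℂ)⁻¹ * 4 * z g⁻¹)
    (fun g y => by simp only [← conj_inv.symm, zc g⁻¹ y]) (fun g => pv_mul_le h.pv4 (by
      simp only [z]
      split_ifs with hh
      · obtain ⟨x, u, -, -, -, r⟩ := hh.choose_spec
        rw [r]
        exact Valuation.map_sum_le _ fun β _ => (pv_of_pow_eq_one Fintype.card_ne_zero (by
          rw [← map_pow, pow_card_eq_one, map_one])).le
      · simp)) (S := (O ×ˢ Finset.univ ×ˢ Finset.univ).image fun a => ix (LL ρ e1 e2 a)) (by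
      rw [idemS_lin _ _ h.LL_inj]
      congr 1; funext g
      rw [← zH g⁻¹]; simp; ring) i
  have cond : ∀ g : HH t, e1 g = -1 → e2 g = 1 →
      ∀ n : ℕ, ¬ 2 ∣ n → ∀ x : G, (g : G) ^ n * x = x * (g : G) ^ n → x ∈ HH t := fun g a b n hn x hx => by
    have := Commute.pow_left hx (Nat.card B * Nat.card K)
    obtain ⟨k, rfl⟩ := Nat.odd_iff.2 (Nat.two_dvd_ne_zero.1 hn)
    rw [← pow_mul, mul_comm, pow_mul, h.powA a b, pow_succ, pow_mul, pow_two, h.tt, one_pow, one_mul] at this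
    exact mH.2 this
  have pr : ∀ g : HH t, e1 g = -1 → e2 g = 1 → proj ((O ×ˢ Finset.univ ×ˢ Finset.univ).image
      fun a => ix (LL ρ e1 e2 a)) (chi i ∘ (HH t).subtype) g = ∑ β ∈ O, dd ρ e1 e2 β i * β (ρ g) := fun g a b => by
    rw [proj_lin _ _ h.LL_inj]
    simp only [Finset.sum_product, Fin.sum_univ_two, LL_apply, a, b]
    refine Finset.sum_congr rfl fun β _ => ?_
    rw [← dd_eq, ip_ind _ _ (isClass_chi _), ip_comm (psi _ _ _ _), psi, ip_sub_right, ip_sub_right, ip_add_right]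
    simp; ring
  refine k.imp (fun k β hβ => ?_) fun k g a b => by rw [← pr g a b, k g (cond g a b)]
  have := linearIndependent_iff'.1 (linearIndependent_monoidHom B ℂ) O (fun β => dd ρ e1 e2 β i) (funext fun b => by
    obtain ⟨t1, t2, t3⟩ := h.ρt ⟨t, mH.2 rfl⟩ rfl
    obtain ⟨-, b2, b3⟩ := h.ρB ⟨b, h.mB b.2⟩ b.2
    have a1 : e1 (⟨b, h.mB b.2⟩ * ⟨t, mH.2 rfl⟩) = -1 := by rw [map_mul, t2, b2, one_mul]
    have a2 : e2 (⟨b, h.mB b.2⟩ * ⟨t, mH.2 rfl⟩) = 1 := by rw [map_mul, t3, b3, one_mul]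
    have := k _ (cond _ a1 a2)
    rw [pr _ a1 a2, map_mul, t1, mul_one, h.ρb] at this
    simpa using this) β hβ
  exact_mod_cast this

theorem orb {i : Irr G} (hi : i ≠ triv G) (hc : ∀ x ∈ K, chi i (x * t) = chi i t) {m : ℕ}
    (hm : ∀ q, Odd q → 4 * q ≤ deg i → q ∣ m) {b : G} (hb : b ∈ B) {x : G} (hx : x ∈ K) :
    b ^ (2 * m) * x = x * b ^ (2 * m) := by
  classical
  have cs : Commute b s := (h.Bs b hb).symm
  have s2 : ∀ n, (b * s) ^ (2 * n) = b ^ (2 * n) := fun n => by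
    rw [cs.mul_pow, pow_mul s, pow_two s, h.ss, one_pow, mul_one]
  have hc' : b * s ∈ normalizer (K : Set G) := mem_normalizer_fintype fun y hy => by
    rw [show b * s * y * (b * s)⁻¹ = b * (s * y * s) * b⁻¹ by simp [mul_assoc, h.toV4.s_inv], h.Ks y hy]
    exact h.BK b hb _ (K.inv_mem hy)
  let α : MulAut K := K.normalizerMonoidHom ⟨_, hc'⟩
  have hα : ∀ (n : ℕ) (y : K), ((α ^ n) y : G) = (b * s) ^ n * y * ((b * s) ^ n)⁻¹ := fun n y => by
    rw [← map_pow]; rfl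
  let T : (K →* ℂ) → K →* ℂ := fun κ => κ.comp α.toMonoidHom
  have hT : ∀ (n : ℕ) κ y, T^[n] κ y = κ ((α ^ n) y) := fun n => by
    induction n with
    | zero => simp
    | succ n ih => intro κ y; rw [Function.iterate_succ_apply, ih, pow_succ']; rfl
  have hf : IsChar (chi i ∘ K.subtype) := (isChar_chi i).comp _
  have μ : ∀ κ, ip (chi i ∘ K.subtype) (T κ) = ip (chi i ∘ K.subtype) κ := fun κ => by
    unfold ip; congr 1
    refine Fintype.sum_equiv α.toEquiv _ _ fun y => ?_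
    rw [show (chi i ∘ K.subtype) (α.toEquiv y) = chi i y from isClass_chi i y (b * s)]
    simp [T]
  have key : ∀ κ : K →* ℂ, ip (chi i ∘ K.subtype) κ ≠ 0 → T^[2 * m] κ = κ := fun κ hκ => by
    by_cases k1 : κ = 1
    · ext y; simp [hT, k1]
    obtain ⟨k, hk⟩ := (isChar_half K.subtype h.tt (fun x => (h.Kt x x.2).symm) i).ip_nat (isChar_lin κ)
    have e : ip (chi i ∘ K.subtype) κ = (2 * k : ℕ) := by
      rw [show chi i ∘ K.subtype = (2 : ℂ) • (fun x : K => (chi i (K.subtype x) + chi i (K.subtype x * t)) / 2) -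
        chi i t • ((1 : K →* ℂ) : K → ℂ) from funext fun x => by simp [hc x x.2]; ring, ip_sub_left, ip_smul_left,
        ip_smul_left, hk, ip_lin, if_neg (Ne.symm k1)]
      simp
    have per : Function.IsPeriodicPt T (2 * Nat.card B) κ := MonoidHom.ext fun y => by
      rw [hT]; congr 1; ext; rw [hα, s2, mul_comm 2, pow_mul, pw_card hb]; simp
    have np : ¬ Function.IsPeriodicPt T (Nat.card B) κ := fun e => k1 (MonoidHom.ext fun y => by
      obtain ⟨n, hn⟩ := h.Bodd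
      obtain ⟨l, hl⟩ := h.Kodd
      have e2 := DFunLike.congr_fun e (y ^ (l + 1))
      rw [hT, show (α ^ Nat.card B) (y ^ (l + 1)) = (y ^ (l + 1))⁻¹ from Subtype.ext (by
        rw [hα, cs.mul_pow, pw_card hb, hn, pow_succ s, pow_mul, pow_two, h.ss, one_pow, one_mul, one_mul,
          h.toV4.s_inv, h.Ks _ (Subtype.coe_prop _)]; rfl)] at e2
      have e3 : y ^ (l + 1) * y ^ (l + 1) = y := by
        rw [← pow_add, show l + 1 + (l + 1) = Nat.card K + 1 by omega, pow_succ, pow_card_eq_one', one_mul]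
      rw [← e3, map_mul]
      nth_rewrite 1 [← e2]
      rw [← map_mul]; simp)
    have k0 : k ≠ 0 := by rintro rfl; exact hκ (e.trans (by simp))
    have it : ∀ a, ip (chi i ∘ K.subtype) (T^[a] κ) = (2 * k : ℕ) := fun a => by
      induction a with
      | zero => exact e
      | succ a ih => rw [Function.iterate_succ_apply', μ, ih]
    have le := two_mul_le hf (chi_one i) (fun a => T^[a] κ) Function.iterate_injOn_Iio_minimalPeriod
      fun a _ => ⟨2 * k, by omega, it a⟩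
    rw [Function.isPeriodicPt_iff_minimalPeriod_dvd] at per np
    obtain ⟨q, hq⟩ : 2 ∣ Function.minimalPeriod T κ := by
      by_contra e
      exact np ((Nat.coprime_two_right.2 (Nat.odd_iff.2 (by omega))).dvd_of_dvd_mul_left per)
    refine Function.isPeriodicPt_iff_minimalPeriod_dvd.2 ?_
    rw [hq] at per le ⊢
    exact Nat.mul_dvd_mul_left 2 (hm q (h.Bodd.of_dvd_nat (Nat.dvd_of_mul_dvd_mul_left two_pos per)) (by omega))
  have e : (chi i ∘ K.subtype) ((α ^ (2 * m)) ⟨x, hx⟩ * ⟨x, hx⟩⁻¹) = (chi i ∘ K.subtype) 1 := by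
    rw [hf.isClass.apply_eq_sum, hf.isClass.apply_eq_sum]
    refine Finset.sum_congr rfl fun j _ => ?_
    by_cases z : ip (chi i ∘ K.subtype) (chi j) = 0
    · rw [z, zero_mul, zero_mul]
    have := DFunLike.congr_fun (key (linOf (deg_eq_one_of_comm h.Kcomm j)) z) ⟨x, hx⟩
    rw [hT] at this
    congr 1
    show linOf (deg_eq_one_of_comm h.Kcomm j) _ = linOf (deg_eq_one_of_comm h.Kcomm j) _
    rw [map_mul, this, ← map_mul, mul_inv_cancel]
  have := h.simple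
  have := ((kerI_normal i).eq_bot_or_eq_top.resolve_right (mt kerI_eq_top_iff.1 hi)).le
    (mem_kerI.2 (e.trans (chi_one i)))
  rw [mem_bot, map_mul, subtype_apply, hα, s2] at this
  simpa [mul_inv_eq_one, mul_inv_eq_iff_eq_mul] using this

theorem fin {O : Finset (B →* ℂ)} {i : Irr G} {β : B →* ℂ} (hβ : β ≠ 1) (hi : dd ρ e1 e2 β i ≠ 0)
    (hc : ∀ g : HH t, e1 g = -1 → e2 g = 1 → chi i g = ∑ β ∈ O, dd ρ e1 e2 β i * β (ρ g)) {m : ℕ}
    (hm : ∀ q, Odd q → 4 * q ≤ deg i → q ∣ m) {b : G} (hb : b ∈ B) : b ^ m = 1 := by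
  obtain ⟨t1, t2, t3⟩ := h.ρt ⟨t, mH.2 rfl⟩ rfl
  refine odd_sq h.Bodd (pw_card (B.pow_mem hb m)) ?_
  rw [← pow_add, ← two_mul]
  refine h.pow_one' (fun b hb x hx => h.orb (fun e : i = triv G => hi (e ▸ h.dd_triv hβ)) (fun x hx => ?_) hm hb hx) hb
  obtain ⟨x1, x2, x3⟩ := h.ρK ⟨x, h.mK hx⟩ hx
  refine (hc (⟨x, h.mK hx⟩ * ⟨t, mH.2 rfl⟩) (by rw [map_mul, x2, t2, one_mul]) (by rw [map_mul, x3, t3, one_mul])).trans
    (.trans ?_ (hc ⟨t, mH.2 rfl⟩ t2 t3).symm)
  rw [map_mul, x1, one_mul]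

theorem bot : B = ⊥ := by
  classical
  by_contra hB
  obtain ⟨β, hβ⟩ : ∃ β : B →* ℂ, β ≠ 1 := by
    have := S0205.result h.Bodd
    have := (nontrivial_iff_ne_bot B).2 hB
    obtain ⟨b, -, hb⟩ := SetLike.exists_of_lt (Group.IsSolvable.commutator_lt_top_of_nontrivial B)
    obtain ⟨φ, hφ⟩ := CommGroup.exists_apply_ne_one_of_hasEnoughRootsOfUnity (Abelianization B) ℂ
      (a := Abelianization.of b) (fun e => hb ((QuotientGroup.eq_one_iff b).1 e))
    exact ⟨(Units.coeHom ℂ).comp (φ.comp Abelianization.of), fun e => hφ (Units.ext (DFunLike.congr_fun e b))⟩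
  obtain ⟨t1, t2, t3⟩ := h.ρt ⟨t, mH.2 rfl⟩ rfl
  have n4 : ∀ γ, ∑ i, dd ρ e1 e2 γ i * dd ρ e1 e2 γ i = 4 := fun γ => by simp [h.dd_ip]
  by_cases hw : β.comp h.cw = β
  · have sp := fun i (hi : dd ρ e1 e2 β i ≠ 0) => (h.sep {β} (fun b => by simpa using DFunLike.congr_fun hw b) i).resolve_left
      fun e => hi (e β (by simp))
    obtain ⟨a, ha, h5⟩ := col_one deg_pos (n4 β) (h.dd_deg β) ((h.csum β (c := dd ρ e1 e2 β) fun i hi => by
      simpa [t1] using sp i hi _ t2 t3).trans_eq (Finset.sum_congr rfl fun i _ => by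
        rcases col0 deg_pos (n4 β) (h.dd_deg β) i with e | e | e <;> simp [e, neg_div]))
    exact hB (eq_bot_iff.2 fun b hb => by
      simpa using h.fin hβ ha (sp a ha) (m := 1) (fun q hq e => by rw [show q = 1 by have := hq.pos; omega]) hb)
  obtain ⟨γ, hγ⟩ : ∃ γ, γ = β.comp h.cw := ⟨_, rfl⟩
  obtain ⟨δ, hδ⟩ : ∃ δ, δ = γ.comp h.cw := ⟨_, rfl⟩
  have h3 : β = δ.comp h.cw := MonoidHom.ext fun b => by simp [hδ, hγ, h.cw3]
  have n1 : β ≠ γ := fun e => hw (hγ.symm.trans e.symm)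
  have n2 : β ≠ δ := fun e => n1 (by rw [hγ, e, ← h3, ← e])
  have n3 : γ ≠ δ := fun e => n2 (by rw [h3, ← e, ← hδ, e])
  have c1 : ∀ b, β (h.cw b) = γ b := fun b => by simp [hγ]
  have c2 : ∀ b, γ (h.cw b) = δ b := fun b => by simp [hδ]
  have c3 : ∀ b, δ (h.cw b) = β b := fun b => (DFunLike.congr_fun h3 b).symm
  have sm : ∀ f : (B →* ℂ) → ℂ, ∑ a ∈ {β, γ, δ}, f a = f β + f γ + f δ := fun f => by
    rw [Finset.sum_insert (by simp [n1, n2]), Finset.sum_pair n3, add_assoc]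
  have sp := h.sep {β, γ, δ} fun b => by rw [sm, sm, c1, c2, c3]; ring
  have par : ∀ i, 2 ∣ dd ρ e1 e2 β i - dd ρ e1 e2 γ i ∧ 2 ∣ dd ρ e1 e2 β i - dd ρ e1 e2 δ i := fun i => by
    rcases sp i with e | e
    · simp [e]
    have v : ∀ b : B, chi i (b * t) = dd ρ e1 e2 β i * β b + dd ρ e1 e2 γ i * γ b + dd ρ e1 e2 δ i * δ b := fun b => by
      obtain ⟨-, b2, b3⟩ := h.ρB ⟨b, h.mB b.2⟩ b.2
      have := e (⟨b, h.mB b.2⟩ * ⟨t, mH.2 rfl⟩) (by rw [map_mul, t2, b2, one_mul]) (by rw [map_mul, t3, b3, one_mul])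
      rwa [map_mul, t1, mul_one, h.ρb, sm] at this
    have := (isChar_half (B.subtype.comp h.cw) h.tt (fun x => (h.Bt _ (h.cw x).2).symm) i).isVChar.sub
      (isChar_half B.subtype h.tt (fun x => (h.Bt x x.2).symm) i).isVChar
    rw [show (fun x => (chi i (B.subtype.comp h.cw x) + chi i (B.subtype.comp h.cw x * t)) / 2) -
      (fun x => (chi i (B.subtype x) + chi i (B.subtype x * t)) / 2) =
      ((dd ρ e1 e2 δ i - dd ρ e1 e2 β i) / 2 : ℂ) • (β : B → ℂ) + ((dd ρ e1 e2 β i - dd ρ e1 e2 γ i) / 2 : ℂ) • (γ : B → ℂ) +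
      ((dd ρ e1 e2 γ i - dd ρ e1 e2 δ i) / 2 : ℂ) • (δ : B → ℂ) from funext fun b => by
        have := isClass_chi i b w
        simp only [Pi.sub_apply, MonoidHom.comp_apply, subtype_apply, v, c1, c2, c3, Pi.add_apply, Pi.smul_apply,
          smul_eq_mul]
        rw [h.cw_coe, this]; ring] at this
    obtain ⟨a, ha⟩ := this.ip_int (isChar_lin β).isVChar
    obtain ⟨b, hb⟩ := this.ip_int (isChar_lin γ).isVChar
    simp only [ip_add_left, ip_smul_left, ip_lin, n1, n2, n3, n1.symm, n2.symm, n3.symm, if_true, if_false, mul_one,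
      mul_zero, add_zero, zero_add, div_eq_iff (two_ne_zero (α := ℂ))] at ha hb
    exact ⟨⟨b, by rw [mul_comm]; exact_mod_cast hb⟩, ⟨-a, by
      have : dd ρ e1 e2 δ i - dd ρ e1 e2 β i = a * 2 := by exact_mod_cast ha
      omega⟩⟩
  have sp' := fun i (hi : dd ρ e1 e2 β i ≠ 0) => (sp i).resolve_left fun e => hi (e β (by simp))
  obtain ⟨a, ha, h5⟩ := col_three deg_pos (n4 β) (h.dd_deg β) (n4 γ) (h.dd_deg γ) (n4 δ) (h.dd_deg δ)
    (by simp [h.dd_ip, n1]) (by simp [h.dd_ip, n2]) (by simp [h.dd_ip, n3]) (fun i => (par i).1) (fun i => (par i).2)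
    (by simpa using h.csum β (c := fun i => dd ρ e1 e2 β i + dd ρ e1 e2 γ i + dd ρ e1 e2 δ i) fun i hi => by
          simpa [t1, sm] using sp' i hi _ t2 t3)
  exact hw (h.cw_eq (fun b hb => h.fin hβ ha (sp' a ha) (fun q hq e => by
    have : q ≤ 3 := by omega
    obtain ⟨r, rfl⟩ := hq
    obtain rfl | rfl : r = 0 ∨ r = 1 := by omega
    all_goals norm_num) hb) β)

end ST

end C2

/-- the centraliser of a Sylow four-group has no odd part -/
theorem VK.B_bot {G : Type*} [Group G] [Finite G] {t s w : G} {K B : Subgroup G} (hA : AG G)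
    (h : VK t s w K B) (hK : K ≠ ⊥) : B = ⊥ := by
  obtain ⟨ρ, e1, e2, h⟩ := C2.exists_st hA h hK
  have := Fintype.ofFinite G
  have := Fintype.ofFinite (C2.HH t)
  have := Fintype.ofFinite K
  have := Fintype.ofFinite B
  exact h.bot

end Cfsg.Agent.Lib.AG
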