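/-
A-groups project (S2554): vocabulary for 2-rank at least 3.
-/
import Cfsg.Agent.Lib.AG.Defs

set_option autoImplicit false

namespace Cfsg.Agent.Lib.AG

open Subgroup Cfsg.Agent.Lib.Core

universe u

variable {G : Type u} [Group G]

/-- the centraliser of `K / O(K)` in `N(K)` -/
def CM (K : Subgroup G) : Subgroup G where
  carrier := {g | g ∈ normalizer (K : Set G) ∧ ∀ k ∈ K, g * k * g⁻¹ * k⁻¹ ∈ OppOf 2 K}
  one_mem' := ⟨one_mem _, fun k _ => by simp⟩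
  mul_mem' := by
    rintro a b ⟨ha, ha'⟩ ⟨hb, hb'⟩
    refine ⟨mul_mem ha hb, fun k hk => ?_⟩
    have h1 := ha' _ (conj_mem_of_mem_normalizer hb hk)
    have h2 := hb' k hk
    have : a * b * k * (a * b)⁻¹ * k⁻¹ =
        (a * (b * k * b⁻¹) * a⁻¹ * (b * k * b⁻¹)⁻¹) * (b * k * b⁻¹ * k⁻¹) := by group
    rw [this]; exact mul_mem h1 h2
  inv_mem' := by
    rintro a ⟨ha, ha'⟩
    refine ⟨inv_mem ha, fun k hk => ?_⟩
    have h1 := ha' _ (conj_mem_of_mem_normalizer' ha hk)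
    have : a⁻¹ * k * a⁻¹⁻¹ * k⁻¹ = (a * (a⁻¹ * k * a) * a⁻¹ * (a⁻¹ * k * a)⁻¹)⁻¹ := by group
    rw [this]; exact inv_mem h1

theorem mem_CM {K : Subgroup G} {g : G} :
    g ∈ CM K ↔ g ∈ normalizer (K : Set G) ∧ ∀ k ∈ K, g * k * g⁻¹ * k⁻¹ ∈ OppOf 2 K := Iff.rfl

/-- `K / O(K)` has type `T` (`T = TA, TB, TC`) -/
def Ty (T : ∀ (Q : Type u) [Group Q], Prop) (K : Subgroup G) : Prop :=
  ∃ (Q : Type u) (_ : Group Q) (_ : Finite Q) (f : K →* Q),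
    Function.Surjective f ∧ kerOf f = OppOf 2 K ∧ T Q

/-- data of a 2-component `K` relative to a Sylow 2-subgroup `S` of the ambient subgroup -/
structure CD (S K D : Subgroup G) : Prop where
  norm : S ≤ normalizer (K : Set G)
  sq : ∀ x ∈ S ⊓ K, x * x = 1
  four : 4 ≤ Nat.card ↥(S ⊓ K)
  disj : ∀ x ∈ S ⊓ K, x ∈ CM K → x = 1
  split : ∀ s ∈ S, ∃ v ∈ S ⊓ K, ∃ c ∈ S ⊓ CM K, s = v * c
  DK : D ≤ K
  DN : D ≤ normalizer (S : Set G)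
  DC : D ≤ centralizer ((S ⊓ CM K : Subgroup G) : Set G)
  odd : Odd (Nat.card D)
  comm : ∀ d ∈ D, ∀ e ∈ D, d * e * d⁻¹ * e⁻¹ ∈ centralizer (S : Set G)
  trans : ∀ x ∈ S ⊓ K, ∀ y ∈ S ⊓ K, x ≠ 1 → y ≠ 1 → ∃ d ∈ D, d * x * d⁻¹ = y
  reg : ∀ d ∈ D, ∀ x ∈ S ⊓ K, x ≠ 1 → d * x = x * d → d ∈ centralizer (S : Set G)

/-- the minimal counterexample of 2-rank at least 3; `A = Ω₁(S)` -/
structure Cx [Finite G] (S A : Subgroup G) : Prop where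
  ag : AG G
  simple : IsSimpleGroup G
  ih : IH.{u} (Nat.card G)
  syl : IsSyl 2 S ⊤
  memA : ∀ x, x ∈ A ↔ x ∈ S ∧ x * x = 1
  rk : 8 ≤ Nat.card A
  nse : ∀ H : Subgroup G, ¬ Cfsg.IsStronglyEmbedded H

/-- `Δ(E) = ⋂_{e ∈ E#} O(C(e))` -/
def Del (E : Subgroup G) : Subgroup G :=
  ⨅ e : {e : G // e ∈ E ∧ e ≠ 1}, OppOf 2 (centralizer ({(e : G)} : Set G))

/-- every 2-component of an involution centraliser is centralised (mod core) by a four-group -/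
def Beta2 (A : Subgroup G) : Prop :=
  ∀ a ∈ A, a ≠ 1 → ∀ K, PComp 2 (centralizer ({a} : Set G)) K → 4 ≤ Nat.card ↥(A ⊓ CM K)

/-- the configuration `S = E₈`, `C(t) ⊵ ⟨t⟩ × L` -/
structure E8 [Finite G] (S L : Subgroup G) (t : G) : Prop where
  ag : AG G
  simple : IsSimpleGroup G
  ih : IH.{u} (Nat.card G)
  syl : IsSyl 2 S ⊤
  card : Nat.card S = 8
  sq : ∀ x ∈ S, x * x = 1
  tS : t ∈ S
  t1 : t ≠ 1
  trans : ∀ x ∈ S, x ≠ 1 → ∃ g ∈ normalizer (S : Set G), g * t * g⁻¹ = x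
  coatom : IsCoatom (centralizer ({t} : Set G))
  Lle : L ≤ centralizer ({t} : Set G)
  Lnorm : centralizer ({t} : Set G) ≤ normalizer (L : Set G)
  tL : t ∉ L
  cardSL : Nat.card ↥(S ⊓ L) = 4
  centL : ∀ g : G, t * g = g * t → g ∈ centralizer (L : Set G) → g = 1 ∨ g = t
  type : TA L ∨ TB L
  nse : ∀ H : Subgroup G, ¬ Cfsg.IsStronglyEmbedded H

end Cfsg.Agent.Lib.AG
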