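import Cfsg.Agent.S0457
import Cfsg.Agent.Lib.Root.J1i
import Cfsg.Prelude.Def_Spor_J1

/-!
A simple group with an involution centraliser `2 × A₅` is isomorphic to the explicit group `J₁`.
-/

set_option autoImplicit false
set_option maxRecDepth 100000

namespace Cfsg.Agent.Lib.AG
open Cfsg Cfsg.Agent.PG Cfsg.Agent.Spor Cfsg.Agent.Lib.Root Subgroup
open Cfsg.Agent.Spor.J1 (A hA)

def wt : ℕ := 0x112141715121713
def wv : ℕ := 0x114161a151a
def wx : ℕ := 0x1141216131a15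
def wz : ℕ := 0x1121418131a13
def ws : ℕ := 0x118
def wu : ℕ := 0x11216131718

theorem j1_claims : ∀ c ∈ ([
  ([2 * wt, 2 * wt], []),
  ([2 * wv, 2 * wv], []),
  ([2 * ws, 2 * ws], []),
  ([2 * wx, 2 * wx, 2 * wx], []),
  ([2 * wt, 2 * wv, 2 * wt, 2 * wv], []),
  ([2 * wt, 2 * wx, 2 * wt, 2 * wx + 1], []),
  ([2 * wt, 2 * ws, 2 * wt, 2 * ws], []),
  ([2 * wx, 2 * wv, 2 * wx, 2 * wv, 2 * wx, 2 * wv], []),
  ([2 * wv, 2 * ws, 2 * wv, 2 * ws, 2 * wv, 2 * ws], []),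
  ([2 * wx, 2 * ws, 2 * wx, 2 * ws], []),
  ([2 * wz, 2 * wz, 2 * wz, 2 * wz, 2 * wz, 2 * wz, 2 * wz], []),
  ([2 * wx, 2 * wz, 2 * wx + 1, 2 * wz + 1, 2 * wz + 1], []),
  ([2 * wz, 2 * wt, 2 * wz + 1, 2 * wv], []),
  ([2 * wz, 2 * wv, 2 * wz + 1, 2 * wx, 2 * wv, 2 * wx + 1], []),
  ([2 * wz, 2 * wx, 2 * wv, 2 * wx + 1, 2 * wz + 1, 2 * wt, 2 * wv], []),
  ([2 * wu, 2 * wu], []),
  ([2 * wu, 2 * wx, 2 * wu, 2 * wx + 1], []),
  ([2 * wu, 2 * wz, 2 * wu, 2 * wz], []),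
  ([2 * wu, 2 * wt, 2 * wu, 2 * wt, 2 * wu, 2 * wt, 2 * wu, 2 * wt, 2 * wu, 2 * wt], []),
  ([2 * wu, 2 * ws, 2 * wu, 2 * ws], []),
  ([2 * wx, 2 * wv, 2 * wx + 1, 2 * ws, 2 * wv, 2 * wx + 1, 2 * wt, 2 * wu, 2 * wx, 2 * wv, 2 * wx + 1, 2 * ws, 2 * wv, 2 * wx + 1, 2 * wt, 2 * wu, 2 * wx, 2 * wv, 2 * wx + 1, 2 * ws, 2 * wv, 2 * wx + 1, 2 * wt, 2 * wu], []),
  ([gw 9], [2 * wz + 1, 2 * ws, 2 * wv, 2 * wt, 2 * wu, 2 * wz, 2 * wz, 2 * ws, 2 * wv, 2 * wx + 1]),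
  ([gw 10], [2 * wz, 2 * wv, 2 * ws, 2 * wz + 1, 2 * ws, 2 * wx, 2 * wv, 2 * wz + 1, 2 * ws]),
  ([gw 11], [2 * wz, 2 * ws, 2 * wx, 2 * wz + 1, 2 * ws, 2 * wv, 2 * wz + 1, 2 * wv, 2 * wt]),
  ([gw 12], [2 * ws]),
  ([gw 13], [2 * wt, 2 * wu, 2 * wt, 2 * wu, 2 * wz, 2 * ws, 2 * wz + 1, 2 * ws, 2 * wv, 2 * wt])] : List Claim), Holds A c :=
  chk_spec (lg := 9) hA (by decide +kernel)

theorem pres_K : J1.Pres (K A 9) := by
  have h := j1_claims
  simp only [List.forall_mem_cons, List.not_mem_nil, Holds, pp_cons, pp_nil, sp_even, sp_odd,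
    mul_one, sp_gw A (show 9 < 128 by omega), sp_gw A (show 10 < 128 by omega),
    sp_gw A (show 11 < 128 by omega), sp_gw A (show 12 < 128 by omega),
    sp_gw A (show 13 < 128 by omega)] at h
  obtain ⟨r1, r2, r3, r4, r5, r6, r7, r8, r9, r10, r11, r12, r13, r14, r15, r16, r17, r18, r19,
    r20, r21, g9, g10, g11, g12, g13, -⟩ := h
  have m : ∀ w ∈ [wt, wv, wx, wz, ws, wu], wp A w ∈ K A 9 := fun w hw =>
    wp_mem (allL_spec (p := wge 9) (by decide +kernel) w hw)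
  let t : K A 9 := ⟨_, m wt (by simp)⟩
  let v : K A 9 := ⟨_, m wv (by simp)⟩
  let x : K A 9 := ⟨_, m wx (by simp)⟩
  let z : K A 9 := ⟨_, m wz (by simp)⟩
  let s : K A 9 := ⟨_, m ws (by simp)⟩
  let u : K A 9 := ⟨_, m wu (by simp)⟩
  refine ⟨t, v, x, z, s, u, ⟨Subtype.ext r1, Subtype.ext r2, Subtype.ext r3, Subtype.ext r4,
    Subtype.ext r5, Subtype.ext r6, Subtype.ext r7, Subtype.ext r8, Subtype.ext r9,
    Subtype.ext r10, Subtype.ext r11, Subtype.ext r12, Subtype.ext r13, Subtype.ext r14,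
    Subtype.ext r15, Subtype.ext r16, Subtype.ext r17, Subtype.ext r18, Subtype.ext r19⟩,
    Subtype.ext (by rw [← mul_assoc] at r20; exact r20), Subtype.ext ?_, ?_⟩
  · rw [pow_three]
    simp only [mul_assoc]
    exact r21
  · set D := closure {y | y ∈ [t, v, x, z, s, u]}
    have ht : t ∈ D := subset_closure (by simp)
    have hv : v ∈ D := subset_closure (by simp)
    have hx : x ∈ D := subset_closure (by simp)
    have hz : z ∈ D := subset_closure (by simp)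
    have hs : s ∈ D := subset_closure (by simp)
    have hu : u ∈ D := subset_closure (by simp)
    have ht' : wp A wt ∈ D.map (K A 9).subtype := mem_map_of_mem (K A 9).subtype ht
    have hv' : wp A wv ∈ D.map (K A 9).subtype := mem_map_of_mem (K A 9).subtype hv
    have hx' : wp A wx ∈ D.map (K A 9).subtype := mem_map_of_mem (K A 9).subtype hx
    have hz' : wp A wz ∈ D.map (K A 9).subtype := mem_map_of_mem (K A 9).subtype hz
    have hs' : wp A ws ∈ D.map (K A 9).subtype := mem_map_of_mem (K A 9).subtype hs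
    have hu' : wp A wu ∈ D.map (K A 9).subtype := mem_map_of_mem (K A 9).subtype hu
    have key : K A 9 ≤ D.map (K A 9).subtype := by
      refine K_le fun j h1 h2 => ?_
      rw [Spor.J1.hlen] at h2
      interval_cases j
      · rw [g9]
        exact (mul_mem (inv_mem hz') (mul_mem hs' (mul_mem hv' (mul_mem ht' (mul_mem hu' (mul_mem hz' (mul_mem hz' (mul_mem hs' (mul_mem hv' (inv_mem hx'))))))))))
      · rw [g10]
        exact (mul_mem hz' (mul_mem hv' (mul_mem hs' (mul_mem (inv_mem hz') (mul_mem hs' (mul_mem hx' (mul_mem hv' (mul_mem (inv_mem hz') hs'))))))))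
      · rw [g11]
        exact (mul_mem hz' (mul_mem hs' (mul_mem hx' (mul_mem (inv_mem hz') (mul_mem hs' (mul_mem hv' (mul_mem (inv_mem hz') (mul_mem hv' ht'))))))))
      · rw [g12]
        exact hs'
      · rw [g13]
        exact (mul_mem ht' (mul_mem hu' (mul_mem ht' (mul_mem hu' (mul_mem hz' (mul_mem hs' (mul_mem (inv_mem hz') (mul_mem hs' (mul_mem hv' ht')))))))))
    rw [eq_top_iff]
    intro g _
    obtain ⟨y, hy, e⟩ := key g.2
    rwa [← (Subtype.ext e : y = g)]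

theorem iso_K_J1 : Nonempty (K A 9 ≃* Cfsg.Spor.J1) := by
  obtain ⟨φ, hφ⟩ := J1M.lift0
  have := Spor.J1.simple0
  obtain ⟨e⟩ := iso_of_lift hφ (inj_of_lift hφ le_rfl (by norm_num) (J1M.ne _ List.mem_cons_self))
  have h0 : J1M.γ 0 = Cfsg.Spor.jankoX := Units.ext ((gam_val J1M.good 0).trans (by
    unfold mat
    rw [if_neg (by decide)]
    decide +kernel))
  have h1 : J1M.γ 1 = Cfsg.Spor.jankoY := Units.ext ((gam_val J1M.good 1).trans (by
    unfold mat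
    rw [if_neg (by decide)]
    decide +kernel))
  refine ⟨e.trans (MulEquiv.subgroupCongr ?_)⟩
  rw [← S0457.gen, h0, h1]; rfl

theorem isoJ1_of_hyp {G : Type*} [Group G] [Finite G] [IsSimpleGroup G] {t : G} {φ : J1.T →* G}
    (h : J1.Hyp t φ) : Cfsg.Spor.IsoJ1 G := by
  have := finite_K hA 9
  obtain ⟨e⟩ := h.pres.iso pres_K h.card_G Spor.J1.card0
  exact iso_K_J1.map e.trans

end Cfsg.Agent.Lib.AG
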