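/-
A-groups project (S2554): a Klein four-group as Sylow 2-subgroup.
-/
import Cfsg.Agent.Lib.AG.Basic
import Cfsg.Agent.Lib.Invol.KleinSylow
import Cfsg.Agent.FT.Main

set_option autoImplicit false

namespace Cfsg.Agent.Lib.AG

open Subgroup Cfsg.Agent.Lib.Core

variable {G : Type*} [Group G]

/-- `V = {1, t, s, ts}` -/
def Vf (t s : G) : Subgroup G := closure {t, s}

/-- `V = {1, t, s, ts}` is a Sylow 2-subgroup of `G`. -/
structure K4 (t s : G) : Prop where
  tt : t * t = 1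
  ss : s * s = 1
  t1 : t ≠ 1
  s1 : s ≠ 1
  ts : t ≠ s
  comm : t * s = s * t
  n8 : ¬ 8 ∣ Nat.card G

variable {t s w : G}

theorem V4.k4 (h : V4 t s w) : K4 t s := ⟨h.tt, h.ss, h.t1, h.s1, h.ts, h.comm, h.n8⟩

theorem t_mem_Vf : t ∈ Vf t s := subset_closure (by simp)
theorem s_mem_Vf : s ∈ Vf t s := subset_closure (by simp)
theorem ts_mem_Vf : t * s ∈ Vf t s := mul_mem t_mem_Vf s_mem_Vf

theorem Vf_le {M : Subgroup G} : Vf t s ≤ M ↔ t ∈ M ∧ s ∈ M := by
  rw [Vf, closure_le]; simp [Set.insert_subset_iff]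

theorem mem_centralizer_Vf {g : G} :
    g ∈ centralizer (Vf t s : Set G) ↔ t * g = g * t ∧ s * g = g * s := by
  rw [Vf, centralizer_closure, mem_centralizer_iff]; simp

theorem mem_C {x g : G} : g ∈ centralizer ({x} : Set G) ↔ x * g = g * x := by
  rw [mem_centralizer_singleton_iff, eq_comm]

theorem centralizer_Vf : centralizer (Vf t s : Set G) = centralizer {t} ⊓ centralizer {s} := by
  ext g; rw [mem_centralizer_Vf, mem_inf, mem_C, mem_C]

theorem map_Vf {X : Type*} [Group X] (f : G →* X) : (Vf t s).map f = Vf (f t) (f s) := by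
  rw [Vf, Vf, MonoidHom.map_closure, Set.image_pair]

namespace K4

theorem tinv (h : K4 t s) : t⁻¹ = t := inv_eq_of_mul_eq_one_right h.tt
theorem sinv (h : K4 t s) : s⁻¹ = s := inv_eq_of_mul_eq_one_right h.ss
theorem t_ts (h : K4 t s) : t * (t * s) = s := by rw [← mul_assoc, h.tt, one_mul]
theorem s_ts (h : K4 t s) : s * (t * s) = t := by rw [h.comm, ← mul_assoc, h.ss, one_mul]
theorem ts_s (h : K4 t s) : t * s * s = t := by rw [mul_assoc, h.ss, mul_one]
theorem ts_t (h : K4 t s) : t * s * t = s := by rw [mul_assoc, ← h.comm, h.t_ts]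
theorem tsts (h : K4 t s) : t * s * (t * s) = 1 := by rw [mul_assoc, h.s_ts, h.tt]
theorem ts1 (h : K4 t s) : t * s ≠ 1 := fun e => h.ts (by rw [← h.ts_s, e, one_mul])
theorem ts_ne_t (h : K4 t s) : t * s ≠ t := fun e => h.s1 (by simpa using e)
theorem ts_ne_s (h : K4 t s) : t * s ≠ s := fun e => h.t1 (by simpa using e)

theorem rot (h : K4 t s) : K4 s (t * s) :=
  ⟨h.ss, h.tsts, h.s1, h.ts1, h.ts_ne_s.symm, by rw [h.s_ts, h.ts_s], h.n8⟩

theorem symm (h : K4 t s) : K4 s t := ⟨h.ss, h.tt, h.s1, h.t1, h.ts.symm, h.comm.symm, h.n8⟩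

theorem Vf_rot (h : K4 t s) : Vf s (t * s) = Vf t s :=
  le_antisymm (Vf_le.mpr ⟨s_mem_Vf, ts_mem_Vf⟩)
    (Vf_le.mpr ⟨by simpa only [h.s_ts] using ts_mem_Vf (t := s) (s := t * s), t_mem_Vf⟩)

theorem Vf_rot2 (h : K4 t s) : Vf (t * s) t = Vf t s := by
  rw [← h.Vf_rot, ← h.rot.Vf_rot, h.s_ts]

theorem rot2 (h : K4 t s) : K4 (t * s) t := by simpa only [h.s_ts] using h.rot.rot

theorem mem_Vf (h : K4 t s) {x : G} : x ∈ Vf t s ↔ x = 1 ∨ x = t ∨ x = s ∨ x = t * s := by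
  refine ⟨fun hx => ?_, ?_⟩
  · induction hx using closure_induction_left with
    | one => exact Or.inl rfl
    | mul_left a ha y _ ih =>
      rcases ha with rfl | rfl <;> rcases ih with rfl | rfl | rfl | rfl <;>
        simp [h.tt, h.ss, h.t_ts, h.s_ts, ← h.comm]
    | inv_mul_cancel a ha y _ ih =>
      rcases ha with rfl | rfl <;> rcases ih with rfl | rfl | rfl | rfl <;>
        simp [h.tt, h.ss, h.t_ts, h.s_ts, ← h.comm, h.tinv, h.sinv]
  · rintro (rfl | rfl | rfl | rfl)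
    exacts [one_mem _, t_mem_Vf, s_mem_Vf, ts_mem_Vf]

theorem card_Vf (h : K4 t s) : Nat.card (Vf t s) = 4 := by
  have h1 : (Vf t s : Set G) = {1, t, s, t * s} := by ext x; simp [h.mem_Vf]
  rw [← SetLike.coe_sort_coe, h1, Nat.card_coe_set_eq]
  rw [Set.ncard_insert_of_notMem (by simp [h.t1.symm, h.s1.symm, h.ts1.symm]),
    Set.ncard_insert_of_notMem (by simp [h.ts, h.s1]),
    Set.ncard_pair h.ts_ne_s.symm]

theorem two (h : K4 t s) : IsPGroup 2 (Vf t s) := IsPGroup.of_card (n := 2) h.card_Vf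

theorem le_centralizer (h : K4 t s) : Vf t s ≤ centralizer (Vf t s : Set G) :=
  Vf_le.mpr ⟨mem_centralizer_Vf.mpr ⟨rfl, h.comm.symm⟩, mem_centralizer_Vf.mpr ⟨h.comm, rfl⟩⟩

theorem isMulCommutative (h : K4 t s) : IsMulCommutative (Vf t s) :=
  ⟨⟨fun a b => Subtype.ext (mem_centralizer_iff.mp (h.le_centralizer b.2) a a.2)⟩⟩

theorem Vf_le_C (h : K4 t s) : Vf t s ≤ centralizer {t} :=
  Vf_le.mpr ⟨mem_C.mpr rfl, mem_C.mpr h.comm⟩

theorem cent_le_C : centralizer (Vf t s : Set G) ≤ centralizer {t} :=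
  fun _ hg => mem_C.mpr (mem_centralizer_Vf.mp hg).1

theorem sq (h : K4 t s) {x : G} (hx : x ∈ Vf t s) : x * x = 1 := by
  rcases h.mem_Vf.mp hx with rfl | rfl | rfl | rfl
  exacts [one_mul _, h.tt, h.ss, h.tsts]

theorem not_cyc (h : K4 t s) : ¬ IsCyclic (Vf t s) := by
  intro hc
  have h1 := hc.exponent_eq_card
  rw [h.card_Vf] at h1
  have h2 : Monoid.exponent (Vf t s) ∣ 2 :=
    Monoid.exponent_dvd_of_forall_pow_eq_one fun x => Subtype.ext (by
      rw [Subgroup.coe_pow, pow_two, h.sq x.2, Subgroup.coe_one])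
  rw [h1] at h2
  omega

theorem mem_normalizer [Finite G] (h : K4 t s) {g : G} (h1 : g * t * g⁻¹ ∈ Vf t s)
    (h2 : g * s * g⁻¹ ∈ Vf t s) : g ∈ normalizer (Vf t s : Set G) :=
  mem_normalizer_of_conj_mem fun x hx => by
    rcases h.mem_Vf.mp hx with rfl | rfl | rfl | rfl
    · simp
    · exact h1
    · exact h2
    · simpa [mul_assoc] using mul_mem h1 h2

theorem subtype (h : K4 t s) {L : Subgroup G} (ht : t ∈ L) (hs : s ∈ L) :
    K4 (⟨t, ht⟩ : L) ⟨s, hs⟩ :=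
  ⟨Subtype.ext h.tt, Subtype.ext h.ss, fun e => h.t1 (congrArg Subtype.val e),
    fun e => h.s1 (congrArg Subtype.val e), fun e => h.ts (congrArg Subtype.val e),
    Subtype.ext h.comm, fun e => h.n8 (e.trans L.card_subgroup_dvd_card)⟩

theorem map {X : Type*} [Group X] (h : K4 t s) (f : G →* X) (hf : Function.Surjective f)
    (hk : ¬ 2 ∣ Nat.card f.ker) : K4 (f t) (f s) := by
  have key : ∀ x ∈ Vf t s, f x = 1 → x = 1 := fun x hx e =>
    mem_bot.mp ((inf_eq_bot_of_isPGroup_of_not_dvd h.two hk).le ⟨hx, e⟩)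
  refine ⟨by rw [← map_mul, h.tt, map_one], by rw [← map_mul, h.ss, map_one],
    fun e => h.t1 (key _ t_mem_Vf e), fun e => h.s1 (key _ s_mem_Vf e),
    fun e => h.ts1 (key _ ts_mem_Vf (by rw [map_mul, e, ← map_mul, h.ss, map_one])),
    by rw [← map_mul, h.comm, map_mul], fun e => h.n8 (e.trans ?_)⟩
  exact Subgroup.card_dvd_of_surjective f hf

variable [Finite G]

theorem syl (h : K4 t s) {M : Subgroup G} (hM : Vf t s ≤ M) : IsSyl 2 (Vf t s) M := by
  refine ⟨hM, h.two, fun hd => h.n8 ?_⟩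
  have h1 := card_mul_relIndex hM
  rw [h.card_Vf] at h1
  obtain ⟨k, hk⟩ := hd
  exact (show 8 ∣ Nat.card M from ⟨k, by rw [← h1, hk]; ring⟩).trans M.card_subgroup_dvd_card

theorem coprimeAct (h : K4 t s) {X : Subgroup G} (hX : Vf t s ≤ normalizer (X : Set G))
    (ho : ¬ 2 ∣ Nat.card X) : CoprimeAct (Vf t s) X := coprimeAct_of_isPGroup_left h.two ho hX

theorem gen (h : K4 t s) {X W : Subgroup G} (hX : Vf t s ≤ normalizer (X : Set G))
    (ho : ¬ 2 ∣ Nat.card X) (h1 : X ⊓ centralizer {t} ≤ W) (h2 : X ⊓ centralizer {s} ≤ W)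
    (h3 : X ⊓ centralizer {t * s} ≤ W) : X ≤ W :=
  le_of_centralizers h.isMulCommutative h.not_cyc hX (h.coprimeAct hX ho).coprime fun a ha a1 => by
    rcases h.mem_Vf.mp ha with rfl | rfl | rfl | rfl
    exacts [absurd rfl a1, h1, h2, h3]

theorem norm_cases (h : K4 t s) {g : G} (hg : g ∈ normalizer (Vf t s : Set G)) :
    g ∈ centralizer (Vf t s : Set G) ∨ (g * t * g⁻¹ = s ∧ g * s * g⁻¹ = t * s) ∨
      (g * t * g⁻¹ = t * s ∧ g * s * g⁻¹ = t) := by
  obtain ⟨P, hP⟩ := (h.syl le_top).exists_sylow_top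
  have key : ∀ a ∈ Vf t s, g * (g * a * g⁻¹) * g⁻¹ = a → g * a * g⁻¹ = a := fun a ha e => by
    have := Invol.commute_of_commute_sq_of_normalizer P (n := g) (a := a)
      (by rw [hP]; exact fun a ha b hb => mem_centralizer_iff.mp (h.le_centralizer hb) a ha)
      (by rw [← hP] at hg; exact hg) (by rw [hP]; exact ha)
      (by rw [Commute, SemiconjBy, pow_two]; nth_rw 2 [← e]; group)
    rw [this.eq, mul_inv_cancel_right]
  have ha := h.mem_Vf.mp (conj_mem_of_mem_normalizer hg (t_mem_Vf (t := t) (s := s)))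
  have hb := h.mem_Vf.mp (conj_mem_of_mem_normalizer hg (s_mem_Vf (t := t) (s := s)))
  have hab : g * t * g⁻¹ ≠ g * s * g⁻¹ := fun e => h.ts (by simpa using e)
  have hm : g * (t * s) * g⁻¹ = g * t * g⁻¹ * (g * s * g⁻¹) := by group
  rcases ha with ha | ha | ha | ha
  · exact absurd (by simpa using ha) h.t1
  all_goals rcases hb with hb | hb | hb | hb
  all_goals first
    | exact absurd (by simpa using hb) h.s1
    | exact absurd (ha.trans hb.symm) hab
    | exact Or.inr (Or.inl ⟨ha, hb⟩)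
    | exact Or.inr (Or.inr ⟨ha, hb⟩)
    | skip
  · exact Or.inl (mem_centralizer_Vf.mpr ⟨(mul_inv_eq_iff_eq_mul.mp ha).symm,
      (mul_inv_eq_iff_eq_mul.mp hb).symm⟩)
  · exact absurd (hb.symm.trans (key s s_mem_Vf (by rw [hb, hm, ha, hb, h.t_ts]))) h.ts_ne_s
  · exact absurd (ha.symm.trans (key t t_mem_Vf (by rw [ha, hb]))) h.ts.symm
  · exact absurd (ha.symm.trans (key t t_mem_Vf (by rw [ha, hm, ha, hb, h.ts_s]))) h.ts_ne_t

theorem inv_cycle (h : K4 t s) {g : G} (h1 : g * t * g⁻¹ = t * s) (h2 : g * s * g⁻¹ = t) :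
    g⁻¹ * t * g⁻¹⁻¹ = s ∧ g⁻¹ * s * g⁻¹⁻¹ = t * s := by
  refine ⟨by rw [← h2]; group, ?_⟩
  have : g * (t * s) * g⁻¹ = s := by
    rw [show g * (t * s) * g⁻¹ = g * t * g⁻¹ * (g * s * g⁻¹) by group, h1, h2, h.ts_t]
  nth_rw 1 [← this]; group

/-- either `M = O(M) V` or an element of `M` permutes the involutions of `V` cyclically -/
theorem sup_or_cycle (h : K4 t s) {M : Subgroup G} (hM : Vf t s ≤ M) :
    OppOf 2 M ⊔ Vf t s = M ∨ ∃ w ∈ M, w * t * w⁻¹ = s ∧ w * s * w⁻¹ = t * s := by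
  by_cases hc : M ⊓ normalizer (Vf t s : Set G) ≤ centralizer (Vf t s : Set G)
  · exact Or.inl (burnside_sup (h.syl hM) hc)
  obtain ⟨g, ⟨hg, hn⟩, hc⟩ := SetLike.not_le_iff_exists.mp hc
  rcases h.norm_cases hn with h1 | h1 | h1
  · exact absurd h1 hc
  · exact Or.inr ⟨g, hg, h1⟩
  · exact Or.inr ⟨g⁻¹, inv_mem hg, h.inv_cycle h1.1 h1.2⟩

theorem cent_eq (h : K4 t s) : OppOf 2 (centralizer {t}) ⊔ Vf t s = centralizer {t} :=
  (h.sup_or_cycle h.Vf_le_C).resolve_right fun ⟨g, hg, h1, _⟩ =>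
    h.ts (by rw [← h1, ← mem_C.mp hg, mul_inv_cancel_right])

end K4

theorem V4.rot (h : V4 t s w) : V4 s (t * s) w :=
  { h.k4.rot with
    simple := h.simple
    wt := h.ws
    ws := by
      rw [show w * (t * s) * w⁻¹ = w * t * w⁻¹ * (w * s * w⁻¹) by group, h.wt, h.ws] }

theorem V4.rot2 (h : V4 t s w) : V4 (t * s) t w := by simpa only [h.k4.s_ts] using h.rot.rot

theorem V4.w_norm [Finite G] (h : V4 t s w) : w ∈ normalizer (Vf t s : Set G) :=
  h.k4.mem_normalizer (h.wt ▸ s_mem_Vf) (h.ws ▸ ts_mem_Vf)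

theorem K4.v4 (h : K4 t s) (hs : IsSimpleGroup G) (h1 : w * t * w⁻¹ = s)
    (h2 : w * s * w⁻¹ = t * s) : V4 t s w := { h with simple := hs, wt := h1, ws := h2 }

variable [Finite G]

theorem le_O_of_odd {S M X : Subgroup G} (hS : IsPGroup 2 S) (hSM : S ≤ M)
    (h : OppOf 2 M ⊔ S = M) (hX : X ≤ M) (ho : ¬ 2 ∣ Nat.card X) : X ≤ OppOf 2 M := by
  intro x hx
  refine mem_of_coprime_relIndex (le_normalizer_OppOf le_normalizer) (hX hx) ?_
  have h1 : (OppOf 2 M).relIndex M = (OppOf 2 M).relIndex S := by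
    nth_rw 2 [← h]
    rw [sup_comm, relIndex_sup_of_le_normalizer (le_normalizer_OppOf (hSM.trans le_normalizer))]
  obtain ⟨k, hk⟩ := IsPGroup.iff_card.mp hS
  rw [h1]
  refine Nat.Coprime.coprime_dvd_right (relIndex_dvd_card _ _) ?_
  rw [hk]
  exact (coprime_iff_not_dvd.mpr fun e => ho (e.trans (orderOf_dvd_natCard X hx))).pow_right _

theorem solv_of_odd {X : Subgroup G} (h : ¬ 2 ∣ Nat.card X) : Group.IsSolvable X :=
  FT.feit_thompson X (Nat.odd_iff.mpr (by omega))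

theorem solv_O (M : Subgroup G) : Group.IsSolvable (OppOf 2 M) := solv_of_odd (OppOf_not_dvd M)

theorem solv_of_sup {S M : Subgroup G} (hS : Group.IsSolvable S) (hSM : S ≤ M)
    (h : OppOf 2 M ⊔ S = M) : Group.IsSolvable M := by
  rw [← h, sup_comm]
  exact isSolvable_sup hS (solv_O M) (le_normalizer_OppOf (hSM.trans le_normalizer))

theorem eq_of_card_le_two {S : Subgroup G} (h : Nat.card S ≤ 2) {x y : G} (hx : x ∈ S)
    (hy : y ∈ S) (x1 : x ≠ 1) (y1 : y ≠ 1) : x = y := by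
  by_contra hxy
  have h1 : ({1, x, y} : Set G).ncard ≤ (S : Set G).ncard :=
    Set.ncard_le_ncard (by simp [Set.insert_subset_iff, hx, hy]) (Set.toFinite _)
  rw [Set.ncard_eq_three.mpr ⟨1, x, y, x1.symm, y1.symm, hxy, rfl⟩, ← Nat.card_coe_set_eq,
    SetLike.coe_sort_coe] at h1
  omega

theorem sup_of_card_le_two {S X : Subgroup G} (hS : IsSyl 2 S X) (h : Nat.card S ≤ 2) :
    OppOf 2 X ⊔ S = X :=
  burnside_sup hS fun g hg => mem_centralizer_iff.mpr fun x hx => by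
    by_cases x1 : x = 1
    · simp [x1]
    have := eq_of_card_le_two h hx (conj_mem_of_mem_normalizer hg.2 hx) x1 (by simpa using x1)
    exact mul_inv_eq_iff_eq_mul.mp this.symm |>.symm

theorem solv_of_not_four {X : Subgroup G} (h : ¬ 4 ∣ Nat.card X) :
    Group.IsSolvable X ∧ ∃ S : Subgroup G, IsPGroup 2 S ∧ S ≤ X ∧ OppOf 2 X ⊔ S = X := by
  obtain ⟨S, hS⟩ := exists_isSyl 2 X
  obtain ⟨k, hk⟩ := IsPGroup.iff_card.mp hS.isPGroup
  have h1 : Nat.card S ≤ 2 := by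
    rw [hk]
    rcases k with _ | _ | k
    · norm_num
    · norm_num
    · exact absurd ((show 4 ∣ Nat.card S from ⟨2 ^ k, by rw [hk]; ring⟩).trans
        (card_dvd_of_le hS.le)) h
  have h2 := sup_of_card_le_two hS h1
  exact ⟨solv_of_sup (isSolvable_of_isPGroup hS.isPGroup) hS.le h2, S, hS.isPGroup, hS.le, h2⟩

namespace K4

theorem solv_cent (h : K4 t s) : Group.IsSolvable (centralizer ({t} : Set G)) :=
  solv_of_sup (isSolvable_of_isPGroup h.two) h.Vf_le_C h.cent_eq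

theorem le_U (h : K4 t s) {X : Subgroup G} (hX : X ≤ centralizer {t}) (ho : ¬ 2 ∣ Nat.card X) :
    X ≤ OppOf 2 (centralizer {t}) := le_O_of_odd h.two h.Vf_le_C h.cent_eq hX ho

theorem exists_cycle (h : K4 t s) {M : Subgroup G} (hM : Vf t s ≤ M)
    (hs : ¬ Group.IsSolvable M) : ∃ w ∈ M, w * t * w⁻¹ = s ∧ w * s * w⁻¹ = t * s :=
  (h.sup_or_cycle hM).resolve_left fun e =>
    hs (solv_of_sup (isSolvable_of_isPGroup h.two) hM e)

theorem le_of_four (h : K4 t s) {M N : Subgroup G} (hM : Vf t s ≤ M) (hN : Subn M N)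
    (h4 : 4 ∣ Nat.card N) : Vf t s ≤ N := by
  have h1 := (h.syl hM).inf_subn hN
  obtain ⟨R, hR⟩ := Sylow.exists_subgroup_card_pow_prime (G := N) 2 (n := 2) h4
  have h2 := h1.card_le (Q := R.map N.subtype) ((IsPGroup.of_card hR).map _) (map_subtype_le _)
  rw [card_map_subtype, hR] at h2
  exact inf_eq_left.mp (eq_of_le_of_card_ge inf_le_left (by rw [h.card_Vf]; exact h2))

theorem le_of_nsolv (h : K4 t s) {M N : Subgroup G} (hM : Vf t s ≤ M) (hN : Subn M N)
    (hs : ¬ Group.IsSolvable N) : Vf t s ≤ N :=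
  h.le_of_four hM hN (by_contra fun e => hs (solv_of_not_four e).1)

theorem solv_norm (h : K4 t s) : Group.IsSolvable (normalizer (Vf t s : Set G)) := by
  have h1 := h.syl (le_normalizer (H := Vf t s))
  obtain ⟨K, -, -, h2, h3⟩ := exists_complement h1.le le_rfl (by
    rw [h.card_Vf]
    exact (coprime_iff_not_dvd.mpr h1.not_dvd).symm.pow_left 2)
  rw [← h2]
  exact isSolvable_sup (solv_of_odd (h3 ▸ h1.not_dvd)) (isSolvable_of_isPGroup h.two)
    (le_sup_left.trans h2.le)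

end K4

end Cfsg.Agent.Lib.AG
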