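/-
A-groups project (S2554): simple A-groups with a strongly embedded subgroup.
-/
import Cfsg.Agent.Lib.AG.Basic
import Cfsg.Agent.BS.Ben.P0

set_option autoImplicit false

namespace Cfsg.Agent.Lib.AG

open Subgroup Cfsg.Agent.Lib.Core

variable {G : Type*} [Group G]

/-- the structure of `L₂(2ⁿ)` around a Sylow 2-subgroup `T`, `N(T) = T D` -/
structure TAD (T D : Subgroup G) (j : G) : Prop where
  simple : IsSimpleGroup G
  syl : IsSyl 2 T ⊤
  sq : ∀ x ∈ T, x * x = 1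
  four : 4 ≤ Nat.card T
  cent : ∀ x ∈ T, x ≠ 1 → centralizer ({x} : Set G) = T
  norm : T ⊔ D = normalizer (T : Set G)
  odd : Odd (Nat.card D)
  cyc : IsCyclic D
  trans : ∀ x ∈ T, ∀ y ∈ T, x ≠ 1 → y ≠ 1 → ∃ d ∈ D, d * x * d⁻¹ = y
  reg : ∀ d ∈ D, ∀ x ∈ T, x ≠ 1 → d * x = x * d → d = 1
  cardD : Nat.card D + 1 = Nat.card T
  cardG : Nat.card G = Nat.card T * (Nat.card T ^ 2 - 1)
  ti : ∀ g : G, ∀ x ∈ T, x ≠ 1 → g * x * g⁻¹ ∈ normalizer (T : Set G) → g ∈ normalizer (T : Set G)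
  jj : j * j = 1
  jN : j ∉ normalizer (T : Set G)
  jD : ∀ d ∈ D, j * d * j = d⁻¹
  cell : ∀ g : G, g ∉ normalizer (T : Set G) → ∃ u ∈ T, ∃ d ∈ D, ∃ v ∈ T, g = u * d * j * v
  iso : ∃ (F : Type) (_ : Field F) (_ : Fintype F), CharP F 2 ∧ Fintype.card F = Nat.card T ∧
    Nonempty (G ≃* Matrix.ProjectiveSpecialLinearGroup (Fin 2) F)

variable [Finite G]

theorem se_conj {H : Subgroup G} (hH : Cfsg.IsStronglyEmbedded H) (g : G) :
    Cfsg.IsStronglyEmbedded (H.map (MulAut.conj g).toMonoidHom) := by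
  obtain ⟨h1, h2, h3⟩ := Invol.isStronglyEmbedded_iff.mp hH
  refine Invol.isStronglyEmbedded_iff.mpr ⟨fun e => h1 ?_, by rwa [card_map_conj], ?_⟩
  · rw [← map_conj_inv_map_conj H g, e]
    exact map_top_of_surjective _ (MulAut.conj g⁻¹).surjective
  · intro a t ht h2 hat
    rw [mem_map_conj] at *
    refine h3 _ _ ht ?_ (by simpa [mul_assoc] using hat)
    rw [← h2, ← (MulAut.conj g⁻¹).orderOf_eq t]; simp

theorem TA.exists_dat0 (hA : AG G) [IsSimpleGroup G] (hna : ∃ a b : G, a * b ≠ b * a)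
    {H : Subgroup G} (hH : Cfsg.IsStronglyEmbedded H) :
    ∃ (T D : Subgroup G) (j : G), TAD T D j ∧ normalizer (T : Set G) = H := by
  obtain ⟨Q, D, t, s, r, h, c, e⟩ := BS.bender_simple hna hH
  have hc := hA.isMulCommutative c.two
  have c2 := (c.cases.resolve_right fun c => c.elim (fun c => c.nonab hc) fun c => c.nonab hc)
  have hD : D = BS.KK D t := by rw [← c2.infD, e, top_inf_eq]
  have hQ0 : BS.Q0 Q = Q := c2.eq.symm
  have hsq : ∀ x ∈ Q, x * x = 1 := fun x hx => ((h.mem_Q0 h.rank).mp (hQ0.ge hx)).2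
  have h4 : 4 ≤ Nat.card Q := hQ0 ▸ h.four_le h.rank
  have hQ1 : Q ≠ ⊥ := fun e => by rw [e, card_bot] at h4; omega
  have hN : normalizer (Q : Set G) = H := le_antisymm (h.norm_le le_rfl hQ1) h.sdp.nrm.norm
  have hinv : ∀ d ∈ D, t * d * t⁻¹ = d⁻¹ := fun d hd => (h.mem_KK.mp (hD.le hd)).2
  have hreg : ∀ d ∈ D, ∀ x ∈ Q, x ≠ 1 → d * x = x * d → d = 1 := fun d hd x hx x1 e =>
    by_contra fun d1 => x1 (h.fpf_K hd (hinv d hd) d1 hx e)
  have hcD : Nat.card D + 1 = Nat.card Q := by rw [← hQ0, ← h.card_KK, ← hD]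
  have hcG : Nat.card G = Nat.card Q * (Nat.card Q ^ 2 - 1) := by
    rw [← H.card_mul_index, h.index, ← h.sdp.card, ← hcD,
      show (Nat.card D + 1) ^ 2 - 1 = Nat.card D * (Nat.card D + 1 + 1) from
        Nat.sub_eq_of_eq_add (by ring)]
    ring
  have ord : ∀ x ∈ Q, x ≠ 1 → orderOf x = 2 := fun x hx x1 =>
    orderOf_eq_prime (by rw [pow_two, hsq x hx]) x1
  refine ⟨Q, D, t, ⟨‹_›, ⟨le_top, c.two, ?_⟩, hsq, h4, fun x hx x1 => le_antisymm (fun g hg => ?_)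
    (hA.le_centralizer_singleton c.two hx), by rw [hN, h.sdp.sup], h.oddD, hD ▸ h.cyclic_KK,
    fun x hx y hy x1 y1 => ?_, hreg, hcD, hcG, fun g x hx x1 hg => ?_, h.tsq, hN ▸ h.tH,
    fun d hd => by rw [← hinv d hd, h.tinv], fun g hg => h.canon (hN ▸ hg), ?_⟩, hN⟩
  · rw [relIndex_top_right, ← relIndex_mul_index h.QH, h.sdp.relIndex_left, h.index,
      ← even_iff_two_dvd, Nat.not_even_iff_odd]
    exact h.oddD.mul h.evenQ.add_one
  · obtain ⟨a, ha, d, hd, rfl⟩ := h.sdp.mem (h.C1_le hx x1 hg)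
    have h1 := mem_centralizer_singleton_iff.mp hg
    rw [mul_assoc, ← mul_assoc x, ← hA.comm c.two ha hx, mul_assoc, mul_left_cancel_iff] at h1
    rw [hreg d hd x hx x1 h1, mul_one]; exact ha
  · obtain ⟨k, ⟨hk, e⟩, -⟩ := h.exists_K hx hy (ord x hx x1) (ord y hy y1)
    exact ⟨k, hk.1, e⟩
  · rw [hN] at hg ⊢
    exact h.mem_of_conj hx x1 hg
  · obtain ⟨F, _, _, h1, h2, ⟨ψ⟩⟩ := c2.iso
    exact ⟨F, _, _, h1, hQ0 ▸ h2, ⟨((MulEquiv.subgroupCongr e).trans topEquiv).symm.trans ψ⟩⟩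

/-- the data at any Sylow 2-subgroup -/
theorem TA.dat (hA : AG G) (h : TA G) {T : Subgroup G} (hT : IsSyl 2 T ⊤) : ∃ D j, TAD T D j := by
  obtain ⟨_, hna, H, hH⟩ := h
  obtain ⟨Q, D0, j0, h1, rfl⟩ := TA.exists_dat0 hA hna hH
  obtain ⟨g, -, rfl⟩ := h1.syl.exists_conj hT
  obtain ⟨Q', D, j, h2, h3⟩ := TA.exists_dat0 hA hna (se_conj hH g)
  rw [map_conj_normalizer] at h3
  have h4 : Q' = Q.map (MulAut.conj g).toMonoidHom :=
    (h2.syl.eq_of_le hT.isPGroup (hT.le_of_le_normalizer' h2.syl.isPGroup le_top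
      (h3 ▸ le_normalizer)) le_top).symm
  exact ⟨D, j, h4 ▸ h2⟩

namespace TAD

variable {T D : Subgroup G} {j : G}

omit [Finite G] in
theorem DN (h : TAD T D j) : D ≤ normalizer (T : Set G) := le_sup_right.trans h.norm.le

omit [Finite G] in
theorem commD (h : TAD T D j) : ∀ d ∈ D, ∀ e ∈ D, d * e = e * d := fun d hd e he =>
  haveI := h.cyc
  congrArg Subtype.val (IsCyclic.commutative.is_comm.comm (⟨d, hd⟩ : D) ⟨e, he⟩)

omit [Finite G] in
theorem ne_bot (h : TAD T D j) : T ≠ ⊥ := fun e => by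
  have := h.four
  rw [e, card_bot] at this; omega

omit [Finite G] in
theorem centT (h : TAD T D j) : centralizer (T : Set G) = T := by
  obtain ⟨⟨x, hx⟩, x1⟩ := ne_bot_iff_exists_ne_one.mp h.ne_bot
  refine le_antisymm (fun g hg => (h.cent x hx fun e => x1 (Subtype.ext e)).le
    (mem_centralizer_singleton_iff.mpr (mem_centralizer_iff.mp hg x hx).symm)) fun y hy =>
    mem_centralizer_iff.mpr fun z hz => ?_
  by_cases z1 : z = 1
  · simp [z1]
  · exact (mem_centralizer_singleton_iff.mp ((h.cent z hz z1).ge hy)).symm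

theorem aut_two (h : TAD T D j) (α : MulAut G) (hα : ∀ x ∈ T, α x = x) : α ^ 2 = 1 := by
  set H := normalizer (T : Set G) with hH
  have pres : ∀ β : MulAut G, (∀ x ∈ T, β x = x) → ∀ g ∈ H, β g ∈ H := fun β hβ g hg =>
    mem_normalizer_of_conj_mem fun x hx => by
      rw [← hβ x hx, ← map_inv, ← map_mul, ← map_mul, hβ _ (conj_mem_of_mem_normalizer hg hx)]
      exact conj_mem_of_mem_normalizer hg hx
  have TH : T ≤ H := le_normalizer
  have jinv : j⁻¹ = j := inv_eq_of_mul_eq_one_right h.jj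
  have cell : ∀ g, g ∉ H → ∃ u ∈ T, ∃ a ∈ H, g = u * j * a := fun g hg => by
    obtain ⟨u, hu, d, hd, v, hv, rfl⟩ := h.cell g hg
    refine ⟨u, hu, d⁻¹ * v, mul_mem (inv_mem (h.DN hd)) (TH hv), ?_⟩
    rw [← h.jD d hd, show u * j * (j * d * j * v) = u * (j * j) * d * j * v by group, h.jj, mul_one]
  have h1 : α j ∉ H := fun e => h.jN (by
    simpa using pres α⁻¹ (fun x hx => by rw [MulAut.inv_apply, MulEquiv.symm_apply_eq, hα x hx]) _ e)
  obtain ⟨u, hu, a, ha, e⟩ := cell _ h1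
  have hβ : ∀ x ∈ T, (α ^ 2) x = x := fun x hx => by rw [pow_two, MulAut.mul_apply, hα x hx, hα x hx]
  have h2 : j⁻¹ * (α ^ 2) j ∈ H := by
    rw [pow_two, MulAut.mul_apply, e, map_mul, map_mul, hα u hu, e,
      show j⁻¹ * (u * (u * j * a) * α a) = j⁻¹ * (u * u) * j * (a * α a) by group, h.sq u hu]
    simpa using mul_mem ha (pres α hα a ha)
  set β := α ^ 2
  have h3 : ∀ g, g⁻¹ * β g ∈ H := fun g => by
    by_cases hg : g ∈ H
    · exact mul_mem (inv_mem hg) (pres β hβ g hg)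
    obtain ⟨u, hu, a, ha, rfl⟩ := cell g hg
    rw [map_mul, map_mul, hβ u hu,
      show (u * j * a)⁻¹ * (u * β j * β a) = a⁻¹ * (j⁻¹ * β j) * β a by group]
    exact mul_mem (mul_mem (inv_mem ha) h2) (pres β hβ a ha)
  haveI := h.simple
  have h4 : H.normalCore = ⊥ := H.normalCore_normal.eq_bot_or_eq_top.resolve_right fun e =>
    h.jN (H.normalCore_le (e.ge (mem_top j)))
  ext g
  have h5 : g⁻¹ * β g ∈ H.normalCore := fun a => by
    have := mul_mem (h3 (g * a⁻¹)) (inv_mem (h3 a⁻¹))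
    rw [map_mul] at this
    simpa [mul_assoc] using this
  rw [h4, mem_bot, inv_mul_eq_one] at h5
  exact h5.symm

/-- an automorphism of odd order centralising `T` is trivial -/
theorem aut (h : TAD T D j) (α : MulAut G) (hα : ∀ x ∈ T, α x = x) (ho : Odd (orderOf α)) :
    α = 1 := by
  have h1 := orderOf_dvd_of_pow_eq_one (h.aut_two α hα)
  rcases (Nat.dvd_prime Nat.prime_two).mp h1 with e | e
  · exact orderOf_eq_one_iff.mp e
  · rw [e] at ho; exact absurd ho (by decide)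

end TAD

/-- centralisers of involutions are Sylow 2-subgroups -/
theorem TA.cent (hA : AG G) (h : TA G) {t : G} (ht : t * t = 1) (h1 : t ≠ 1) :
    IsSyl 2 (centralizer {t}) ⊤ ∧ ∀ x ∈ centralizer ({t} : Set G), x * x = 1 := by
  obtain ⟨T, hT, ht'⟩ := exists_isSyl_ge (H := ⊤)
    (isPGroup_zpowers (p := 2) (k := 1) (x := t) (by simpa [pow_two] using ht)) le_top
  obtain ⟨D, j, h⟩ := h.dat hA hT
  rw [h.cent t (ht' (mem_zpowers t)) h1]
  exact ⟨hT, h.sq⟩

theorem TA.iso (hA : AG G) (h : TA G) : ∃ (F : Type) (_ : Field F) (_ : Fintype F), CharP F 2 ∧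
    4 ≤ Fintype.card F ∧ Nat.card G = Fintype.card F * (Fintype.card F ^ 2 - 1) ∧
    Nonempty (G ≃* Matrix.ProjectiveSpecialLinearGroup (Fin 2) F) := by
  obtain ⟨T, hT⟩ := exists_isSyl 2 (⊤ : Subgroup G)
  obtain ⟨D, j, h⟩ := h.dat hA hT
  obtain ⟨F, _, _, h1, h2, h3⟩ := h.iso
  exact ⟨F, _, _, h1, h2 ▸ h.four, h2 ▸ h.cardG, h3⟩

/-- in-group form of `TAD.aut` -/
theorem TA.le_centralizer (hA : AG G) {L T X : Subgroup G} (h : TA L) (hT : IsSyl 2 T L)
    (hX : ¬ 2 ∣ Nat.card X) (hXL : X ≤ normalizer (L : Set G))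
    (hc : X ≤ centralizer (T : Set G)) : X ≤ centralizer (L : Set G) := by
  intro x hx
  have h1 := hT.subgroupOf le_rfl
  rw [subgroupOf_self] at h1
  obtain ⟨D, j, h2⟩ := h.dat (hA.subgroup L) h1
  have h3 := h2.aut (L.normalizerMonoidHom ⟨x, hXL hx⟩) (fun y hy => Subtype.ext (by
    have := mem_centralizer_iff.mp (hc hx) y hy
    change x * y * x⁻¹ = y
    rw [← this, mul_inv_cancel_right])) (by
    refine Odd.of_dvd_nat (Nat.odd_iff.mpr (by omega : Nat.card X % 2 = 1))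
      ((orderOf_map_dvd _ _).trans ?_)
    rw [← orderOf_coe]
    exact orderOf_dvd_natCard X hx)
  refine mem_centralizer_iff.mpr fun y hy => ?_
  have h5 := congrArg Subtype.val (DFunLike.congr_fun h3 ⟨y, hy⟩)
  have h4 : x * y * x⁻¹ = y := h5
  exact (mul_inv_eq_iff_eq_mul.mp h4).symm

end Cfsg.Agent.Lib.AG
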