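/-
A-groups project (S2554): a known simple group inside an A-group.
-/
import Cfsg.Agent.Lib.AG.Defs1
import Cfsg.Agent.Lib.AG.K4
import Cfsg.Agent.Lib.AG.TA
import Cfsg.Agent.Lib.Root.J1i

set_option autoImplicit false

namespace Cfsg.Agent.Lib.AG

open Subgroup Cfsg.Agent.Lib.Core Cfsg.Agent.Lib.Root

universe u

section gen
variable {G : Type*} [Group G]

theorem eq_one_of_sq {X : Subgroup G} (hX : ¬ 2 ∣ Nat.card X) {c : G} (hc : c ∈ X)
    (h : c * c = 1) : c = 1 := by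
  by_contra h1
  exact hX ((orderOf_eq_prime (p := 2) (by rw [pow_two, h]) h1) ▸ X.orderOf_dvd_natCard hc)

theorem mem_zpowers_sq {X : Subgroup G} (hX : ¬ 2 ∣ Nat.card X) {x : G} (hx : x ∈ X) :
    x ∈ zpowers (x * x) := by
  obtain ⟨k, hk⟩ : Odd (Nat.card X) := Nat.not_even_iff_odd.1 fun h => hX h.two_dvd
  have h1 : x ^ (2 * k + 1) = 1 := by
    rw [← hk]; exact orderOf_dvd_iff_pow_eq_one.1 (X.orderOf_dvd_natCard hx)
  refine ⟨(k + 1 : ℕ), ?_⟩
  change (x * x) ^ ((k + 1 : ℕ) : ℤ) = x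
  rw [zpow_natCast, ← pow_two, ← pow_mul, show 2 * (k + 1) = 2 * k + 1 + 1 by ring, pow_succ, h1,
    one_mul]

/-- an element of odd order whose square centralises `z` centralises `z` -/
theorem comm_of_sq {X : Subgroup G} (hX : ¬ 2 ∣ Nat.card X) {x z : G} (hx : x ∈ X)
    (h : x * x * z = z * (x * x)) : x * z = z * x :=
  (mem_C.1 ((zpowers_le.2 (mem_C.2 h.symm)) (mem_zpowers_sq hX hx))).symm

theorem comm_of_odd {X : Subgroup G} (hX : ¬ 2 ∣ Nat.card X) {x z c : G} (hx : x ∈ X)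
    (h : x * z * x⁻¹ = z * c) (h1 : c * c = 1) (h2 : x * c = c * x) : x * z = z * x := by
  refine comm_of_sq hX hx ?_
  have h3 : x * z = z * c * x := by rw [← h]; group
  calc x * x * z = x * (z * c * x) := by rw [mul_assoc, h3]
    _ = x * z * (c * x) := by group
    _ = z * c * (x * c) * x := by rw [h3]; group
    _ = z * (c * c) * (x * x) := by rw [h2]; group
    _ = _ := by rw [h1, mul_one]

/-- an involution centralising `[x, t]` for `x` in an odd group normalised by it -/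
theorem comm_of_inv {X : Subgroup G} (hX : ¬ 2 ∣ Nat.card X) {x t : G} (hx : x ∈ X)
    (ht : t * t = 1) (hn : t ∈ normalizer (X : Set G))
    (h : t * (x * t * x⁻¹ * t⁻¹) = x * t * x⁻¹ * t⁻¹ * t) : t * x = x * t := by
  have ti : t⁻¹ = t := inv_eq_of_mul_eq_one_right ht
  have h1 : x * t * x⁻¹ * t⁻¹ ∈ X := by
    have := mul_mem hx (conj_mem_of_mem_normalizer hn (inv_mem hx))
    simpa only [mul_assoc] using this
  have h2 : x * t * x⁻¹ * t⁻¹ * (x * t * x⁻¹ * t⁻¹) = 1 := by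
    calc x * t * x⁻¹ * t⁻¹ * (x * t * x⁻¹ * t⁻¹)
        = x * t * x⁻¹ * (t * (x * t * x⁻¹ * t⁻¹)) := by rw [ti]; group
      _ = x * (t * t) * x⁻¹ := by rw [h]; group
      _ = 1 := by rw [ht]; group
  have h3 := eq_one_of_sq hX h1 h2
  calc t * x = (x * t * x⁻¹ * t⁻¹)⁻¹ * (x * t) := by group
    _ = x * t := by rw [h3]; group

theorem conj_ne_bot {K : Subgroup G} (hK : K ≠ ⊥) (g : G) :
    K.map (MulAut.conj g).toMonoidHom ≠ ⊥ := fun e =>
  hK ((map_eq_bot_iff_of_injective K (f := (MulAut.conj g).toMonoidHom)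
    (MulAut.conj g).injective).1 e)

theorem trans_of_reg [Finite G] {T D : Subgroup G} (hn : D ≤ normalizer (T : Set G))
    (hc : Nat.card D + 1 = Nat.card T)
    (hr : ∀ d ∈ D, ∀ x ∈ T, x ≠ 1 → d * x = x * d → d = 1) :
    ∀ x ∈ T, ∀ y ∈ T, x ≠ 1 → y ≠ 1 → ∃ d ∈ D, d * x * d⁻¹ = y := by
  intro x hx y hy x1 y1
  have h1 := J1.card_eq_orbit_mul D x
  have h2 : D ⊓ centralizer ({x} : Set G) = ⊥ :=
    eq_bot_iff.2 fun d hd => hr d hd.1 x hx x1 (mem_C.1 hd.2).symm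
  rw [h2, card_bot, mul_one] at h1
  have h3 : {y | ∃ k ∈ D, k * x * k⁻¹ = y} = (T : Set G) \ {1} := by
    refine Set.eq_of_subset_of_ncard_le ?_ ?_
    · rintro _ ⟨k, hk, rfl⟩
      exact ⟨conj_mem_of_mem_normalizer (hn hk) hx, by simpa using x1⟩
    · rw [Set.ncard_diff_singleton_of_mem T.one_mem, ← J1.card_eq_ncard, ← h1]; omega
  exact h3.ge ⟨hy, y1⟩

end gen

section TB
variable {G : Type*} [Group G] {t s w : G} {K B : Subgroup G}

theorem V4.map_equiv {G' : Type*} [Group G'] (h : V4 t s w) (e : G ≃* G') :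
    V4 (e t) (e s) (e w) where
  simple := haveI := h.simple; e.symm.isSimpleGroup
  tt := by rw [← map_mul, h.tt, map_one]
  ss := by rw [← map_mul, h.ss, map_one]
  t1 := by simpa using h.t1
  s1 := by simpa using h.s1
  ts := by simpa using h.ts
  comm := by rw [← map_mul, h.comm, map_mul]
  n8 := by rw [← Nat.card_congr e.toEquiv]; exact h.n8
  wt := by rw [← map_inv, ← map_mul, ← map_mul, h.wt]
  ws := by rw [← map_inv, ← map_mul, ← map_mul, h.ws, map_mul]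

theorem VK.map_equiv {G' : Type*} [Group G'] (h : VK t s w K B) (e : G ≃* G') :
    VK (e t) (e s) (e w) (K.map e.toMonoidHom) (B.map e.toMonoidHom) where
  toV4 := h.toV4.map_equiv e
  Kodd := by rw [card_map_of_injective e.injective]; exact h.Kodd
  Bodd := by rw [card_map_of_injective e.injective]; exact h.Bodd
  Kt := by rintro _ ⟨x, hx, rfl⟩; simp [← map_mul, h.Kt x hx]
  Ks := by rintro _ ⟨x, hx, rfl⟩; simp [← map_mul, ← map_inv, h.Ks x hx]
  Bt := by rintro _ ⟨x, hx, rfl⟩; simp [← map_mul, h.Bt x hx]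
  Bs := by rintro _ ⟨x, hx, rfl⟩; simp [← map_mul, h.Bs x hx]
  BK := by
    rintro _ ⟨b, hb, rfl⟩ _ ⟨x, hx, rfl⟩
    exact ⟨_, h.BK b hb x hx, by simp⟩
  cent := by
    intro g hg
    obtain ⟨g, rfl⟩ := e.surjective g
    obtain ⟨x, hx, b, hb, h1⟩ := h.cent g (e.injective (by simpa using hg))
    refine ⟨e x, ⟨x, hx, rfl⟩, e b, ⟨b, hb, rfl⟩, ?_⟩
    simpa only [← map_mul, e.injective.eq_iff] using h1
  ti := by
    rintro _ ⟨x, hx, rfl⟩ x1 g hg
    obtain ⟨g, rfl⟩ := e.surjective g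
    have := h.ti x hx (fun e1 => x1 (by simp [e1])) g (e.injective (by simpa using hg))
    rw [← map_mul, this, map_mul]
  gen := by
    intro hK
    have := congrArg (Subgroup.map e.toMonoidHom) (h.gen fun e1 => hK (by simp [e1]))
    rw [Subgroup.map_sup, map_equiv_centralizer, MonoidHom.map_zpowers,
      map_top_of_surjective _ e.surjective] at this
    simpa using this

theorem VS.map_equiv {G' : Type*} [Group G'] (h : VS t s w K) (e : G ≃* G') :
    VS (e t) (e s) (e w) (K.map e.toMonoidHom) := by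
  have := VK.map_equiv h e
  rwa [Subgroup.map_bot] at this

theorem VS.conj (h : VS t s w K) (g : G) :
    VS (g * t * g⁻¹) (g * s * g⁻¹) (g * w * g⁻¹) (K.map (MulAut.conj g).toMonoidHom) :=
  h.map_equiv (MulAut.conj g)

theorem VK.K2 (h : VK t s w K B) : ¬ 2 ∣ Nat.card K := fun e =>
  (Nat.not_even_iff_odd.2 h.Kodd) (even_iff_two_dvd.2 e)

theorem VS.cases (h : VS t s w K) {g : G} (hg : t * g = g * t) :
    ∃ x ∈ K, g = x ∨ g = x * t ∨ g = x * s ∨ g = x * (t * s) := by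
  obtain ⟨x, hx, b, hb, h1⟩ := h.cent g hg
  rw [mem_bot] at hb
  subst hb
  exact ⟨x, hx, by simpa only [mul_one] using h1⟩

theorem VK.eq_one_of_s (h : VK t s w K B) {x : G} (hx : x ∈ K) (hs : s * x = x * s) : x = 1 := by
  refine eq_one_of_sq h.K2 hx ?_
  have := h.Ks x hx
  rw [hs, mul_assoc, h.ss, mul_one] at this
  exact mul_eq_one_iff_eq_inv.2 this

theorem VS.centV (h : VS t s w K) : centralizer (Vf t s : Set G) = Vf t s := by
  have k := h.toV4.k4
  refine le_antisymm (fun g hg => ?_) k.le_centralizer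
  obtain ⟨h1, h2⟩ := mem_centralizer_Vf.1 hg
  obtain ⟨x, hx, h3⟩ := h.cases h1
  have key : ∀ v ∈ Vf t s, g = x * v → g ∈ Vf t s := fun v hv e => by
    have h4 : s * v = v * s := (mem_centralizer_Vf.1 (k.le_centralizer hv)).2
    have : x = 1 := h.eq_one_of_s hx (by
      rw [e, ← mul_assoc, mul_assoc x, ← h4, ← mul_assoc] at h2
      exact mul_right_cancel h2)
    rwa [e, this, one_mul]
  rcases h3 with e | e | e | e
  · exact key 1 (one_mem _) (by rw [e, mul_one])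
  · exact key t t_mem_Vf e
  · exact key s s_mem_Vf e
  · exact key _ ts_mem_Vf e

theorem VS.odd_mem_K (h : VS t s w K) {X : Subgroup G} (hX : ¬ 2 ∣ Nat.card X) {g : G} (hg : g ∈ X)
    (ht : t * g = g * t) : g ∈ K := by
  have k := h.toV4.k4
  obtain ⟨x, hx, h3⟩ := h.cases ht
  have h1 : g * g ∈ K := by
    have a1 := h.Kt x hx
    have a2 : s * x = x⁻¹ * s := by rw [← h.Ks x hx, mul_assoc, h.ss, mul_one]
    rcases h3 with rfl | rfl | rfl | rfl
    · exact mul_mem hx hx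
    · have : x * t * (x * t) = x * x := by
        rw [mul_assoc, ← mul_assoc t, a1, mul_assoc x t, h.tt, mul_one]
      rw [this]; exact mul_mem hx hx
    · have : x * s * (x * s) = 1 := by
        rw [mul_assoc, ← mul_assoc s, a2, mul_assoc _ s, h.ss]; group
      rw [this]; exact one_mem _
    · have : x * (t * s) * (x * (t * s)) = 1 := by
        calc x * (t * s) * (x * (t * s)) = x * t * (s * x) * (t * s) := by group
          _ = x * (t * x⁻¹) * (s * (t * s)) := by rw [a2]; group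
          _ = x * (x⁻¹ * t) * t := by rw [k.s_ts, h.Kt _ (inv_mem hx)]
          _ = t * t := by group
          _ = 1 := h.tt
      rw [this]; exact one_mem _
  exact (zpowers_le.2 h1) (mem_zpowers_sq hX hg)

theorem VS.rot (h : VS t s w K) :
    VS s (t * s) w (K.map (MulAut.conj w).toMonoidHom) := by
  have := h.conj w
  rwa [h.wt, h.ws, mul_inv_cancel_right] at this

theorem VS.rot2 (h : VS t s w K) : ∃ K', VS (t * s) t w K' ∧ (K ≠ ⊥ → K' ≠ ⊥) := by
  have := h.rot.rot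
  rw [h.toV4.k4.s_ts] at this
  exact ⟨_, this, fun hK => conj_ne_bot (conj_ne_bot hK _) _⟩

variable [Finite G]

/-- every involution of a Sylow 2-subgroup can serve as `t` -/
theorem TB.dat (h : TB G) {T : Subgroup G} (hT : IsSyl 2 T ⊤) {t : G} (ht : t ∈ T) (h1 : t ≠ 1) :
    ∃ (s w : G) (K : Subgroup G), VS t s w K ∧ K ≠ ⊥ ∧ Vf t s = T := by
  obtain ⟨t0, s0, w0, K0, h, hK⟩ := h
  obtain ⟨g, -, hg⟩ := (h.toV4.k4.syl le_top).exists_conj hT
  rw [map_Vf] at hg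
  have h' := h.conj g
  have hK' := conj_ne_bot hK g
  change Vf (g * t0 * g⁻¹) (g * s0 * g⁻¹) = T at hg
  generalize g * t0 * g⁻¹ = t1 at *
  generalize g * s0 * g⁻¹ = s1 at *
  have k := h'.toV4.k4
  rcases k.mem_Vf.1 (hg ▸ ht) with e | rfl | rfl | rfl
  · exact absurd e h1
  · exact ⟨_, _, _, h', hK', hg⟩
  · exact ⟨_, _, _, h'.rot, conj_ne_bot hK' _, k.Vf_rot.trans hg⟩
  · obtain ⟨K', a, b⟩ := h'.rot2
    exact ⟨_, _, _, a, b hK', k.Vf_rot2.trans hg⟩

theorem TB.dat' (h : TB G) {t : G} (ht : t * t = 1) (h1 : t ≠ 1) :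
    ∃ (s w : G) (K : Subgroup G), VS t s w K ∧ K ≠ ⊥ := by
  obtain ⟨T, hT, h2⟩ := exists_isSyl_ge (p := 2) (Q := zpowers t) (H := ⊤)
    (isPGroup_zpowers (k := 1) (by simpa [pow_two] using ht)) le_top
  obtain ⟨s, w, K, a, b, -⟩ := h.dat hT (h2 (mem_zpowers t)) h1
  exact ⟨s, w, K, a, b⟩

/-- an odd subgroup normalised by `C(t)` lies in `K` -/
theorem VS.le_K (hA : AG G) (h : VS t s w K) (hK : K ≠ ⊥) {Y : Subgroup G}
    (hY : ¬ 2 ∣ Nat.card Y) (hn : centralizer {t} ≤ normalizer (Y : Set G)) : Y ≤ K := by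
  have k := h.toV4.k4
  obtain ⟨x, hx, x1⟩ := (bot_or_exists_ne_one K).resolve_left hK
  set F := fittingOf Y
  have hF : ¬ 2 ∣ Nat.card F := fun e => hY (e.trans (card_dvd_of_le (fittingOf_le Y)))
  have hnF : centralizer {t} ≤ normalizer (F : Set G) := le_normalizer_fittingOf hn
  have key : ∀ v : G, v * x = x⁻¹ * v → F ≤ centralizer {v} → F ≤ centralizer {t} := by
    intro v hv h1 y hy
    have a1 := mem_C.1 (h1 hy)
    have a2 := mem_C.1 (h1 (conj_mem_of_mem_normalizer' (hnF (mem_C.2 (h.Kt x hx))) hy))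
    refine mem_C.2 (h.ti (x * x) (mul_mem hx hx) (fun e => x1 (eq_one_of_sq h.K2 hx e)) y ?_)
    have a3 : v * x⁻¹ = x * v := by
      calc v * x⁻¹ = x * (x⁻¹ * v) * x⁻¹ := by group
        _ = x * v := by rw [← hv]; group
    calc x * x * y = x * (x * v) * (v⁻¹ * y) := by group
      _ = x * (v * (x⁻¹ * (v⁻¹ * (y * v)) * x)) * x⁻¹ * v⁻¹ := by rw [← a3]; group
      _ = x * (v * (x⁻¹ * y * x)) * x⁻¹ * v⁻¹ := by rw [← a1]; group
      _ = y * x * (v * x⁻¹) * v⁻¹ := by rw [a2]; group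
      _ = y * (x * x) := by rw [a3]; group
  have hFt : F ≤ centralizer {t} := by
    by_cases h1 : F ⊓ centralizer {s} = ⊥
    · by_cases h2 : F ⊓ centralizer {t * s} = ⊥
      · exact k.gen (k.Vf_le_C.trans hnF) hF inf_le_right (h1 ▸ bot_le) (h2 ▸ bot_le)
      · obtain ⟨y, hy, y1⟩ := (bot_or_exists_ne_one _).resolve_left h2
        obtain ⟨K', h', -⟩ := h.rot2
        refine key (t * s) ?_ fun z hz => mem_C.2 (h'.ti y (h'.odd_mem_K hF hy.1 (mem_C.1 hy.2)) y1 z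
          (hA.fitting_comm Y hy.1 hz))
        rw [mul_assoc, show s * x = x⁻¹ * s by rw [← h.Ks x hx, mul_assoc, h.ss, mul_one],
          ← mul_assoc, h.Kt _ (inv_mem hx), mul_assoc]
    · obtain ⟨y, hy, y1⟩ := (bot_or_exists_ne_one _).resolve_left h1
      refine key s ?_ fun z hz => mem_C.2 (h.rot.ti y (h.rot.odd_mem_K hF hy.1 (mem_C.1 hy.2)) y1 z
          (hA.fitting_comm Y hy.1 hz))
      rw [← h.Ks x hx, mul_assoc, h.ss, mul_one]
  intro y hy
  refine h.odd_mem_K hY hy (comm_of_inv hY hy h.tt (hn (mem_C.2 rfl)) (mem_C.1 (hFt ?_)))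
  refine inf_centralizer_fittingOf_le_of_isSolvable (solv_of_odd hY) (mem_inf.2 ⟨?_, ?_⟩)
  · simpa only [mul_assoc] using
      mul_mem hy (conj_mem_of_mem_normalizer (hn (mem_C.2 rfl)) (inv_mem hy))
  · have h1 : t ∈ centralizer (F : Set G) :=
      mem_centralizer_iff.2 fun z hz => (mem_C.1 (hFt hz)).symm
    exact mul_mem (conj_mem_of_mem_normalizer (normalizer_le_normalizer_centralizer _
      (le_normalizer_fittingOf le_normalizer hy)) h1) (inv_mem h1)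

theorem VS.dat (h : VS t s w K) : ∃ D : Subgroup G, D ≤ normalizer (Vf t s : Set G) ∧
    Nat.card D = 3 ∧ IsCyclic D ∧ ∀ d ∈ D, ∀ x ∈ Vf t s, x ≠ 1 → d * x = x * d → d = 1 := by
  have k := h.toV4.k4
  have e3 : w * (t * s) * w⁻¹ = t := by rw [← conj_mul, h.wt, h.ws, k.s_ts]
  have h1 : w * w * w ∈ Vf t s := by
    rw [← h.centV, mem_centralizer_Vf]
    constructor
    · calc t * (w * w * w) = w * (w * (w * t * w⁻¹) * w⁻¹) * w⁻¹ * (w * w * w) := by
            rw [h.wt, h.ws, e3]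
        _ = _ := by group
    · calc s * (w * w * w) = w * (w * (w * s * w⁻¹) * w⁻¹) * w⁻¹ * (w * w * w) := by
            rw [h.ws, e3, h.wt]
        _ = _ := by group
  have h2 : (w * w) ^ 3 = 1 := by rw [← k.sq h1]; simp [pow_succ, mul_assoc]
  have h3 : w * w ≠ 1 := fun e => k.ts_ne_t (by
    rw [← h.ws, ← h.wt]
    calc w * (w * t * w⁻¹) * w⁻¹ = w * w * t * (w * w)⁻¹ := by group
      _ = t := by rw [e]; group)
  haveI : Fact (Nat.Prime 3) := ⟨Nat.prime_three⟩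
  have h4 : Nat.card (zpowers (w * w)) = 3 := by rw [Nat.card_zpowers, orderOf_eq_prime h2 h3]
  have h5 : zpowers (w * w) ≤ normalizer (Vf t s : Set G) :=
    zpowers_le.2 (mul_mem h.toV4.w_norm h.toV4.w_norm)
  refine ⟨_, h5, h4, inferInstance, fun d hd x hx x1 e => ?_⟩
  have e' : d * x * d⁻¹ = x := by rw [e]; group
  rcases k.norm_cases (h5 hd) with a | ⟨a, b⟩ | ⟨a, b⟩
  · exact eq_one_of_sq (X := zpowers (w * w)) (by rw [h4]; decide) hd (k.sq (h.centV ▸ a))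
  · rcases k.mem_Vf.1 hx with rfl | rfl | rfl | rfl
    · exact absurd rfl x1
    · exact absurd (e'.symm.trans a) k.ts
    · exact absurd (b.symm.trans e') k.ts_ne_s
    · rw [← conj_mul, a, b, k.s_ts] at e'; exact absurd e'.symm k.ts_ne_t
  · rcases k.mem_Vf.1 hx with rfl | rfl | rfl | rfl
    · exact absurd rfl x1
    · exact absurd (a.symm.trans e') k.ts_ne_t
    · exact absurd (b.symm.trans e') k.ts
    · rw [← conj_mul, a, b, k.ts_t] at e'; exact absurd e'.symm k.ts_ne_s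

end TB

section TC
open J1
variable {G : Type*} [Group G] [Finite G]

theorem TC.hyp (h : TC G) : ∃ (t : G) (φ : T →* G), Hyp t φ := by
  obtain ⟨hs, h16, t, t1, tt, ⟨e⟩⟩ := h
  let φ : T →* G := (centralizer ({t} : Set G)).subtype.comp (TM.trans e.symm).toMonoidHom
  have h1 : ∀ g, g * t = t * g → ∃ a, φ a = g := fun g hg =>
    ⟨(TM.trans e.symm).symm ⟨g, mem_centralizer_singleton_iff.2 hg⟩, by simp [φ]⟩
  have h2 : Function.Injective φ := Subtype.val_injective.comp (TM.trans e.symm).injective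
  have h3 : ∀ a, φ a * t = t * φ a := fun a =>
    mem_centralizer_singleton_iff.1 ((TM.trans e.symm) a).2
  have h4 : Emb t φ := by
    refine ⟨h2, ?_, h1⟩
    obtain ⟨a, ha⟩ := h1 t rfl
    rcases T_central a (fun b => h2 (by rw [map_mul, map_mul, ha, h3])) with rfl | rfl
    · exact absurd (ha.symm.trans (map_one φ)) t1
    · exact ha
  exact ⟨t, φ, h4, h16, h4.fuse h16⟩

theorem hyp_conj {t : G} {φ : T →* G} (h : Hyp t φ) (g : G) :
    Hyp (g * t * g⁻¹) ((MulAut.conj g).toMonoidHom.comp φ) ∧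
      SS ((MulAut.conj g).toMonoidHom.comp φ) = (SS φ).map (MulAut.conj g).toMonoidHom := by
  refine ⟨⟨h.emb.conj g, h.not16, ?_⟩, by rw [SS, SS, map_map]⟩
  exact (isConj_iff.2 ⟨g, rfl⟩ : IsConj t _).symm.trans (h.fuse.trans (isConj_iff.2 ⟨g, rfl⟩))

theorem hyp_syl {t : G} {φ : T →* G} (h : Hyp t φ) : IsSyl 2 (SS φ) ⊤ := by
  obtain ⟨P, hP⟩ := h.emb.sylow h.not16
  exact hP ▸ isSyl_sylow P

theorem TC.dat0 (h : TC G) {S : Subgroup G} (hS : IsSyl 2 S ⊤) :
    ∃ (t : G) (φ : T →* G), Hyp t φ ∧ SS φ = S := by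
  obtain ⟨t, φ, H⟩ := h.hyp
  obtain ⟨g, -, hg⟩ := (hyp_syl H).exists_conj hS
  exact ⟨_, _, (hyp_conj H g).1, (hyp_conj H g).2.trans hg⟩

theorem TC.dat (h : TC G) {S : Subgroup G} (hS : IsSyl 2 S ⊤) {t : G} (ht : t ∈ S) (t1 : t ≠ 1) :
    ∃ φ : T →* G, Hyp t φ ∧ SS φ = S := by
  obtain ⟨t', φ, H, rfl⟩ := h.dat0 hS
  obtain ⟨n, hn, rfl⟩ := H.exists_norm ht (H.conj_SS ht t1)
  exact ⟨_, (hyp_conj H n).1, (hyp_conj H n).2.trans (map_conj_eq_iff.2 hn)⟩

theorem hyp_t_mem {t : G} {φ : T →* G} (h : Hyp t φ) : t ∈ SS φ := by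
  rw [← h.emb.map_t, h.emb.mem_SS, T_t_comm]

theorem hyp_cent {t : G} {φ : T →* G} (h : Hyp t φ) : centralizer (SS φ : Set G) = SS φ := by
  refine le_antisymm (fun g hg => ?_) fun g hg => mem_centralizer_iff.2 fun y hy =>
    congrArg Subtype.val ((SS_comm φ).1.1 ⟨y, hy⟩ ⟨g, hg⟩)
  obtain ⟨a, rfl⟩ := h.emb.surj g (mem_centralizer_iff.1 hg t (hyp_t_mem h)).symm
  have := mem_centralizer_iff.1 hg (φ v0) (h.emb.mem_SS.2 rfl)
  rw [← map_mul, ← map_mul, h.emb.eq_iff] at this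
  exact h.emb.mem_SS.2 this.symm

theorem hyp_D {t : G} {φ : T →* G} (h : Hyp t φ) : ∃ D : Subgroup G,
    D ≤ normalizer (SS φ : Set G) ∧ Nat.card D = 7 ∧ IsCyclic D ∧
      ∀ d ∈ D, ∀ x ∈ SS φ, x ≠ 1 → d * x = x * d → d = 1 := by
  obtain ⟨z, hz, h7, -⟩ := h.ex_z0
  have hc : Nat.card (zpowers z) = 7 := by rw [Nat.card_zpowers, h7]
  refine ⟨zpowers z, zpowers_le.2 hz, hc, inferInstance, fun d hd x hx x1 e => ?_⟩
  by_contra d1
  have h1 : orderOf d = 7 := ((Nat.dvd_prime (by norm_num)).1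
    (hc ▸ (zpowers z).orderOf_dvd_natCard hd)).resolve_left (by simpa using d1)
  exact h.not_comm7 h1 (.inl rfl) (Iv.orderOf ⟨x1, SS_sq hx⟩) e.symm

end TC

section main
variable {L : Type u} [Group L] [Finite L]

theorem cyc_comm {G : Type*} [Group G] {D : Subgroup G} (h : IsCyclic D) :
    ∀ d ∈ D, ∀ e ∈ D, d * e = e * d := fun d hd e he =>
  congrArg Subtype.val (h.commGroup.mul_comm ⟨d, hd⟩ ⟨e, he⟩)

theorem TB.card_syl (h : TB L) {T : Subgroup L} (hT : IsSyl 2 T ⊤) : Nat.card T = 4 := by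
  obtain ⟨t, s, w, K, h, -⟩ := h
  rw [hT.card_eq_card (h.toV4.k4.syl le_top), h.toV4.k4.card_Vf]

theorem TC.card_syl (h : TC L) {T : Subgroup L} (hT : IsSyl 2 T ⊤) : Nat.card T = 8 := by
  obtain ⟨t, φ, H, rfl⟩ := h.dat0 hT
  exact H.emb.card_SS

/-- F0 -/
theorem Kn.dat (hA : AG L) (h : Kn L) {T : Subgroup L}
    (hT : IsSyl 2 T ⊤) : (∀ x ∈ T, x * x = 1) ∧ 4 ≤ Nat.card T ∧ centralizer (T : Set L) = T ∧
    ∃ D : Subgroup L, D ≤ normalizer (T : Set L) ∧ Odd (Nat.card D) ∧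
      (∀ d ∈ D, ∀ e ∈ D, d * e = e * d) ∧
      (∀ x ∈ T, ∀ y ∈ T, x ≠ 1 → y ≠ 1 → ∃ d ∈ D, d * x * d⁻¹ = y) ∧
      (∀ d ∈ D, ∀ x ∈ T, x ≠ 1 → d * x = x * d → d = 1) := by
  rcases h with h | h | h
  · obtain ⟨D, j, h⟩ := h.dat hA hT
    exact ⟨h.sq, h.four, h.centT, D, h.DN, h.odd, h.commD, h.trans, h.reg⟩
  · obtain ⟨t, ht, t1⟩ := (bot_or_exists_ne_one T).resolve_left fun e => by
      have := h.card_syl hT
      rw [e, card_bot] at this; omega
    obtain ⟨s, w, K, h, -, rfl⟩ := h.dat hT ht t1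
    obtain ⟨D, h1, h2, h3, h4⟩ := h.dat
    have k := h.toV4.k4
    exact ⟨fun x => k.sq, k.card_Vf.ge, h.centV, D, h1, by rw [h2]; decide, cyc_comm h3,
      trans_of_reg h1 (by rw [h2, k.card_Vf]) h4, h4⟩
  · obtain ⟨t, φ, H, rfl⟩ := h.dat0 hT
    obtain ⟨D, h1, h2, h3, h4⟩ := hyp_D H
    exact ⟨fun x => J1.SS_sq, by rw [H.emb.card_SS]; decide, hyp_cent H, D, h1,
      by rw [h2]; decide, cyc_comm h3, trans_of_reg h1 (by rw [h2, H.emb.card_SS]) h4, h4⟩

theorem TB.not_TA (hA : AG L) (h : TB L) : ¬ TA L := fun h' => by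
  obtain ⟨t, s, w, K, h, hK⟩ := h
  obtain ⟨x, hx, x1⟩ := (bot_or_exists_ne_one K).resolve_left hK
  exact x1 (eq_one_of_sq h.K2 hx ((h'.cent hA h.tt h.t1).2 x (mem_C.2 (h.Kt x hx))))

theorem TC.not_TA (hA : AG L) (h : TC L) : ¬ TA L := fun h' => by
  obtain ⟨t, φ, H⟩ := h.hyp
  have := (h'.cent hA H.emb.iv.2 H.emb.iv.1).2 (φ J1.x0) (mem_C.2 (H.emb.comm _).symm)
  rw [← map_mul, H.emb.eq_one] at this
  have h1 := J1.T_x
  rw [pow_succ, pow_two, this, one_mul] at h1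
  exact h1.2 h1.1

/-- F1 -/
theorem Kn.solv (hA : AG L) (h : TA L ∨ TB L) {t : L}
    (ht : t * t = 1) (h1 : t ≠ 1) : Group.IsSolvable (centralizer ({t} : Set L)) := by
  rcases h with h | h
  · exact isSolvable_of_isPGroup (h.cent hA ht h1).1.isPGroup
  · obtain ⟨s, w, K, h, -⟩ := h.dat' ht h1
    exact h.toV4.k4.solv_cent

theorem odd_eq_bot {T Y : Subgroup L} (hT : ∀ x ∈ T, x * x = 1)
    (hY : ¬ 2 ∣ Nat.card Y) (hn : T ≤ normalizer (Y : Set L))
    (h : ∀ B, B ≤ T → Nat.card T ≤ 2 * Nat.card B → ∀ y ∈ centralizer (B : Set L), y * y = 1) :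
    Y = ⊥ := by
  have h2 : IsPGroup 2 T := isPGroup_of_forall_pow fun x hx => ⟨1, by simpa [pow_two] using hT x hx⟩
  have hc : IsMulCommutative T := ⟨⟨fun a b => Subtype.ext (by
    have h1 := hT _ (mul_mem a.2 b.2)
    have h3 : ∀ x ∈ T, x⁻¹ = x := fun x hx => inv_eq_of_mul_eq_one_right (hT x hx)
    have := h3 _ (mul_mem a.2 b.2)
    rw [mul_inv_rev, h3 _ a.2, h3 _ b.2] at this
    exact this.symm)⟩⟩
  exact eq_bot_iff.2 (le_of_cocyclic_centralizers hc hn (coprimeAct_of_isPGroup_left h2 hY hn).coprime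
    fun B hB y hy => mem_bot.2 (eq_one_of_sq hY hy.1 (h B hB.1
      (hB.card_le ⟨hc, fun a ha => by rw [pow_two, hT a ha]⟩) y hy.2)))

theorem TA.odd_eq_bot (hA : AG L) (h : TA L) {T Y : Subgroup L} (hT : IsSyl 2 T ⊤)
    (hY : ¬ 2 ∣ Nat.card Y) (hn : T ≤ normalizer (Y : Set L)) : Y = ⊥ := by
  obtain ⟨D, j, h'⟩ := h.dat hA hT
  refine AG.odd_eq_bot h'.sq hY hn fun B hB hc y hy => ?_
  obtain ⟨b, hb, b1⟩ := (bot_or_exists_ne_one B).resolve_left fun e => by
    have := h'.four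
    rw [e, card_bot] at hc; omega
  exact h'.sq y (h'.cent b (hB hb) b1 ▸ mem_C.2 (mem_centralizer_iff.1 hy b hb))

theorem hyp_odd_eq_bot {t : L} {φ : J1.T →* L} (h : J1.Hyp t φ) {Y : Subgroup L}
    (hY : ¬ 2 ∣ Nat.card Y) (hn : J1.SS φ ≤ normalizer (Y : Set L)) : Y = ⊥ := by
  refine odd_eq_bot (fun x => J1.SS_sq) hY hn fun B hB hc y hy => ?_
  rw [h.emb.card_SS] at hc
  have : ¬ ∀ a ∈ B, ∀ b ∈ B, a ≠ 1 → b ≠ 1 → a = b := fun e => by
    obtain ⟨b, hb, b1⟩ := (bot_or_exists_ne_one B).resolve_left fun e => by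
      rw [e, card_bot] at hc; omega
    have h1 : B ≤ zpowers b := fun a ha => by
      by_cases a1 : a = 1
      · exact a1 ▸ one_mem _
      · exact e a ha b hb a1 b1 ▸ mem_zpowers a
    have h2 := card_le_of_le h1
    rw [Nat.card_zpowers, J1.Iv.orderOf ⟨b1, J1.SS_sq (hB hb)⟩] at h2
    omega
  push Not at this
  obtain ⟨a, ha, b, hb, a1, b1, ab⟩ := this
  exact h.cent_V ⟨b1, J1.SS_sq (hB hb)⟩ ⟨a1, J1.SS_sq (hB ha)⟩ ab
    (congrArg Subtype.val ((J1.SS_comm φ).1.1 ⟨a, hB ha⟩ ⟨b, hB hb⟩))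
    (mem_centralizer_iff.1 hy b hb).symm (mem_centralizer_iff.1 hy a ha).symm

end main

section act
variable {G : Type u} [Group G] [Finite G]

/-- an odd element centralising a self-centralising elementary `T ≤ L` centralises `N_L(T)` -/
theorem comm_of_norm {L X : Subgroup G} {T : Subgroup L} (hX : ¬ 2 ∣ Nat.card X)
    (hT : ∀ y ∈ T, y * y = 1) (hc : centralizer (T : Set L) = T) {x : G} (hx : x ∈ X)
    (hxL : x ∈ normalizer (L : Set G)) (hxT : ∀ y ∈ T, x * y = y * x) {z : L}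
    (hz : z ∈ normalizer (T : Set L)) : x * z = z * x := by
  let c : L := ⟨(z : G)⁻¹ * (x * z * x⁻¹), mul_mem (inv_mem z.2) (conj_mem_of_mem_normalizer hxL z.2)⟩
  have h1 : c ∈ T := by
    rw [← hc, mem_centralizer_iff]
    intro y hy
    have a1 := hxT y hy
    have a2 := hxT _ (conj_mem_of_mem_normalizer hz hy)
    refine Subtype.ext ?_
    simp only [coe_mul, coe_inv, c] at a2 ⊢
    calc (y : G) * ((z : G)⁻¹ * (x * z * x⁻¹)) = (z : G)⁻¹ * (z * y * (z : G)⁻¹ * x) * z * x⁻¹ := by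
          group
      _ = (z : G)⁻¹ * (x * z * x⁻¹) * (x * y) * x⁻¹ := by rw [← a2]; group
      _ = _ := by rw [a1]; group
  exact comm_of_odd hX hx (c := c) (by simp [c]) (congrArg Subtype.val (hT c h1)) (hxT c h1)

/-- F2 -/
theorem Kn.act (hA : AG G) {L X T : Subgroup G} (h : Kn L) (hT : IsSyl 2 T L) {t : G} (ht : t ∈ T)
    (h1 : t ≠ 1) (hX : ¬ 2 ∣ Nat.card X) (hXL : X ≤ normalizer (L : Set G))
    (hn : L ⊓ centralizer {t} ≤ normalizer (X : Set G)) :
    X ≤ centralizer (L : Set G) ∨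
      (TB L ∧ X ≤ centralizer {t} ∧ ¬ X ≤ centralizer (T : Set G)) := by
  have hL := hA.subgroup L
  have hT' := hT.subgroupOf le_rfl
  rw [subgroupOf_self] at hT'
  let t' : L := ⟨t, hT.le ht⟩
  have ht' : t' ∈ T.subgroupOf L := ht
  have t1 : t' ≠ 1 := fun e => h1 (congrArg Subtype.val e)
  have hY : ¬ 2 ∣ Nat.card (X.subgroupOf L) := fun e =>
    hX (e.trans (card_comap_dvd_of_injective _ _ L.subtype_injective))
  have hnY : centralizer {t'} ≤ normalizer ((X.subgroupOf L : Subgroup L) : Set L) := fun c hc =>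
    mem_normalizer_of_conj_mem fun y hy => mem_subgroupOf.2 (conj_mem_of_mem_normalizer (H := X)
      (hn ⟨c.2, mem_C.2 (congrArg Subtype.val (mem_C.1 hc))⟩) hy)
  have hTt : T.subgroupOf L ≤ centralizer {t'} := hL.le_centralizer_singleton hT'.isPGroup ht'
  have key : ∀ x ∈ X, ∀ c : L, t' * c = c * t' → ∃ y ∈ X.subgroupOf L,
      (y : G) = x * c * x⁻¹ * (c : G)⁻¹ := fun x hx c hc =>
    ⟨⟨_, mul_mem (conj_mem_of_mem_normalizer (hXL hx) c.2) (inv_mem c.2)⟩, by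
      have := mul_mem hx (conj_mem_of_mem_normalizer
        (hn ⟨c.2, mem_C.2 (congrArg Subtype.val hc)⟩) (inv_mem hx))
      simpa only [mem_subgroupOf, mul_assoc] using this, rfl⟩
  have key2 : X.subgroupOf L = ⊥ → ∀ x ∈ X, ∀ c : L, t' * c = c * t' → x * c = c * x := by
    intro e x hx c hc
    obtain ⟨y, hy, e1⟩ := key x hx c hc
    rw [e, mem_bot] at hy
    rw [hy, coe_one, eq_comm, mul_inv_eq_one, mul_inv_eq_iff_eq_mul] at e1
    exact e1
  have fin : ∀ x : G, (centralizer {x}).subgroupOf L = ⊤ → x ∈ centralizer (L : Set G) :=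
    fun x e => mem_centralizer_iff.2 fun y hy =>
      (mem_C.1 (mem_subgroupOf.1 (e.ge (mem_top (⟨y, hy⟩ : L))))).symm
  rcases h with h | h | h
  · refine .inl (h.le_centralizer hA hT hX hXL fun x hx => mem_centralizer_iff.2 fun y hy => ?_)
    exact (key2 (h.odd_eq_bot hL hT' hY (hTt.trans hnY)) x hx ⟨y, hT.le hy⟩
      (mem_C.1 (hTt hy))).symm
  · obtain ⟨s, w, K, h', hK, e⟩ := h.dat hT' ht' t1
    have k := h'.toV4.k4
    have hYK := h'.le_K hL hK hY hnY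
    by_cases hc : X ≤ centralizer (T : Set G)
    · refine .inl fun x hx => fin x (top_le_iff.1 ?_)
      have h2 : ∀ y ∈ Vf t' s, x * y = y * x := fun y hy =>
        (mem_centralizer_iff.1 (hc hx) y (e.le hy)).symm
      have h3 : ∀ y ∈ K, x * y = y * x := fun y hy => by
        obtain ⟨c, hc1, e1⟩ := key x hx y (h'.Kt y hy)
        have := h'.eq_one_of_s (hYK hc1) (Subtype.ext (mem_centralizer_iff.1 (hc hc1) s (e.le s_mem_Vf)))
        rw [this, coe_one, eq_comm, mul_inv_eq_one, mul_inv_eq_iff_eq_mul] at e1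
        exact e1
      rw [← h'.gen hK, sup_le_iff, zpowers_le]
      refine ⟨fun g hg => ?_, mem_C.2 (comm_of_norm hX (fun y => k.sq) h'.centV hx (hXL hx) h2
        h'.toV4.w_norm)⟩
      have m : ∀ y : L, x * y = y * x → y ∈ (centralizer {x}).subgroupOf L := fun y hy => mem_C.2 hy
      obtain ⟨y, hy, e1 | e1 | e1 | e1⟩ := h'.cases (mem_C.1 hg) <;> rw [e1]
      · exact m _ (h3 y hy)
      · exact mul_mem (m _ (h3 y hy)) (m _ (h2 _ t_mem_Vf))
      · exact mul_mem (m _ (h3 y hy)) (m _ (h2 _ s_mem_Vf))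
      · exact mul_mem (m _ (h3 y hy)) (m _ (h2 _ ts_mem_Vf))
    · refine .inr ⟨h, fun x hx => mem_C.2 ?_, hc⟩
      obtain ⟨c, hc1, e1⟩ := key x hx t' rfl
      refine comm_of_inv hX hx (congrArg Subtype.val k.tt) (hn ⟨t'.2, mem_C.2 rfl⟩) ?_
      have := congrArg Subtype.val (h'.Kt c (hYK hc1))
      rw [coe_mul, coe_mul, e1] at this
      exact this
  · obtain ⟨φ, H, e⟩ := h.dat hT' ht' t1
    haveI := h.1
    have h2 := key2 (hyp_odd_eq_bot H hY (e ▸ hTt.trans hnY))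
    obtain ⟨D, d1, d2, -, d4⟩ := hyp_D H
    have hv : φ J1.v0 ≠ 1 := by rw [Ne, H.emb.eq_one]; exact J1.T_v.2.1
    obtain ⟨z, hz, e1⟩ := trans_of_reg d1 (by rw [d2, H.emb.card_SS]) d4 t' (hyp_t_mem H) _
      (H.emb.mem_SS.2 rfl) t1 hv
    have h7 : orderOf z = 7 := ((Nat.dvd_prime (by norm_num)).1
      (d2 ▸ D.orderOf_dvd_natCard hz)).resolve_left fun e2 => by
        rw [orderOf_eq_one_iff.1 e2, one_mul, inv_one, mul_one, ← H.emb.map_t, H.emb.eq_iff] at e1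
        exact J1.T_v.2.2 e1.symm
    refine .inl fun x hx => fin x (H.eq_top (fun a => mem_C.2 (h2 x hx _ (H.emb.comm a).symm))
      (mem_C.2 (comm_of_norm hX (fun y => J1.SS_sq) (hyp_cent H) hx (hXL hx)
        (fun y hy => h2 x hx y (mem_C.1 (hTt (e.le hy)))) (d1 hz))) h7 e1)

end act

end Cfsg.Agent.Lib.AG
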