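/-
A-groups project (S2554): overgroups of a Klein four Sylow 2-subgroup.
-/
import Cfsg.Agent.Lib.AG.K4

set_option autoImplicit false

namespace Cfsg.Agent.Lib.AG

open Subgroup Cfsg.Agent.Lib.Core

universe u

variable {G : Type u} [Group G] [Finite G] {t s : G}

theorem K4.solv_of_LOf (h : K4 t s) (hA : AG G) {M : Subgroup G} (hM : Vf t s ≤ M)
    (hL : LOf 2 M = ⊥) : Group.IsSolvable M := by
  refine solv_of_sup (isSolvable_of_le h.solv_norm inf_le_right) inf_le_left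
    (hA.fact_of_LOf hL (h.syl hM))

theorem K4.exists_simple_normal (h : K4 t s) (hA : AG G) (hO : OppOf 2 (⊤ : Subgroup G) = ⊥)
    (hs : ¬ Group.IsSolvable (⊤ : Subgroup G)) :
    ∃ J : Subgroup G, J.Normal ∧ IsSimpleGroup J ∧ ¬ Group.IsSolvable J := by
  have h1 : EOf (⊤ : Subgroup G) ≠ ⊥ := fun e =>
    hs (h.solv_of_LOf hA le_top (by rw [LOf_eq_EOf hO, e]))
  obtain ⟨J, hJ⟩ := not_forall_not.mp (mt EOf_eq_bot_iff.mpr h1)
  refine ⟨J, normal_of_le_normalizer_top fun g _ => map_conj_eq_iff.mp ?_,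
    hA.simple_of_qs hJ.qs, hJ.qs.not_isSolvable⟩
  have hJ' : Comp ⊤ (J.map (MulAut.conj g).toMonoidHom) := hJ.conj (le_normalizer (mem_top g))
  refine hJ'.eq_of_not_le_centralizer hJ fun e => h.t1 ?_
  have h2 := h.le_of_nsolv le_top hJ.subn hJ.qs.not_isSolvable t_mem_Vf
  have h3 := h.le_of_nsolv le_top hJ'.subn hJ'.qs.not_isSolvable t_mem_Vf
  exact mem_bot.mp ((hA.inf_centralizer_of_perfect hJ.qs.perfect).le ⟨h2, e h3⟩)

theorem K4.over (h : K4 t s) (hA : AG G) {M : Subgroup G} (hM : Vf t s ≤ M)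
    (hs : ¬ Group.IsSolvable M) :
    ∃ (L : Subgroup G) (w : G) (ht : t ∈ L) (hs : s ∈ L) (hw : w ∈ L), L ≤ M ∧
      M ≤ normalizer (L : Set G) ∧ OppOf 2 M ≤ L ∧ w * t * w⁻¹ = s ∧ w * s * w⁻¹ = t * s ∧
      ∃ (X : Type u) (_ : Group X) (_ : Finite X) (f : L →* X), Function.Surjective f ∧
        kerOf f = OppOf 2 M ∧ V4 (f ⟨t, ht⟩) (f ⟨s, hs⟩) (f ⟨w, hw⟩) := by
  obtain ⟨Q, _, _, f, hf, hk, -⟩ := exists_bar (OppOf_le (p := 2) M)
    (le_normalizer_OppOf le_normalizer)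
  have hko : ¬ 2 ∣ Nat.card f.ker := by rw [← card_kerOf, hk]; exact OppOf_not_dvd M
  have hQ := (h.subtype (hM t_mem_Vf) (hM s_mem_Vf)).map f hf hko
  have hO : OppOf 2 (⊤ : Subgroup Q) = ⊥ := by
    rw [← bar_self f hf]; exact OppOf_bar_eq_bot f le_rfl hk
  obtain ⟨J, hJ, hJs, hJn⟩ := hQ.exists_simple_normal (hA.bar f hf) hO fun e => hs (by
    have h1 : Group.IsSolvable (⊤ : Subgroup M) := isSolvable_of_map f
      (by rwa [map_top_of_surjective f hf]) (solv_of_odd (by rwa [inf_top_eq]))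
    exact isSolvable_of_equiv h1 topEquiv)
  have hLM : unbar f J ≤ M := unbar_le f J
  have hn : M ≤ normalizer (unbar f J : Set G) := fun g hg =>
    unbar_normalizer_le f J ((mem_unbar f (x := ⟨g, hg⟩)).mpr (le_normalizer_of_normal (mem_top _)))
  have hLs : ¬ Group.IsSolvable (unbar f J) := fun e => hJn (by
    have := isSolvable_bar f e hLM
    rwa [bar_unbar f hf] at this)
  have hV := h.le_of_nsolv hM (Subn.of_normal hLM hn) hLs
  obtain ⟨w, hw, h1, h2⟩ := h.exists_cycle hV hLs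
  let φ : unbar f J →* J := (f.comp (inclusion hLM)).codRestrict J fun x =>
    (mem_unbar f (x := ⟨x, hLM x.2⟩)).mp x.2
  have hφ : Function.Surjective φ := fun y => by
    obtain ⟨x, hx⟩ := hf y
    exact ⟨⟨x, (mem_unbar f).mpr (hx ▸ y.2)⟩, Subtype.ext hx⟩
  have hφk : kerOf φ = OppOf 2 M := by
    rw [← hk]
    ext x
    refine ⟨fun hx => ?_, fun hx => ?_⟩
    · have hx' := kerOf_le φ hx
      exact (mem_kerOf f (x := ⟨x, hLM hx'⟩)).mpr
        (congrArg Subtype.val ((mem_kerOf φ (x := ⟨x, hx'⟩)).mp hx))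
    · exact (mem_kerOf φ (x := ⟨x, kerOf_le_unbar f J hx⟩)).mpr
        (Subtype.ext ((mem_kerOf f (x := ⟨x, kerOf_le f hx⟩)).mp hx))
  refine ⟨unbar f J, w, hV t_mem_Vf, hV s_mem_Vf, hw, hLM, hn, hk ▸ kerOf_le_unbar f J, h1, h2,
    J, inferInstance, inferInstance, φ, hφ, hφk, ?_⟩
  refine ((h.subtype (hV t_mem_Vf) (hV s_mem_Vf)).map φ hφ
    (by rw [← card_kerOf, hφk]; exact OppOf_not_dvd M)).v4 hJs ?_ ?_
  · rw [← map_inv, ← map_mul, ← map_mul]; exact congrArg φ (Subtype.ext h1)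
  · rw [← map_inv, ← map_mul, ← map_mul, ← map_mul]; exact congrArg φ (Subtype.ext h2)

omit [Finite G] in
theorem V4.not_comm {w : G} (h : V4 t s w) : ∃ a b : G, a * b ≠ b * a :=
  ⟨w, t, fun e => h.ts (by rw [← h.wt, e, mul_inv_cancel_right])⟩

omit [Finite G] in
theorem V4.commutator_top {w : G} (h : V4 t s w) : ⁅(⊤ : Subgroup G), (⊤ : Subgroup G)⁆ = ⊤ := by
  haveI := h.simple
  refine (commutator_normal ⊤ ⊤).eq_bot_or_eq_top.resolve_left fun e => ?_
  obtain ⟨a, b, hab⟩ := h.not_comm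
  exact hab (commutatorElement_eq_one_iff_mul_comm.mp
    (mem_bot.mp (e.le (commutator_mem_commutator (mem_top a) (mem_top b)))))

omit [Finite G] in
theorem V4.nsolv {w : G} (h : V4 t s w) : ¬ Group.IsSolvable (⊤ : Subgroup G) := fun e =>
  (commutator_lt_of_isSolvable e fun e' => h.t1 (mem_bot.mp (e'.le (mem_top t)))).ne
    h.commutator_top

theorem K4.over_cent (h : K4 t s) (hA : AG G) {M : Subgroup G} (hM : Vf t s ≤ M)
    (hs : ¬ Group.IsSolvable M) (hc : OppOf 2 M ≤ centralizer {t}) :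
    ∃ (L : Subgroup G) (w : G) (ht : t ∈ L) (hs : s ∈ L) (hw : w ∈ L), L ≤ M ∧
      M ≤ normalizer (L : Set G) ∧ L ≤ centralizer (OppOf 2 M : Set G) ∧
      V4 (⟨t, ht⟩ : L) ⟨s, hs⟩ ⟨w, hw⟩ := by
  obtain ⟨L, w, ht, hs', hw, hLM, hn, hO, -, -, X, _, _, f, hf, hk, hX⟩ := h.over hA hM hs
  haveI := hX.simple
  set C := L ⊓ centralizer (OppOf 2 M : Set G) with hC
  have hCn : M ≤ normalizer (C : Set G) :=
    le_normalizer_inf hn (le_normalizer_centralizer (le_normalizer_OppOf le_normalizer))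
  have hCL : C ≤ L := inf_le_left
  have hb : bar f C = ⊤ := by
    have h1 : (bar f C).Normal := normal_of_le_normalizer_top (by
      rw [← bar_self f hf]; exact bar_le_normalizer f (hLM.trans hCn))
    refine h1.eq_bot_or_eq_top.resolve_left fun e => hX.t1 (mem_bot.mp (e.le ?_))
    exact mem_bar_of_mem f (x := ⟨t, ht⟩)
      ⟨ht, mem_centralizer_iff.mpr fun o ho => (mem_C.mp (hc ho)).symm⟩
  have hL0 : ⁅C, C⁆ ≤ C := commutator_le_of_le_normalizer_left le_normalizer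
  have hb0 : bar f ⁅C, C⁆ = ⊤ := by rw [bar_commutator f hCL hCL, hb, hX.commutator_top]
  have hn0 : M ≤ normalizer ((⁅C, C⁆ : Subgroup G) : Set G) := le_normalizer_commutator hCn hCn
  have hns : ¬ Group.IsSolvable (⁅C, C⁆ : Subgroup G) := fun e =>
    hX.nsolv (hb0 ▸ isSolvable_bar f e (hL0.trans hCL))
  have hV := h.le_of_nsolv hM (Subn.of_normal ((hL0.trans hCL).trans hLM) hn0) hns
  obtain ⟨w0, hw0, h1, h2⟩ := h.exists_cycle hV hns
  refine ⟨⁅C, C⁆, w0, hV t_mem_Vf, hV s_mem_Vf, hw0, (hL0.trans hCL).trans hLM, hn0,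
    hL0.trans inf_le_right, (h.subtype _ _).v4 ?_ (Subtype.ext h1) (Subtype.ext h2)⟩
  have hbij : Function.Bijective (f.comp (inclusion (hL0.trans hCL))) := by
    refine ⟨(injective_iff_map_eq_one _).mpr fun x hx => Subtype.ext ?_, fun y => ?_⟩
    · have h3 : (x : G) ∈ OppOf 2 M := hk ▸ (mem_kerOf f (x := ⟨x, hCL (hL0 x.2)⟩)).mpr hx
      exact mem_bot.mp ((hA.center_inf_commutator C).le
        ⟨mem_centralizer_iff.mpr fun c hc => (mem_centralizer_iff.mp hc.2 x h3).symm, x.2⟩)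
    · obtain ⟨x, hx, rfl⟩ := (mem_bar f).mp (hb0.ge (mem_top y))
      exact ⟨⟨x, hx⟩, rfl⟩
  exact (MulEquiv.ofBijective _ hbij).isSimpleGroup

end Cfsg.Agent.Lib.AG
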