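/-
A-groups project (S2554): Klein four case, the structure of `C(t)` when `C(t)` is maximal.
-/
import Cfsg.Agent.Lib.AG.Over
import Cfsg.Agent.Lib.AG.Ord
import Cfsg.Agent.Lib.Core.Balance

set_option autoImplicit false

namespace Cfsg.Agent.Lib.AG

open Subgroup Cfsg.Agent.Lib.Core

universe u

namespace C5

variable {G : Type u} [Group G]

theorem mc {a g : G} : g ∈ centralizer ({a} : Set G) ↔ a * g = g * a := by
  rw [mem_centralizer_singleton_iff, eq_comm]

theorem inv_zp {s z c : G} (ss : s * s = 1) (h : s * z * s = z⁻¹) (hc : c ∈ zpowers z) :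
    s * c * s = c⁻¹ := by
  have si : s⁻¹ = s := inv_eq_of_mul_eq_one_right ss
  obtain ⟨n, rfl⟩ := hc
  have : s * z ^ n * s⁻¹ = (s * z * s⁻¹) ^ n := conj_zpow.symm
  rw [si] at this
  show s * z ^ n * s = (z ^ n)⁻¹
  rw [this, h, inv_zpow]

theorem inv_comm {s : G} (ss : s * s = 1) (u : G) :
    s * (u * s * u⁻¹ * s) * s = (u * s * u⁻¹ * s)⁻¹ := by
  have si : s⁻¹ = s := inv_eq_of_mul_eq_one_right ss
  simp only [mul_inv_rev, inv_inv, si, mul_assoc, ss, mul_one]

theorem eq_one_of_sq {X : Subgroup G} (hX : ¬ 2 ∣ Nat.card X) {x : G} (hx : x ∈ X)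
    (h : x * x = 1) : x = 1 := by
  have h1 : (orderOf x).Coprime 2 := coprime_orderOf_of_mem (p := 2) hX hx
  have : x ∈ (⊥ : Subgroup G) := mem_of_pow_mem (k := 1) h1 (by simpa [pow_two] using h)
  simpa using this

theorem mem_of_sq {X L : Subgroup G} (hX : ¬ 2 ∣ Nat.card X) {x : G} (hx : x ∈ X)
    (h : x * x ∈ L) : x ∈ L :=
  mem_of_pow_mem (k := 1) (coprime_orderOf_of_mem (p := 2) hX hx) (by simpa [pow_two] using h)

theorem eq_one_of_inv_comm {X : Subgroup G} (hX : ¬ 2 ∣ Nat.card X) {x s : G} (hx : x ∈ X)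
    (ss : s * s = 1) (h1 : s * x * s = x⁻¹) (h2 : s * x = x * s) : x = 1 := by
  refine eq_one_of_sq hX hx ?_
  rw [h2, mul_assoc, ss, mul_one] at h1
  nth_rewrite 1 [h1]; simp

variable [Finite G]

theorem decomp {X : Subgroup G} (hX : ¬ 2 ∣ Nat.card X) {s : G} (ss : s * s = 1) (u : G)
    (hz : u * s * u⁻¹ * s ∈ X) :
    ∃ c ∈ zpowers (u * s * u⁻¹ * s), s * c * s = c⁻¹ ∧ s * (c⁻¹ * u) = c⁻¹ * u * s := by
  set z := u * s * u⁻¹ * s with hzd
  have h1 : (orderOf z).Coprime 2 := coprime_orderOf_of_mem (p := 2) hX hz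
  have hodd : Odd (orderOf z) := Nat.coprime_two_right.mp h1
  obtain ⟨m, hm⟩ := hodd
  have hc : z ^ (m + 1) ∈ zpowers z := pow_mem (mem_zpowers z) _
  have hi := inv_zp ss (inv_comm ss u) hc
  have hsq : z ^ (m + 1) * z ^ (m + 1) = z := by
    rw [← pow_add, show m + 1 + (m + 1) = (2 * m + 1) + 1 by ring, ← hm, pow_succ,
      pow_orderOf_eq_one, one_mul]
  refine ⟨_, hc, hi, ?_⟩
  generalize z ^ (m + 1) = c at hi hsq
  have e1 : u * s = c * c * s * u := by
    rw [hsq, hzd]; simp only [mul_assoc, ← mul_assoc s s, ss, one_mul, inv_mul_cancel, mul_one]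
  have e2 : s * c⁻¹ = c * s := by
    rw [← hi]; simp only [← mul_assoc, ss, one_mul]
  rw [mul_assoc c⁻¹, e1, ← mul_assoc s, e2]; group

theorem conj_mem {X : Subgroup G} {s u : G} (ss : s * s = 1) (hs : s ∈ normalizer (X : Set G))
    (hu : u ∈ X) : u * s * u⁻¹ * s ∈ X := by
  have si : s⁻¹ = s := inv_eq_of_mul_eq_one_right ss
  have := conj_mem_of_mem_normalizer hs (inv_mem hu)
  rw [si] at this
  simpa only [mul_assoc] using mul_mem hu this

/-- an involution centralising the Fitting subgroup of an odd group centralises it -/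
theorem cent_of_fit {X : Subgroup G} (hX : ¬ 2 ∣ Nat.card X) {t : G} (tt : t * t = 1)
    (hn : t ∈ normalizer (X : Set G)) (hF : fittingOf X ≤ centralizer {t}) :
    X ≤ centralizer {t} := by
  intro u hu
  have hz := conj_mem tt hn hu
  have ht : t ∈ centralizer (fittingOf X : Set G) :=
    mem_centralizer_iff.mpr fun f hf => (mc.mp (hF hf)).symm
  have hun : u ∈ normalizer ((centralizer (fittingOf X : Set G) : Subgroup G) : Set G) :=
    le_normalizer_centralizer (le_normalizer_fittingOf (le_normalizer_of_le le_rfl)) hu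
  have hzc : u * t * u⁻¹ * t ∈ centralizer (fittingOf X : Set G) :=
    mul_mem (conj_mem_of_mem_normalizer hun ht) ht
  have hzF := inf_centralizer_fittingOf_le_of_isSolvable (solv_of_odd hX) ⟨hz, hzc⟩
  have := eq_one_of_inv_comm hX hz tt (inv_comm tt u) (mc.mp (hF hzF))
  rw [mc]
  calc t * u = (u * t * u⁻¹ * t) * (t * u) := by rw [this, one_mul]
    _ = u * t := by simp only [mul_assoc, ← mul_assoc t t, tt, one_mul, inv_mul_cancel, mul_one]

/-- `U = O(C(t))` -/
abbrev UU (t : G) : Subgroup G := OppOf 2 (centralizer {t})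
/-- `F = F(O(C(t)))` -/
abbrev FF (t : G) : Subgroup G := fittingOf (UU t)

structure Mx (t s w : G) : Prop extends V4 t s w where
  hA : AG G
  max : ∀ M : Subgroup G, centralizer {t} ≤ M → M = centralizer {t} ∨ M = ⊤

variable {t s w : G}

theorem oddU (t : G) : ¬ 2 ∣ Nat.card (UU t) := OppOf_not_dvd _
theorem UH (t : G) : UU t ≤ centralizer {t} := OppOf_le _
theorem FU (t : G) : FF t ≤ UU t := fittingOf_le _
theorem oddF (t : G) : ¬ 2 ∣ Nat.card (FF t) := not_dvd_card_of_le (oddU t) (FU t)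
theorem HnU (t : G) : centralizer {t} ≤ normalizer (UU t : Set G) :=
  le_normalizer_OppOf (le_normalizer_of_le le_rfl)
theorem HnF (t : G) : centralizer {t} ≤ normalizer (FF t : Set G) :=
  le_normalizer_fittingOf (HnU t)
theorem Ft {x : G} (hx : x ∈ FF t) : t * x = x * t := mc.mp (UH t (FU t hx))

namespace Mx

theorem k4 (h : Mx t s w) : K4 t s := h.toV4.k4
theorem sH (h : Mx t s w) : s ∈ centralizer ({t} : Set G) := mc.mpr h.comm
theorem tH (t : G) : t ∈ centralizer ({t} : Set G) := mc.mpr rfl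
theorem tV (h : Mx t s w) : t ∈ Vf t s := h.k4.mem_Vf.mpr (by simp)
theorem sV (h : Mx t s w) : s ∈ Vf t s := h.k4.mem_Vf.mpr (by simp)

theorem V_le (h : Mx t s w) {M : Subgroup G} (ht : t ∈ M) (hs : s ∈ M) : Vf t s ≤ M := by
  intro x hx
  rcases h.k4.mem_Vf.mp hx with rfl | rfl | rfl | rfl
  exacts [one_mem _, ht, hs, mul_mem ht hs]

theorem VH (h : Mx t s w) : Vf t s ≤ centralizer {t} := h.V_le (tH t) h.sH

theorem Fcomm (h : Mx t s w) {x y : G} (hx : x ∈ FF t) (hy : y ∈ FF t) : x * y = y * x :=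
  h.hA.fitting_comm _ hx hy

theorem le_U (h : Mx t s w) {X : Subgroup G} (hX : X ≤ centralizer {t})
    (ho : ¬ 2 ∣ Nat.card X) : X ≤ UU t :=
  le_O_of_odd h.k4.two h.VH h.k4.cent_eq hX ho

theorem mem_U (h : Mx t s w) {X : Subgroup G} (ho : ¬ 2 ∣ Nat.card X) {x : G} (hx : x ∈ X)
    (ht : t * x = x * t) : x ∈ UU t :=
  h.le_U (X := X ⊓ centralizer {t}) inf_le_right (not_dvd_card_of_le ho inf_le_left)
    ⟨hx, mc.mpr ht⟩

theorem exists_uv (h : Mx t s w) {g : G} (hg : t * g = g * t) :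
    ∃ u ∈ UU t, ∃ v ∈ Vf t s, u * v = g := by
  have : g ∈ UU t ⊔ Vf t s := by rw [h.k4.cent_eq]; exact mc.mpr hg
  exact (mem_sup_of_le_normalizer_left (h.VH.trans (HnU t))).mp this

theorem Vs (h : Mx t s w) {v : G} (hv : v ∈ Vf t s) : s * v = v * s := by
  rcases h.k4.mem_Vf.mp hv with rfl | rfl | rfl | rfl
  · simp
  · exact h.comm.symm
  · rfl
  · rw [← mul_assoc, ← h.comm]

theorem comm_mem_U (h : Mx t s w) {g : G} (hg : t * g = g * t) : g * s * g⁻¹ * s ∈ UU t := by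
  obtain ⟨u, hu, v, hv, rfl⟩ := h.exists_uv hg
  have : u * v * s * (u * v)⁻¹ * s = u * s * u⁻¹ * s := by
    rw [mul_assoc u, ← h.Vs hv]; group
  rw [this]; exact conj_mem h.ss (HnU t h.sH) hu

theorem wH (h : Mx t s w) {g : G} (hg : g * t * g⁻¹ = s) : ¬ t * g = g * t := fun e =>
  h.ts (by rw [← hg, ← e]; group)

theorem cent_ne_top (h : Mx t s w) {y : G} (hy : y ≠ 1) : centralizer ({y} : Set G) ≠ ⊤ := by
  intro e
  have hc : y ∈ center G := mem_center_iff.mpr fun g =>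
    (mc.mp (show g ∈ centralizer ({y} : Set G) by rw [e]; trivial)).symm
  rcases h.simple.eq_bot_or_eq_top_of_normal (center G) inferInstance with h1 | h1
  · rw [h1] at hc; exact hy hc
  · exact h.wH h.wt (mem_center_iff.mp (show w ∈ center G by rw [h1]; trivial) t)

theorem norm_ne_top (h : Mx t s w) {X : Subgroup G} (h1 : X ≠ ⊥) (h2 : X ≠ ⊤) :
    normalizer (X : Set G) ≠ ⊤ := fun e => by
  rcases h.simple.eq_bot_or_eq_top_of_normal X (normal_of_le_normalizer_top e.ge) with h3 | h3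
  exacts [h1 h3, h2 h3]

theorem norm_eq (h : Mx t s w) {X : Subgroup G} (h1 : X ≠ ⊥) (h2 : X ≤ centralizer {t})
    (h3 : centralizer {t} ≤ normalizer (X : Set G)) : normalizer (X : Set G) = centralizer {t} :=
  (h.max _ h3).resolve_right (h.norm_ne_top h1 fun e => h.cent_ne_top h.t1 (top_le_iff.mp (e ▸ h2)))

theorem cent_Op {q : ℕ} (h : Mx t s w) (h1 : OpOf q (UU t) ≠ ⊥) :
    centralizer (OpOf q (UU t) : Set G) ≤ centralizer {t} := by
  rw [← h.norm_eq h1 ((OpOf_le _).trans (UH t)) (le_normalizer_OpOf (HnU t))]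
  exact le_normalizer_of_le_centralizer le_rfl

theorem le_or {q : ℕ} [Fact q.Prime] (h : Mx t s w) {Q : Subgroup G} (hQ : IsPGroup q Q)
    (ho : ¬ 2 ∣ Nat.card Q) (hF : FF t ≤ normalizer (Q : Set G)) :
    Q ≤ centralizer {t} ∨ (Q ⊓ centralizer {t} = ⊥ ∧ OpOf q (UU t) = ⊥) := by
  by_cases h1 : OpOf q (UU t) = ⊥
  · refine Or.inr ⟨eq_bot_iff.mpr fun y ⟨hy, hyt⟩ => ?_, h1⟩
    have hQF : Q ⊓ FF t ≤ ⊥ := h1 ▸ le_OpOf_of_le_fittingOf (hQ.to_le inf_le_left) inf_le_right
    have hyU := h.mem_U ho hy (mc.mp hyt)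
    have hyc : y ∈ centralizer (FF t : Set G) := mem_centralizer_iff.mpr fun f hf => by
      have a1 : f * y * f⁻¹ * y⁻¹ ∈ Q := mul_mem (conj_mem_of_mem_normalizer (hF hf) hy) (inv_mem hy)
      have a2 : f * y * f⁻¹ * y⁻¹ ∈ FF t := by
        simpa only [mul_assoc] using
          mul_mem hf (conj_mem_of_mem_normalizer (HnF t hyt) (inv_mem hf))
      have a3 : f * y * f⁻¹ * y⁻¹ = 1 := hQF ⟨a1, a2⟩
      calc f * y = (f * y * f⁻¹ * y⁻¹) * (y * f) := by group
        _ = y * f := by rw [a3, one_mul]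
    exact hQF ⟨hy, inf_centralizer_fittingOf_le_of_isSolvable (solv_of_odd (oddU t)) ⟨hyU, hyc⟩⟩
  · left
    have := h.hA.comm_of_sup (OpOf_isPGroup (UU t)) hQ ((OpOf_le_fittingOf _).trans hF)
    exact (le_centralizer_iff.mp this).trans (h.cent_Op h1)

/-- the elements of `F` inverted by `s` -/
def KK (h : Mx t s w) : Subgroup G where
  carrier := {x | x ∈ FF t ∧ s * x * s = x⁻¹}
  one_mem' := ⟨one_mem _, by simp [h.ss]⟩
  mul_mem' := by
    rintro a b ⟨ha, ha'⟩ ⟨hb, hb'⟩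
    refine ⟨mul_mem ha hb, ?_⟩
    rw [h.Fcomm ha hb, mul_inv_rev, ← ha', ← hb', ← h.Fcomm ha hb]
    simp only [mul_assoc, ← mul_assoc s s, h.ss, one_mul]
  inv_mem' := by
    rintro a ⟨ha, ha'⟩
    exact ⟨inv_mem ha, inv_zp h.ss ha' (inv_mem (mem_zpowers a))⟩

theorem mem_KK (h : Mx t s w) {x : G} : x ∈ h.KK ↔ x ∈ FF t ∧ s * x * s = x⁻¹ := Iff.rfl
theorem KF (h : Mx t s w) : h.KK ≤ FF t := fun _ hx => hx.1
theorem oddK (h : Mx t s w) : ¬ 2 ∣ Nat.card h.KK := not_dvd_card_of_le (oddF t) h.KF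

theorem K_inf (h : Mx t s w) {x : G} (hx : x ∈ h.KK) (hs : s * x = x * s) : x = 1 :=
  eq_one_of_inv_comm h.oddK hx h.ss hx.2 hs

/-- `u = c b` with `c ∈ K`, `b ∈ C(s)`, when `[u, s] ∈ F` -/
theorem decK (h : Mx t s w) {u : G} (hz : u * s * u⁻¹ * s ∈ FF t) :
    ∃ c ∈ h.KK, c ∈ zpowers (u * s * u⁻¹ * s) ∧ s * (c⁻¹ * u) = c⁻¹ * u * s := by
  obtain ⟨c, hc, h1, h2⟩ := decomp (oddF t) h.ss u hz
  exact ⟨c, ⟨(zpowers_le_of_mem hz) hc, h1⟩, hc, h2⟩

theorem decF (h : Mx t s w) {u : G} (hu : u ∈ FF t) :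
    ∃ c ∈ h.KK, c ∈ zpowers (u * s * u⁻¹ * s) ∧ s * (c⁻¹ * u) = c⁻¹ * u * s :=
  h.decK (conj_mem h.ss (HnF t h.sH) hu)

theorem K_le (h : Mx t s w) {L : Subgroup G} (hs : s ∈ L) (hF : FF t ≤ normalizer (L : Set G)) :
    h.KK ≤ L := fun x hx => by
  refine mem_of_sq h.oddK hx ?_
  have := mul_mem (conj_mem_of_mem_normalizer (hF hx.1) hs) hs
  rwa [← hx.2, show x * s * (s * x * s) * s = x * (s * s) * x * (s * s) by group, h.ss, mul_one,
    mul_one] at this

theorem s_norm (h : Mx t s w) {x : G} (hx : x ∈ h.KK) :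
    s ∈ normalizer ((centralizer ({x} : Set G) : Subgroup G) : Set G) := by
  rw [← map_conj_eq_iff, map_conj_centralizer_singleton, h.toV4.s_inv, hx.2,
    ← centralizer_zpowers, zpowers_inv, centralizer_zpowers]

theorem not_four (h : Mx t s w) {x : G} (hx : x ∈ h.KK) (x1 : x ≠ 1) :
    ¬ 4 ∣ Nat.card (centralizer ({x} : Set G)) := fun h4 => h.n8 (by
  have e := card_sup_mul_card_inf (zpowers_le_of_mem (h.s_norm hx))
  have i : zpowers s ⊓ centralizer {x} = ⊥ := eq_bot_iff.mpr fun z hz => by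
    rcases eq_or_of_mem_zpowers h.ss hz.1 with e1 | e1
    · exact e1
    · exact (x1 (h.K_inf hx (e1 ▸ mc.mp hz.2).symm)).elim
  rw [i, card_bot, mul_one, Nat.card_zpowers,
    orderOf_eq_prime (p := 2) (by simpa [pow_two] using h.ss) h.s1] at e
  exact (e ▸ Nat.mul_dvd_mul_left 2 h4).trans (card_subgroup_dvd_card _))

theorem cent_conj {Q : Subgroup G} {g a : G} (hg : g ∈ normalizer (Q : Set G))
    (h1 : Q ⊓ centralizer {a} = ⊥) : Q ⊓ centralizer {g * a * g⁻¹} ≤ ⊥ := by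
  rintro y ⟨hy, hya⟩
  have e := mc.mp hya
  have : g⁻¹ * y * g ∈ Q ⊓ centralizer {a} := ⟨conj_mem_of_mem_normalizer' hg hy, mc.mpr (by
    calc a * (g⁻¹ * y * g) = g⁻¹ * (g * a * g⁻¹ * y) * g := by group
      _ = g⁻¹ * y * g * a := by rw [e]; group)⟩
  rw [h1, mem_bot] at this
  rw [mem_bot]
  calc y = g * (g⁻¹ * y * g) * g⁻¹ := by group
    _ = 1 := by rw [this]; group

/-- `t` centralises `O(M)` when `F V ≤ M` and `t, s, ts` are fused in `M` -/
theorem star (h : Mx t s w) {M : Subgroup G} (hF : FF t ≤ M) (ht : t ∈ M) (hs : s ∈ M) {g : G}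
    (hg : g ∈ M) (g1 : g * t * g⁻¹ = s) (g2 : g * s * g⁻¹ = t * s) :
    OppOf 2 M ≤ centralizer {t} := by
  have hO : ¬ 2 ∣ Nat.card (OppOf 2 M) := OppOf_not_dvd _
  have nO : M ≤ normalizer (OppOf 2 M : Set G) := le_normalizer_OppOf (le_normalizer_of_le le_rfl)
  refine cent_of_fit hO h.tt (nO ht) (fittingOf_le_of_forall_OpOf fun q hq => ?_)
  haveI := Fact.mk hq
  have nQ : M ≤ normalizer (OpOf q (OppOf 2 M) : Set G) := le_normalizer_OpOf nO
  have oQ := not_dvd_card_of_le hO (OpOf_le (p := q) (OppOf 2 M))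
  rcases h.le_or (OpOf_isPGroup _) oQ (hF.trans nQ) with h1 | ⟨h1, -⟩
  · exact h1
  · have h2 := cent_conj (nQ hg) h1
    rw [g1] at h2
    have h3 := cent_conj (nQ hg) (le_bot_iff.mp h2)
    rw [g2] at h3
    exact (h.k4.gen ((h.V_le ht hs).trans nQ) oQ h1.le h2 h3).trans bot_le

theorem not_solv (h : Mx t s w) (hK : h.KK ≠ ⊥) {M : Subgroup G} (hF : FF t ≤ M) (ht : t ∈ M)
    (hs : s ∈ M) {g : G} (hg : g ∈ M) (g1 : g * t * g⁻¹ = s) (hO : OppOf 2 M ≤ centralizer {t}) :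
    ¬ Group.IsSolvable M := fun hM => hK (eq_bot_iff.mpr fun x hx => by
  have nO : M ≤ normalizer (OppOf 2 M : Set G) := le_normalizer_OppOf (le_normalizer_of_le le_rfl)
  have e := h.hA.solv_fact hM (h.k4.syl (h.V_le ht hs))
  have hx' : x ∈ OppOf 2 M ⊔ (M ⊓ normalizer (Vf t s : Set G)) := by rw [e]; exact hF hx.1
  obtain ⟨o, ho, n, hn, e1⟩ := (mem_sup_of_le_normalizer_left (inf_le_left.trans nO)).mp hx'
  have os : s * o = o * s := by
    have := mc.mp (hO (conj_mem_of_mem_normalizer' (nO hg) ho))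
    calc s * o = g * (t * (g⁻¹ * o * g)) * g⁻¹ := by rw [← g1]; group
      _ = o * s := by rw [this, ← g1]; group
  have oV : o ∈ centralizer (Vf t s : Set G) := mem_centralizer_Vf.mpr ⟨mc.mp (hO ho), os⟩
  have h1 := conj_mem_of_mem_normalizer hn.2 h.sV
  have h2 : x * s * x⁻¹ = n * s * n⁻¹ := by
    have := mem_centralizer_iff.mp oV _ h1
    calc x * s * x⁻¹ = o * (n * s * n⁻¹) * o⁻¹ := by rw [← e1]; group
      _ = n * s * n⁻¹ := by rw [← this]; group
  have h3 : x * s * x⁻¹ * s ∈ Vf t s := h2 ▸ mul_mem h1 h.sV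
  rw [← hx.2, show x * s * (s * x * s) * s = x * (s * s) * x * (s * s) by group, h.ss, mul_one,
    mul_one] at h3
  have h4 := inf_eq_bot_of_isPGroup_of_not_dvd h.k4.two h.oddK
  have : x ∈ Vf t s ⊓ h.KK := ⟨mem_of_sq h.oddK hx h3, hx⟩
  rwa [h4] at this)

end Mx

/-- the properties of the simple normal subgroup `L` of `C(y)` -/
structure Good (h : Mx t s w) (L : Subgroup G) : Prop where
  simple : IsSimpleGroup L
  tL : t ∈ L
  sL : s ∈ L
  KL : h.KK ≤ L
  cent : ∀ g ∈ L, t * g = g * t → ∃ x ∈ h.KK, g = x ∨ g = x * t ∨ g = x * s ∨ g = x * (t * s)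
  F0 : ∀ f ∈ FF t, s * f = f * s → L ≤ centralizer {f}
  ti : ∀ x ∈ h.KK, x ≠ 1 → ∀ g ∈ L, x * g = g * x → t * g = g * t
  rot : ∃ g ∈ L, g * t * g⁻¹ = s ∧ g * s * g⁻¹ = t * s
  ord : 6 * Nat.card h.KK ^ 2 ≤ (centralizer {t}).relIndex L

theorem cent_sub {L : Subgroup G} {a : G} (ha : a ∈ L) :
    centralizer ({⟨a, ha⟩} : Set L) = (centralizer {a}).subgroupOf L := by
  ext g
  rw [mem_subgroupOf, mc, mc, Subtype.ext_iff]; rfl

namespace Mx

theorem not_mem_U (h : Mx t s w) {v : G} (hv : v ∈ UU t) : v ≠ t ∧ v ≠ s ∧ v ≠ t * s :=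
  ⟨fun e => h.t1 (e ▸ eq_one_of_sq (oddU t) hv (e ▸ h.tt)),
    fun e => h.s1 (e ▸ eq_one_of_sq (oddU t) hv (e ▸ h.ss)),
    fun e => h.toV4.ts1 (e ▸ eq_one_of_sq (oddU t) hv (e ▸ h.toV4.tsts))⟩

theorem eq_of_cases (h : Mx t s w) {g x : G} (hg : g ∈ UU t) (hx : x ∈ UU t)
    (e : g = x ∨ g = x * t ∨ g = x * s ∨ g = x * (t * s)) : g = x := by
  have h1 := h.not_mem_U (mul_mem (inv_mem hx) hg)
  rcases e with e | e | e | e
  · exact e
  · exact (h1.1 (by rw [e]; group)).elim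
  · exact (h1.2.1 (by rw [e]; group)).elim
  · exact (h1.2.2 (by rw [e]; group)).elim

/-- `F` centralises an abelian subgroup of `U` which it normalises -/
theorem le_F (h : Mx t s w) {K : Subgroup G} (hKU : K ≤ UU t) (hK : Group.IsNilpotent K)
    (hn : FF t ≤ normalizer (K : Set G)) : K ≤ FF t := by
  refine le_trans ?_ (inf_centralizer_fittingOf_le_of_isSolvable (solv_of_odd (oddU t)))
  refine le_inf hKU (le_of_isNilpotent_of_forall_OpOf hK fun q hq => ?_)
  haveI := Fact.mk hq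
  rw [le_centralizer_iff]
  refine fittingOf_le_of_forall_OpOf fun r hr => ?_
  haveI := Fact.mk hr
  have n1 : OpOf r (UU t) ≤ normalizer (OpOf q K : Set G) :=
    (OpOf_le_fittingOf _).trans (le_normalizer_OpOf hn)
  by_cases e : r = q
  · subst e
    exact h.hA.comm_of_sup (OpOf_isPGroup _) (OpOf_isPGroup _) n1
  · refine le_centralizer_of_inf_eq_bot n1
      (((OpOf_le _).trans hKU).trans (le_normalizer_OpOf (le_normalizer_of_le le_rfl))) ?_
    exact inf_eq_bot_of_isPGroup_of_not_dvd (OpOf_isPGroup _)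
      (not_dvd_card_of_isPGroup (OpOf_isPGroup _) e)

theorem good (h : Mx t s w) (ih : IH4.{u} (Nat.card G)) (hK : h.KK ≠ ⊥) {L : Subgroup G} {g : G}
    (ht : t ∈ L) (hs : s ∈ L) (hg : g ∈ L) (hL : L ≠ ⊤) (hF : FF t ≤ normalizer (L : Set G))
    (h4 : V4 (⟨t, ht⟩ : L) ⟨s, hs⟩ ⟨g, hg⟩) : Good h L := by
  obtain ⟨K', hv⟩ := ih L (card_lt_of_ne_top hL) (h.hA.subgroup L) _ _ _ h4
  have KL := h.K_le hs hF
  have g1 : g * t * g⁻¹ = s := congrArg Subtype.val h4.wt
  have g2 : g * s * g⁻¹ = t * s := congrArg Subtype.val h4.ws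
  set K := K'.map L.subtype with hKd
  have Ko : ¬ 2 ∣ Nat.card K := by
    rw [hKd, card_map_subtype]; exact (Nat.not_even_iff_odd.mpr hv.Kodd) ∘ even_iff_two_dvd.mpr
  have Kt : K ≤ centralizer {t} := by
    rintro _ ⟨x, hx, rfl⟩; exact mc.mpr (congrArg Subtype.val (hv.Kt x hx))
  have Ks : ∀ x ∈ K, s * x * s = x⁻¹ := by
    rintro _ ⟨x, hx, rfl⟩; exact congrArg Subtype.val (hv.Ks x hx)
  have KU := h.le_U Kt Ko
  have cent : ∀ a ∈ L, t * a = a * t →
      ∃ x ∈ K, a = x ∨ a = x * t ∨ a = x * s ∨ a = x * (t * s) := by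
    intro a ha e
    obtain ⟨x, hx, b, hb, e1⟩ := hv.cent ⟨a, ha⟩ (Subtype.ext e)
    rw [mem_bot.mp hb, mul_one] at e1
    refine ⟨x, ⟨x, hx, rfl⟩, ?_⟩
    rcases e1 with e1 | e1 | e1 | e1
    exacts [.inl (congrArg Subtype.val e1), .inr (.inl (congrArg Subtype.val e1)),
      .inr (.inr (.inl (congrArg Subtype.val e1))), .inr (.inr (.inr (congrArg Subtype.val e1)))]
  have memK : ∀ a ∈ L, a ∈ UU t → a ∈ K := fun a ha hU => by
    obtain ⟨x, hx, e⟩ := cent a ha (mc.mp (UH t hU))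
    rw [h.eq_of_cases hU (KU hx) e]; exact hx
  have Kc : ∀ a ∈ K, ∀ b ∈ K, a * b = b * a := fun a ha b hb => by
    have e := Ks _ (mul_mem ha hb)
    rw [show s * (a * b) * s = (s * a * s) * (s * b * s) by
      simp only [mul_assoc, ← mul_assoc s s, h.ss, one_mul], Ks a ha, Ks b hb, ← mul_inv_rev] at e
    exact (inv_injective e).symm
  have KF : K ≤ FF t := h.le_F KU
    (isNilpotent_of_isMulCommutative ⟨⟨fun a b => Subtype.ext (Kc _ a.2 _ b.2)⟩⟩)
    fun f hf => mem_normalizer_of_conj_mem fun x hx => memK _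
      (conj_mem_of_mem_normalizer (hF hf) (map_subtype_le _ hx))
      (mul_mem (mul_mem (FU t hf) (KU hx)) (inv_mem (FU t hf)))
  have eK : K = h.KK := le_antisymm (fun x hx => ⟨KF hx, Ks x hx⟩)
    fun x hx => memK x (KL hx) (FU t hx.1)
  rw [eK] at cent
  have memK' : ∀ x (hx : x ∈ h.KK), (⟨x, KL hx⟩ : L) ∈ K' := fun x hx => by
    have := hx
    rw [← eK] at this
    obtain ⟨y, hy, e⟩ := this
    rwa [show (⟨x, KL hx⟩ : L) = y from Subtype.ext e.symm]
  have K'ne : K' ≠ ⊥ := fun e => hK (by rw [← eK, hKd, e, Subgroup.map_bot])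
  refine ⟨h4.simple, ht, hs, KL, cent, fun f hf fs => ?_, fun x hx x1 a ha e => ?_,
    ⟨g, hg, g1, g2⟩, ?_⟩
  · have ft := Ft hf
    have key : (⊤ : Subgroup L) ≤ (centralizer {f}).subgroupOf L := by
      rw [← hv.gen K'ne, sup_le_iff]
      constructor
      · intro a ha
        obtain ⟨x, hx, e⟩ := cent a a.2 (congrArg Subtype.val (mc.mp ha))
        have xf : x ∈ centralizer ({f} : Set G) := mc.mpr (h.Fcomm hf hx.1)
        have tf : t ∈ centralizer ({f} : Set G) := mc.mpr ft.symm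
        have sf : s ∈ centralizer ({f} : Set G) := mc.mpr fs.symm
        rw [mem_subgroupOf]
        rcases e with e | e | e | e <;> rw [e]
        exacts [xf, mul_mem xf tf, mul_mem xf sf, mul_mem xf (mul_mem tf sf)]
      · rw [zpowers_le, mem_subgroupOf]
        show g ∈ _
        have fV : f ∈ centralizer (Vf t s : Set G) := mem_centralizer_Vf.mpr ⟨ft, fs⟩
        have gV : g ∈ normalizer (Vf t s : Set G) := mem_normalizer_of_conj_mem fun x hx => by
          rcases h.k4.mem_Vf.mp hx with rfl | rfl | rfl | rfl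
          · simp
          · rw [g1]; exact h.sV
          · rw [g2]; exact mul_mem h.tV h.sV
          · rw [show g * (t * s) * g⁻¹ = (g * t * g⁻¹) * (g * s * g⁻¹) by group, g1, g2]
            exact mul_mem h.sV (mul_mem h.tV h.sV)
        have f1 := conj_mem_of_mem_normalizer (normalizer_le_normalizer_centralizer _ gV) fV
        have f1' := mem_centralizer_Vf.mp f1
        have f1U : g * f * g⁻¹ ∈ UU t :=
          h.mem_U (X := (FF t).map (MulAut.conj g).toMonoidHom) (by rw [card_map_conj]; exact oddF t)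
            (conj_mem_map_conj.mpr hf) f1'.1
        have vL : g * f * g⁻¹ * f⁻¹ ∈ L := by
          simpa only [mul_assoc] using mul_mem hg (conj_mem_of_mem_normalizer (hF hf) (inv_mem hg))
        have vK := memK _ vL (mul_mem f1U (inv_mem (FU t hf)))
        rw [eK] at vK
        have := h.K_inf vK (mem_centralizer_Vf.mp (mul_mem f1 (inv_mem fV))).2
        rw [mc]
        calc f * g = (g * f * g⁻¹ * f⁻¹) * (f * g) := by rw [this, one_mul]
          _ = g * f := by group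
    intro a ha
    exact mem_subgroupOf.mp (key (mem_top (⟨a, ha⟩ : L)))
  · exact congrArg Subtype.val (hv.ti _ (memK' x hx) (fun e => x1 (congrArg Subtype.val e))
      ⟨a, ha⟩ (Subtype.ext e))
  · have ho := h4.order.1
    rw [cent_sub, cent_sub, ← inf_subgroupOf_right (centralizer {t}),
      relIndex_subgroupOf inf_le_right, inf_subgroupOf_right] at ho
    refine le_trans (Nat.mul_le_mul_left _ (Nat.pow_le_pow_left ?_ 2)) ho
    have e := card_inf_mul_relIndex (centralizer {s}) h.KK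
    rw [show centralizer {s} ⊓ h.KK = ⊥ from eq_bot_iff.mpr fun x hx =>
      h.K_inf hx.2 (mc.mp hx.1), card_bot, one_mul] at e
    rw [← e]
    exact relIndex_le_of_le_right (le_inf (h.KF.trans ((FU t).trans (UH t))) KL) index_ne_zero_of_finite

/-- existence of `L` -/
theorem exists_good (h : Mx t s w) (ih : IH4.{u} (Nat.card G)) (hK : h.KK ≠ ⊥) {y g : G}
    (hy : y ∈ FF t) (y1 : y ≠ 1) (ys : s * y = y * s) (hg : y * g = g * y) (g1 : g * t * g⁻¹ = s)
    (g2 : g * s * g⁻¹ = t * s) :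
    ∃ L, Good h L ∧ centralizer {y} ≤ normalizer (L : Set G) := by
  have hF : FF t ≤ centralizer {y} := fun f hf => mc.mpr (h.Fcomm hy hf)
  have ht : t ∈ centralizer ({y} : Set G) := mc.mpr (Ft hy).symm
  have hs : s ∈ centralizer ({y} : Set G) := mc.mpr ys.symm
  have hO := h.star hF ht hs (mc.mpr hg) g1 g2
  obtain ⟨L, g', ht', hs', hg', h1, h2, -, h4⟩ := h.k4.over_cent h.hA (h.V_le ht hs)
    (h.not_solv hK hF ht hs (mc.mpr hg) g1 hO) hO
  exact ⟨L, h.good ih hK ht' hs' hg' (fun e => h.cent_ne_top y1 (top_le_iff.mp (e ▸ h1)))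
    (hF.trans h2) h4, h2⟩

end Mx

namespace Good

variable {h : Mx t s w} {L : Subgroup G}

theorem le_of (hL : Good h L) {L' : Subgroup G} (ht : t ∈ L')
    (hn : L ≤ normalizer (L' : Set G)) : L ≤ L' := by
  haveI := hL.simple
  have hN : (L'.subgroupOf L).Normal := ⟨fun a ha g =>
    mem_subgroupOf.mpr (conj_mem_of_mem_normalizer (hn g.2) (mem_subgroupOf.mp ha))⟩
  rcases hN.eq_bot_or_eq_top with e | e
  · have : (⟨t, hL.tL⟩ : L) ∈ L'.subgroupOf L := mem_subgroupOf.mpr ht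
    rw [e, mem_bot] at this
    exact (h.t1 (congrArg Subtype.val this)).elim
  · exact subgroupOf_eq_top.mp e

/-- `L` is normal in the centraliser of every nontrivial element of `C_F(s)` -/
theorem cent_le (hL : Good h L) (ih : IH4.{u} (Nat.card G)) (hK : h.KK ≠ ⊥) {y0 : G}
    (hy0 : y0 ∈ FF t) (s0 : s * y0 = y0 * s) (h0 : centralizer {y0} ≤ normalizer (L : Set G))
    {y : G} (hy : y ∈ FF t) (y1 : y ≠ 1) (ys : s * y = y * s) :
    centralizer {y} ≤ normalizer (L : Set G) := by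
  obtain ⟨g, hg, g1, g2⟩ := hL.rot
  obtain ⟨L', hL', h1⟩ := h.exists_good ih hK hy y1 ys (mc.mp (hL.F0 y hy ys hg)) g1 g2
  rwa [le_antisymm (hL.le_of hL'.tL ((hL.F0 y hy ys).trans h1))
    (hL'.le_of hL.tL ((hL'.F0 y0 hy0 s0).trans h0))]

theorem mem_norm (hL : Good h L) {y g : G} (hy : y ∈ FF t)
    (h0 : centralizer {y} ≤ normalizer (L : Set G)) (hg : t * g = g * t)
    (ys : s * (g * y * g⁻¹) = g * y * g⁻¹ * s) : g ∈ normalizer (L : Set G) := by
  have h1 := hL.F0 _ (conj_mem_of_mem_normalizer (HnF t (mc.mpr hg)) hy) ys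
  rw [← map_conj_centralizer_singleton] at h1
  have h2 := h1.trans (map_mono (f := (MulAut.conj g).toMonoidHom) h0)
  rw [map_conj_normalizer] at h2
  have h3 := hL.le_of (L' := L.map (MulAut.conj g).toMonoidHom)
    (mem_map_conj.mpr (by rw [mul_assoc, hg, inv_mul_cancel_left]; exact hL.tL)) h2
  have : g⁻¹ ∈ normalizer (L : Set G) := mem_normalizer_of_conj_mem fun x hx => by
    rw [inv_inv]; exact mem_map_conj.mp (h3 hx)
  simpa using inv_mem this

/-- two distinct conjugates of `L` share at most one involution -/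
theorem key (hL : Good h L) {y g b : G} (hy : y ∈ FF t) (ys : s * y = y * s)
    (h0 : centralizer {y} ≤ normalizer (L : Set G)) (hg : t * g = g * t)
    (hn : g ∉ normalizer (L : Set G)) (hb : b ∈ L) (hb' : g⁻¹ * b * g ∈ L) (bb : b * b = 1)
    (b1 : b ≠ 1) : b = t := by
  have y1F := conj_mem_of_mem_normalizer (HnF t (mc.mpr hg)) hy
  have y1s : ¬ s * (g * y * g⁻¹) = g * y * g⁻¹ * s := fun e => hn (hL.mem_norm hy h0 hg e)
  have y1b : b ∈ centralizer {g * y * g⁻¹} := by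
    rw [← map_conj_centralizer_singleton]; exact mem_map_conj.mpr (hL.F0 y hy ys hb')
  generalize g * y * g⁻¹ = z at y1F y1s y1b
  obtain ⟨c, hc, -, cs⟩ := h.decF y1F
  have c1 : c ≠ 1 := fun e => y1s (by simpa [e] using cs)
  have h1 : c⁻¹ * z ∈ centralizer ({b} : Set G) :=
    mc.mpr (mc.mp (hL.F0 _ (mul_mem (inv_mem hc.1) y1F) cs hb)).symm
  have h2 : z ∈ centralizer ({b} : Set G) := mc.mpr (mc.mp y1b).symm
  have h3 : c ∈ centralizer ({b} : Set G) := by simpa using mul_mem h2 (inv_mem h1)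
  obtain ⟨x, hx, e⟩ := hL.cent b hb (hL.ti c hc c1 b hb (mc.mp h3).symm)
  have xz : x ∈ centralizer ({z} : Set G) := mc.mpr (h.Fcomm y1F hx.1)
  have tz : t ∈ centralizer ({z} : Set G) := mc.mpr (Ft y1F).symm
  rcases e with e | e | e | e
  · exact (b1 (eq_one_of_sq h.oddK (e ▸ hx) bb)).elim
  · have : x * x = 1 := by
      rw [e, show x * t * (x * t) = x * (t * x) * t by group, Ft hx.1,
        show x * (x * t) * t = x * x * (t * t) by group, h.tt, mul_one] at bb
      exact bb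
    rw [e, eq_one_of_sq h.oddK hx this, one_mul]
  · have : s ∈ centralizer ({z} : Set G) := by
      have := mul_mem (inv_mem xz) y1b
      rwa [e, inv_mul_cancel_left] at this
    exact (y1s (mc.mp this).symm).elim
  · have : s ∈ centralizer ({z} : Set G) := by
      have := mul_mem (inv_mem tz) (mul_mem (inv_mem xz) y1b)
      rwa [e, inv_mul_cancel_left, inv_mul_cancel_left] at this
    exact (y1s (mc.mp this).symm).elim

theorem count (hL : Good h L) {y : G} (hy : y ∈ FF t) (ys : s * y = y * s)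
    (h0 : centralizer {y} ≤ normalizer (L : Set G)) :
    (centralizer {t}).relIndex L *
      ((normalizer (L : Set G)).relIndex (centralizer {t}) - 1) ≤ (normalizer (L : Set G)).index := by
  classical
  set H := centralizer ({t} : Set G)
  set N := normalizer (L : Set G)
  let Φ : (L ⧸ H.subgroupOf L) × {q : H ⧸ N.subgroupOf H // q ≠ ((1 : H) : H ⧸ N.subgroupOf H)} →
      G ⧸ N := fun a => (((a.1.out : G) * (a.2.1.out : G) : G) : G ⧸ N)
  have hinj : Function.Injective Φ := by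
    rintro ⟨a, q, hq⟩ ⟨a', q', hq'⟩ e
    have e1 := QuotientGroup.eq.mp e
    simp only at e1
    have hn : (q.out : G) ∉ N := fun e2 => hq (by
      rw [← q.out_eq']
      exact QuotientGroup.eq.mpr (by simpa [mem_subgroupOf] using e2))
    have hm : (a.out : G)⁻¹ * a'.out ∈ L := mul_mem (inv_mem a.out.2) a'.out.2
    have t1 := mc.mp q.out.2
    have t2 := mc.mp q'.out.2
    have hb := hL.key hy ys h0 t1 hn (mul_mem (mul_mem hm hL.tL) (inv_mem hm))
      (by
        have := conj_mem_of_mem_normalizer e1 hL.tL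
        convert this using 1
        calc _ = (q.out : G)⁻¹ * ((a.out : G)⁻¹ * a'.out) * (t * q'.out) * (q'.out : G)⁻¹ *
              ((a.out : G)⁻¹ * a'.out)⁻¹ * q.out := by group
          _ = _ := by rw [t2]; group)
      (by
        calc _ = ((a.out : G)⁻¹ * a'.out) * (t * t) * ((a.out : G)⁻¹ * a'.out)⁻¹ := by group
          _ = 1 := by rw [h.tt]; group)
      (fun e2 => h.t1 (by
        calc t = ((a.out : G)⁻¹ * a'.out)⁻¹ * ((a.out : G)⁻¹ * a'.out * t *
              ((a.out : G)⁻¹ * a'.out)⁻¹) * ((a.out : G)⁻¹ * a'.out) := by group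
          _ = 1 := by rw [e2]; group))
    have ea : a = a' := by
      rw [← a.out_eq', ← a'.out_eq']
      refine QuotientGroup.eq.mpr (mem_subgroupOf.mpr (mc.mpr ?_))
      show t * ((a.out : G)⁻¹ * a'.out) = (a.out : G)⁻¹ * a'.out * t
      nth_rewrite 1 [← hb]; group
    subst ea
    have eq : q = q' := by
      rw [← q.out_eq', ← q'.out_eq']
      refine QuotientGroup.eq.mpr (mem_subgroupOf.mpr ?_)
      simpa [mul_assoc] using e1
    subst eq
    rfl
  have hc := Nat.card_le_card_of_injective Φ hinj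
  rw [Nat.card_prod] at hc
  haveI := Fintype.ofFinite (H ⧸ N.subgroupOf H)
  have e : Nat.card {q : H ⧸ N.subgroupOf H // q ≠ ((1 : H) : H ⧸ N.subgroupOf H)} =
      Nat.card (H ⧸ N.subgroupOf H) - 1 := by
    rw [Nat.card_eq_fintype_card, Nat.card_eq_fintype_card, Fintype.card_subtype_compl,
      Fintype.card_subtype_eq]
  rwa [e] at hc

/-- `|C(t) ∩ N(L) : C(V)| ≤ |K|` -/
theorem idx1 (hL : Good h L) :
    (centralizer {s}).relIndex (normalizer (L : Set G) ⊓ centralizer {t}) ≤ Nat.card h.KK := by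
  set X := normalizer (L : Set G) ⊓ centralizer {t}
  have KX : h.KK ≤ X := le_inf (hL.KL.trans (le_normalizer_of_le le_rfl))
    (h.KF.trans ((FU t).trans (UH t)))
  refine Nat.card_le_card_of_surjective
    (fun x : h.KK => ((⟨x, KX x.2⟩ : X) : X ⧸ (centralizer {s}).subgroupOf X)) fun q => ?_
  obtain ⟨g, rfl⟩ := QuotientGroup.mk_surjective q
  have zU := h.comm_mem_U (mc.mp g.2.2)
  obtain ⟨x, hx, e⟩ := hL.cent _ (mul_mem (conj_mem_of_mem_normalizer g.2.1 hL.sL) hL.sL)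
    (mc.mp (UH t zU))
  have e1 := h.eq_of_cases zU (FU t hx.1) e
  obtain ⟨c, hc, -, cs⟩ := h.decK (u := g) (e1 ▸ hx.1)
  exact ⟨⟨c, hc⟩, QuotientGroup.eq.mpr (mem_subgroupOf.mpr (mc.mpr cs))⟩

/-- `|C(t) : C(t) ∩ N(L)| ≤ |K|` -/
theorem idx2 (hL : Good h L) {y : G} (hy : y ∈ FF t) (y1 : y ≠ 1) (ys : s * y = y * s)
    (h0 : ∀ y ∈ FF t, y ≠ 1 → s * y = y * s → centralizer {y} ≤ normalizer (L : Set G)) :
    (normalizer (L : Set G)).relIndex (centralizer {t}) ≤ Nat.card h.KK := by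
  set H := centralizer ({t} : Set G)
  set N := normalizer (L : Set G)
  have ex : ∀ g : H, ∃ c ∈ h.KK, ∃ f ∈ FF t, f ≠ 1 ∧ s * f = f * s ∧ y * c = g * f * (g : G)⁻¹ := by
    intro g
    have Fn : ∀ A B : Subgroup G, A ≤ FF t → B ≤ FF t → A ≤ normalizer (B : Set G) :=
      fun A B hA hB => le_normalizer_of_le_centralizer fun a ha =>
        mem_centralizer_iff.mpr fun b hb => h.Fcomm (hB hb) (hA ha)
    set F0 := FF t ⊓ centralizer {s}
    set A := F0.map (MulAut.conj (g : G)).toMonoidHom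
    have AF : A ≤ FF t := map_conj_le_of_le inf_le_left (HnF t g.2)
    have i1 : F0 ⊓ h.KK = ⊥ := eq_bot_iff.mpr fun x hx => h.K_inf hx.2 (mc.mp hx.1.2)
    have i2 : A ⊓ h.KK = ⊥ := eq_bot_iff.mpr fun x hx => by
      by_contra x1
      refine h.not_four hx.2 x1 ?_
      rw [← h.toV4.card_VV, ← card_map_conj _ (g : G)]
      refine card_dvd_of_le (map_conj_le_iff.mpr fun v hv => mc.mpr ?_)
      have hx' := mem_map_conj.mp hx.1
      have : v * ((g : G)⁻¹ * x * g) = (g : G)⁻¹ * x * g * v :=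
        mem_centralizer_iff.mp (mem_centralizer_Vf.mpr ⟨Ft hx'.1, mc.mp hx'.2⟩) v
          (h.k4.mem_Vf.mpr (h.toV4.mem_VV.mp hv))
      calc x * (g * v * (g : G)⁻¹) = g * ((g : G)⁻¹ * x * g * v) * (g : G)⁻¹ := by group
        _ = _ := by rw [← this]; group
    have s1 : F0 ⊔ h.KK = FF t := le_antisymm (sup_le inf_le_left h.KF) fun x hx => by
      obtain ⟨c, hc, -, cs⟩ := h.decF hx
      have := mul_mem (mem_sup_right (S := F0) hc)
        (mem_sup_left (T := h.KK)
          (mem_inf.mpr ⟨mul_mem (inv_mem (h.KF hc)) hx, mc.mpr cs⟩ : c⁻¹ * x ∈ F0))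
      rwa [mul_inv_cancel_left] at this
    have c1 := card_sup_mul_card_inf (Fn F0 h.KK inf_le_left h.KF)
    have c2 := card_sup_mul_card_inf (Fn A h.KK AF h.KF)
    rw [i1, s1, card_bot, mul_one] at c1
    rw [i2, card_bot, mul_one, card_map_conj, ← c1] at c2
    have s2 : A ⊔ h.KK = FF t := eq_of_le_of_card_ge (sup_le AF h.KF) c2.ge
    obtain ⟨a, ha, c, hc, e⟩ := (mem_sup_of_le_normalizer_right (Fn A h.KK AF h.KF)).mp (s2 ▸ hy)
    have ha' := mem_map_conj.mp ha
    refine ⟨c⁻¹, inv_mem hc, _, ha'.1, fun e1 => y1 ?_, mc.mp ha'.2, by rw [← e]; group⟩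
    have : a = 1 := by
      calc a = g * ((g : G)⁻¹ * a * g) * (g : G)⁻¹ := by group
        _ = 1 := by rw [e1]; group
    rw [this, one_mul] at e
    exact h.K_inf (e ▸ hc) ys
  choose c hc f hf f1 fs e using ex
  refine Nat.card_le_card_of_injective
    (fun q : H ⧸ N.subgroupOf H => (⟨c q.out, hc _⟩ : h.KK)) fun q q' e1 => ?_
  have e2 : c q.out = c q'.out := congrArg Subtype.val e1
  rw [← q.out_eq', ← q'.out_eq']
  refine QuotientGroup.eq.mpr (mem_subgroupOf.mpr ?_)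
  refine hL.mem_norm (hf q'.out) (h0 _ (hf _) (f1 _) (fs _))
    (mc.mp (mul_mem (inv_mem q.out.2) q'.out.2)) ?_
  have e3 : (((q.out)⁻¹ * q'.out : H) : G) * f q'.out * (((q.out)⁻¹ * q'.out : H) : G)⁻¹ =
      f q.out := by
    calc _ = (q.out : G)⁻¹ * (q'.out * f q'.out * (q'.out : G)⁻¹) * q.out := by
          simp only [coe_mul, coe_inv]; group
      _ = _ := by rw [← e, ← e2, e]; group
  rw [e3]; exact fs _

end Good

namespace Mx

/-- configuration X is impossible -/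
theorem no_X (h : Mx t s w) (ih : IH4.{u} (Nat.card G)) (hK : h.KK ≠ ⊥) {y g : G}
    (hy : y ∈ FF t) (y1 : y ≠ 1) (ys : s * y = y * s) (hg : y * g = g * y) (g1 : g * t * g⁻¹ = s)
    (g2 : g * s * g⁻¹ = t * s) : False := by
  obtain ⟨L, hL, h0⟩ := h.exists_good ih hK hy y1 ys hg g1 g2
  have c1 := hL.count hy ys h0
  have c2 := hL.idx1
  have c3 := hL.idx2 hy y1 ys fun z hz z1 zs => hL.cent_le ih hK hy ys h0 hz z1 zs
  have c4 := hL.ord
  have c5 := h.toV4.order.2
  set H := centralizer ({t} : Set G)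
  set N := normalizer (L : Set G)
  have c6 : H.relIndex L ≤ H.relIndex N :=
    relIndex_le_of_le_right (le_normalizer_of_le le_rfl) index_ne_zero_of_finite
  have c7 : H.relIndex N * N.index = N.relIndex H * H.index := by
    rw [← inf_relIndex_right H, relIndex_mul_index inf_le_right, inf_comm, ← inf_relIndex_right N,
      relIndex_mul_index inf_le_right]
  have c8 : (centralizer {s}).relIndex (N ⊓ H) * N.relIndex H = (centralizer {s}).relIndex H := by
    have a : centralizer {s} ⊓ H ≤ N ⊓ H := fun a ha => ⟨hL.mem_norm hy h0 (mc.mp ha.2) (by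
      have ha1 := (mem_inf.mp ha).1
      exact mc.mp (mul_mem (mul_mem ha1 (mc.mpr ys)) (inv_mem ha1))), ha.2⟩
    have := relIndex_mul_relIndex (centralizer {s} ⊓ H) (N ⊓ H) H a inf_le_right
    rwa [inf_relIndex_right, inf_relIndex_right, ← inf_relIndex_right, inf_assoc,
      inf_eq_right.mpr (inf_le_right : N ⊓ H ≤ H), inf_relIndex_right] at this
  have kpos : 0 < Nat.card h.KK := Nat.card_pos
  have k1 : N.relIndex H = 1 := by
    have k0 : N.relIndex H ≠ 0 := index_ne_zero_of_finite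
    rw [← c8] at c5
    generalize N.relIndex H = k at *
    generalize Nat.card h.KK = m at *
    generalize (centralizer {s}).relIndex (N ⊓ H) = j at *
    generalize H.relIndex L = a at *
    obtain ⟨k, rfl⟩ := Nat.exists_eq_succ_of_ne_zero k0
    simp only [Nat.succ_eq_add_one, Nat.add_sub_cancel] at *
    have d1 : a * (a * k) ≤ (k + 1) * H.index := c7 ▸ Nat.mul_le_mul c6 c1
    have d2 : H.index ≤ 15 * (m * m) ^ 2 :=
      c5.trans (Nat.mul_le_mul_left _ (Nat.pow_le_pow_left (Nat.mul_le_mul c2 c3) 2))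
    have d3 : 6 * m ^ 2 * (6 * m ^ 2 * k) ≤ a * (a * k) :=
      Nat.mul_le_mul c4 (Nat.mul_le_mul_right _ c4)
    have d4 : m ^ 4 * (36 * k) ≤ m ^ 4 * (15 * (k + 1)) := by
      calc m ^ 4 * (36 * k) = 6 * m ^ 2 * (6 * m ^ 2 * k) := by ring
        _ ≤ (k + 1) * (15 * (m * m) ^ 2) := d3.trans (d1.trans (Nat.mul_le_mul_left _ d2))
        _ = _ := by ring
    have := Nat.le_of_mul_le_mul_left d4 (pow_pos kpos 4)
    omega
  obtain ⟨g', hg', g1', -⟩ := hL.rot
  rcases h.max N (relIndex_eq_one.mp k1) with e | e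
  · exact h.wH g1' (mc.mp (e.le (le_normalizer_of_le le_rfl hg')))
  · refine h.norm_ne_top (X := L) (fun e1 => h.t1 (mem_bot.mp (e1 ▸ hL.tL))) (fun e1 => ?_) e
    exact h.cent_ne_top y1 (top_le_iff.mp (e1 ▸ hL.F0 y hy ys))

theorem w_norm (h : Mx t s w) : w ∈ normalizer (Vf t s : Set G) :=
  mem_normalizer_of_conj_mem fun x hx => by
    rcases h.k4.mem_Vf.mp hx with rfl | rfl | rfl | rfl
    · simp
    · rw [h.wt]; exact h.sV
    · rw [h.ws]; exact mul_mem h.tV h.sV
    · rw [h.toV4.wts]; exact h.tV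

/-- `s` centralises or inverts `O_r(U)` -/
theorem pm (h : Mx t s w) (ih : IH4.{u} (Nat.card G)) {r : ℕ} [Fact r.Prime] :
    OpOf r (UU t) ≤ centralizer {s} ∨ ∀ x ∈ OpOf r (UU t), s * x * s = x⁻¹ := by
  by_contra hc
  rw [not_or] at hc
  obtain ⟨hc1, hc2⟩ := hc
  set R := OpOf r (UU t)
  have RF : R ≤ FF t := OpOf_le_fittingOf _
  have RU : R ≤ UU t := OpOf_le _
  have sR : s ∈ normalizer (R : Set G) := le_normalizer_OpOf (HnU t) h.sH
  have R1 : R ≠ ⊥ := fun e => hc1 (e ▸ bot_le)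
  have hK : h.KK ≠ ⊥ := fun e => hc1 fun x hx => by
    obtain ⟨c, hc, -, cs⟩ := h.decF (RF hx)
    rw [e, mem_bot] at hc
    exact mc.mpr (by simpa [hc] using cs)
  obtain ⟨b, hb, b1, bs⟩ : ∃ b ∈ R, b ≠ 1 ∧ s * b = b * s := by
    by_contra hn
    refine hc2 fun x hx => ?_
    obtain ⟨c, hc, hc', cs⟩ := h.decF (RF hx)
    have : c⁻¹ * x = 1 := by
      by_contra e
      exact hn ⟨_, mul_mem (inv_mem (zpowers_le_of_mem (conj_mem h.ss sR hx) hc')) hx, e, cs⟩
    rw [← inv_mul_eq_one.mp this]; exact hc.2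
  have bt := Ft (RF hb)
  have tM : t ∈ centralizer ({b} : Set G) := mc.mpr bt.symm
  have sM : s ∈ centralizer ({b} : Set G) := mc.mpr bs.symm
  have VM := h.V_le tM sM
  by_cases hB : centralizer {b} ⊓ normalizer (Vf t s : Set G) ≤ centralizer (Vf t s : Set G)
  · have hO := burnside_sup (h.k4.syl VM) hB
    have cU := h.k4.coprimeAct (h.VH.trans (HnU t)) (oddU t)
    -- Sylow subgroups of `U` are Sylow in `G`
    have top : ∀ P, IsSyl r P (UU t) → IsSyl r P ⊤ := fun P hP => by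
      obtain ⟨S, hS, PS⟩ := exists_isSyl_ge hP.isPGroup (le_top : P ≤ ⊤)
      have SH : S ≤ centralizer {t} :=
        (h.hA.le_centralizer hS.isPGroup le_rfl ((OpOf_le_of_isSyl hP).trans PS)).trans
          (h.cent_Op R1)
      have r2 : 2 ≠ r := fun e => R1 (eq_bot_of_isPGroup_of_not_dvd (OpOf_isPGroup _)
        (e ▸ not_dvd_card_of_le (oddU t) RU))
      rwa [← hP.eq_of_le hS.isPGroup PS (h.le_U SH (not_dvd_card_of_isPGroup hS.isPGroup r2))]
    obtain ⟨P, hP, VP⟩ := cU.exists_isSyl r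
    have RP : R ≤ P := OpOf_le_of_isSyl hP
    have bV : b ∈ centralizer (Vf t s : Set G) := mem_centralizer_Vf.mpr ⟨bt, bs⟩
    have bV' := conj_mem_of_mem_normalizer' (normalizer_le_normalizer_centralizer _ h.w_norm) bV
    have zp : IsPGroup r (zpowers (w⁻¹ * b * w)) := by
      obtain ⟨k, hk⟩ := pow_eq_one_of_isPGroup (OpOf_isPGroup (UU t)) hb
      refine isPGroup_zpowers (k := k) ?_
      have := conj_pow (a := w⁻¹) (b := b) (i := r ^ k)
      rw [inv_inv] at this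
      rw [this, hk]; group
    have zU : w⁻¹ * b * w ∈ UU t :=
      h.mem_U (X := (UU t).map (MulAut.conj w⁻¹).toMonoidHom) (by rw [card_map_conj]; exact oddU t)
        (mem_map_conj.mpr (by simpa [mul_assoc] using RU hb)) (mem_centralizer_Vf.mp bV').1
    obtain ⟨P2, hP2, VP2, zP2⟩ := cU.exists_isSyl_ge zp (zpowers_le_of_mem zU)
      (le_normalizer_of_le_centralizer (le_centralizer_iff.mp (zpowers_le_of_mem bV')))
    have hP' := (top P2 hP2).conj_of_mem_normalizer (g := w) (by rw [normalizer_eq_top]; trivial)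
    set P' := P2.map (MulAut.conj w).toMonoidHom
    have bP' : b ∈ P' := mem_map_conj.mpr (zP2 (mem_zpowers _))
    have VP' : Vf t s ≤ normalizer (P' : Set G) := by
      rw [← map_conj_normalizer, ← map_conj_eq_iff.mpr h.w_norm]; exact map_mono VP2
    have P's : P' ≤ centralizer {s} := by
      rw [← h.wt, ← map_conj_centralizer_singleton]; exact map_mono (hP2.le.trans (UH t))
    have oP := not_dvd_card_of_le (oddU t) hP.le
    have oP' : ¬ 2 ∣ Nat.card P' := by rw [card_map_conj]; exact not_dvd_card_of_le (oddU t) hP2.le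
    have l1 := le_O_of_odd h.k4.two VM hO (h.hA.le_centralizer_singleton hP.isPGroup (RP hb)) oP
    have l2 := le_O_of_odd h.k4.two VM hO (h.hA.le_centralizer_singleton hP'.isPGroup bP') oP'
    obtain ⟨c, hc, e⟩ := (h.k4.coprimeAct (VM.trans (le_normalizer_OppOf (le_normalizer_of_le le_rfl)))
      (OppOf_not_dvd _)).exists_conj_isSyl (hP'.mono l2 le_top) ((top P hP).mono l1 le_top) VP' VP
    refine hc1 (RP.trans ?_)
    rw [← e]
    refine map_conj_le_of_le P's (le_normalizer_of_le le_rfl ?_)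
    exact mc.mpr (mem_centralizer_Vf.mp hc.2).2
  · obtain ⟨n, hn, hn'⟩ := SetLike.not_le_iff_exists.mp hB
    rcases h.k4.norm_cases hn.2 with e | ⟨e1, e2⟩ | ⟨e1, e2⟩
    · exact hn' e
    · exact h.no_X ih hK (RF hb) b1 bs (mc.mp hn.1) e1 e2
    · refine h.no_X ih hK (RF hb) b1 bs (g := n⁻¹) (mc.mp (inv_mem hn.1)) (by rw [← e2]; group) ?_
      have : n * (t * s) * n⁻¹ = s := by
        rw [show n * (t * s) * n⁻¹ = (n * t * n⁻¹) * (n * s * n⁻¹) by group, e1, e2, mul_assoc,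
          ← h.comm, h.toV4.ttx]
      nth_rewrite 1 [← this]; group

theorem comm_mem_F (h : Mx t s w) (ih : IH4.{u} (Nat.card G)) {u : G} (hu : u ∈ UU t) :
    u * s * u⁻¹ * s ∈ FF t := by
  refine inf_centralizer_fittingOf_le_of_isSolvable (solv_of_odd (oddU t))
    ⟨conj_mem h.ss (HnU t h.sH) hu, ?_⟩
  refine zpowers_le.mp (le_centralizer_iff.mp (fittingOf_le_of_forall_OpOf fun r hr x hx => ?_))
  haveI := Fact.mk hr
  rw [centralizer_zpowers, mc]
  have n : UU t ≤ normalizer (OpOf r (UU t) : Set G) :=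
    le_normalizer_OpOf (le_normalizer_of_le le_rfl)
  have si := h.toV4.s_inv
  rcases h.pm ih (r := r) with e | e
  · have e1 := mc.mp (e hx)
    have e2 := mc.mp (e (conj_mem_of_mem_normalizer' (n hu) hx))
    calc u * s * u⁻¹ * s * x = u * s * u⁻¹ * (s * x) := by group
      _ = u * (s * (u⁻¹ * x * u)) * u⁻¹ * s := by rw [e1]; group
      _ = _ := by rw [e2]; group
  · have e1 := e x hx
    have e2 := e _ (conj_mem_of_mem_normalizer' (n hu) (inv_mem hx))
    calc u * s * u⁻¹ * s * x = u * s * u⁻¹ * (s * x * s) * s⁻¹ := by group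
      _ = u * (s * (u⁻¹ * x⁻¹ * u) * s) * s⁻¹ * u⁻¹ * s⁻¹ := by rw [e1]; group
      _ = _ := by rw [e2, si]; group

theorem ti (h : Mx t s w) (ih : IH4.{u} (Nat.card G)) {x : G} (hx : x ∈ h.KK) (x1 : x ≠ 1) :
    centralizer {x} ≤ centralizer {t} := by
  set X := centralizer ({x} : Set G)
  have tX : t ∈ X := mc.mpr (Ft hx.1).symm
  have o2 : orderOf t = 2 := orderOf_eq_prime (by simpa [pow_two] using h.tt) h.t1
  have syl : IsSyl 2 (zpowers t) X := ⟨zpowers_le_of_mem tX, isPGroup_zpowers h.toV4.t_pow, fun e => by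
    have := card_mul_relIndex (zpowers_le_of_mem tX)
    rw [Nat.card_zpowers, o2] at this
    exact h.not_four hx x1 (this ▸ Nat.mul_dvd_mul_left 2 e)⟩
  have hO := burnside_sup syl (fun g hg => by
    rw [centralizer_zpowers, mc]
    rcases eq_or_of_mem_zpowers h.tt (conj_mem_of_mem_normalizer hg.2 (mem_zpowers t)) with e | e
    · exact (h.t1 (by simpa using e)).elim
    · nth_rewrite 1 [← e]; group)
  rw [← hO]
  refine sup_le ?_ (zpowers_le_of_mem (tH t))
  have oO : ¬ 2 ∣ Nat.card (OppOf 2 X) := OppOf_not_dvd _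
  have nO : normalizer (X : Set G) ≤ normalizer (OppOf 2 X : Set G) := le_normalizer_OppOf le_rfl
  have Xn : X ≤ normalizer (X : Set G) := le_normalizer_of_le le_rfl
  refine cent_of_fit oO h.tt (nO (Xn tX)) (fittingOf_le_of_forall_OpOf fun q hq => ?_)
  haveI := Fact.mk hq
  have nQ : normalizer (X : Set G) ≤ normalizer (OpOf q (OppOf 2 X) : Set G) := le_normalizer_OpOf nO
  have oQ := not_dvd_card_of_le oO (OpOf_le (p := q) (OppOf 2 X))
  have pQ := OpOf_isPGroup (p := q) (OppOf 2 X)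
  generalize OpOf q (OppOf 2 X) = Q at nQ oQ pQ
  rcases h.le_or pQ oQ (fun f hf => nQ (Xn (mc.mpr (h.Fcomm hx.1 hf)))) with h1 | ⟨h1, h2⟩
  · exact h1
  have inv : ∀ y ∈ Q, t * y * t = y⁻¹ := fun y hy => by
    have hz := conj_mem h.tt (nQ (Xn tX)) hy
    obtain ⟨c, hc, c1, c2⟩ := decomp oQ h.tt y hz
    have : c⁻¹ * y ∈ Q ⊓ centralizer {t} :=
      mem_inf.mpr ⟨mul_mem (inv_mem (zpowers_le_of_mem hz hc)) hy, mc.mpr c2⟩
    rw [h1, mem_bot] at this
    rw [← inv_mul_eq_one.mp this]; exact c1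
  have aux : ∀ g : G, ∀ y ∈ Q, t * (g * y * g⁻¹) = g * y * g⁻¹ * t →
      s * (g * y * g⁻¹) * s = (g * y * g⁻¹)⁻¹ → y = 1 := fun g y hy e1 e2 => by
    have hm := (conj_mem_map_conj (g := g)).mpr hy
    have zU := h.mem_U (by rw [card_map_conj]; exact oQ) hm e1
    have zF : g * y * g⁻¹ ∈ FF t := mem_of_sq (oddU t) zU (by
      have := h.comm_mem_F ih zU
      rwa [← e2, show ∀ z : G, z * s * (s * z * s) * s = z * (s * s) * z * (s * s) from
        fun z => by group, h.ss, mul_one, mul_one] at this)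
    have := le_OpOf_of_le_fittingOf (isPGroup_zpowers_of_mem (pQ.map _) hm) (zpowers_le_of_mem zF)
      (mem_zpowers _)
    rw [h2, mem_bot] at this
    simpa using this
  refine (h.k4.gen (h.V_le (nQ (Xn tX)) (nQ (h.s_norm hx))) oQ h1.le ?_ ?_).trans bot_le
  · rintro y ⟨hy, ys⟩
    have e1 : t * (w⁻¹ * y * w⁻¹⁻¹) = w⁻¹ * y * w⁻¹⁻¹ * t := by
      calc _ = w⁻¹ * ((w * t * w⁻¹) * y) * w := by group
        _ = _ := by rw [h.wt, mc.mp ys, ← h.wt]; group
    refine aux w⁻¹ y hy e1 ?_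
    have e2 : (t * s) * (w⁻¹ * y * w⁻¹⁻¹) * (t * s) = (w⁻¹ * y * w⁻¹⁻¹)⁻¹ := by
      calc _ = w⁻¹ * ((w * (t * s) * w⁻¹) * y * (w * (t * s) * w⁻¹)) * w := by group
        _ = _ := by rw [h.toV4.wts, inv y hy]; group
    generalize w⁻¹ * y * w⁻¹⁻¹ = z at e1 e2
    rw [← e2, h.comm]
    calc s * z * s = s * (t * t) * z * s := by rw [h.tt, mul_one]
      _ = s * t * (t * z) * s := by group
      _ = s * t * z * (t * s) := by rw [e1]; group
      _ = _ := by rw [h.comm]
  · rintro y ⟨hy, ys⟩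
    refine aux w y hy ?_ ?_
    · rw [← h.toV4.wts]
      calc _ = w * (t * s * y) * w⁻¹ := by group
        _ = _ := by rw [mc.mp ys]; group
    · rw [← h.wt]
      calc _ = w * (t * y * t) * w⁻¹ := by group
        _ = _ := by rw [inv y hy]; group

end Mx

end C5

/-- the structure of `C(t)` when it is a maximal subgroup -/
theorem V4.local_of_max {G : Type u} [Group G] [Finite G] {t s w : G} (hA : AG G)
    (ih : IH4.{u} (Nat.card G)) (h4 : V4 t s w) (gen : centralizer {t} ⊔ zpowers w = ⊤)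
    (hmax : ∀ M : Subgroup G, centralizer {t} ≤ M → M = centralizer {t} ∨ M = ⊤) :
    ∃ K B, K ≠ ⊥ ∧ VK t s w K B := by
  have h : C5.Mx t s w := ⟨h4, hA, hmax⟩
  have dec : ∀ u ∈ C5.UU t, ∃ c ∈ h.KK, c⁻¹ * u ∈ C5.UU t ⊓ centralizer {s} := fun u hu => by
    obtain ⟨c, hc, -, cs⟩ := h.decK (h.comm_mem_F ih hu)
    exact ⟨c, hc, mem_inf.mpr ⟨mul_mem (inv_mem (C5.FU t (h.KF hc))) hu, C5.mc.mpr cs⟩⟩
  have odd : ∀ {n : ℕ}, ¬ 2 ∣ n → Odd n := fun h => Nat.odd_iff.mpr (by omega)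
  refine ⟨h.KK, C5.UU t ⊓ centralizer {s}, fun e => ?_, h4, odd h.oddK,
    odd (not_dvd_card_of_le (C5.oddU t) inf_le_left), fun x hx => C5.Ft hx.1, fun x hx => hx.2,
    fun b hb => C5.mc.mp (C5.UH t hb.1), fun b hb => C5.mc.mp hb.2, fun b hb x hx => ?_,
    fun g hg => ?_, fun x hx x1 g hg => C5.mc.mp (h.ti ih hx x1 (C5.mc.mpr hg)), fun _ => gen⟩
  · have Hs : centralizer ({t} : Set G) ≤ centralizer {s} := by
      rw [← h.k4.cent_eq]
      refine sup_le (fun u hu => ?_) fun v hv => C5.mc.mpr (h.Vs hv)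
      obtain ⟨c, hc, h1⟩ := dec u hu
      rw [e, mem_bot] at hc
      simpa [hc] using h1.2
    have e1 := (hmax _ Hs).resolve_right (h.cent_ne_top h.s1)
    have : w ∈ normalizer ((centralizer ({t} : Set G) : Subgroup G) : Set G) := by
      rw [← map_conj_eq_iff, map_conj_centralizer_singleton, h.wt, e1]
    rw [h.norm_eq (fun e2 => h.t1 (mem_bot.mp (e2 ▸ C5.Mx.tH t))) le_rfl
      (le_normalizer_of_le le_rfl)] at this
    exact h.wH h.wt (C5.mc.mp this)
  · refine ⟨conj_mem_of_mem_normalizer (C5.HnF t (C5.UH t hb.1)) hx.1, ?_⟩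
    have := C5.mc.mp hb.2
    calc s * (b * x * b⁻¹) * s = (s * b) * x * (s⁻¹ * b)⁻¹ := by group
      _ = b * (s * x * s) * b⁻¹ := by rw [h4.s_inv, this, mul_inv_rev, h4.s_inv]; group
      _ = _ := by rw [hx.2]; group
  · obtain ⟨u, hu, v, hv, rfl⟩ := h.exists_uv hg
    obtain ⟨c, hc, h1⟩ := dec u hu
    refine ⟨c, hc, _, h1, ?_⟩
    rw [mul_inv_cancel_left]
    rcases h.k4.mem_Vf.mp hv with rfl | rfl | rfl | rfl <;> simp

end Cfsg.Agent.Lib.AG
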