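/-
A-groups project (S2554), piece C5 (a): `V`-invariant Sylow subgroups.
-/
import Cfsg.Agent.Lib.AG.Over

set_option autoImplicit false

namespace Cfsg.Agent.Lib.AG

open Subgroup Cfsg.Agent.Lib.Core

variable {G : Type*} [Group G] {t s w : G}

/-- `C_P(a)` is not centralised by `V` -/
def Act (V P : Subgroup G) (a : G) : Prop := ¬ P ⊓ centralizer {a} ≤ centralizer (V : Set G)

theorem Act.mono {V P R : Subgroup G} {a : G} (h : Act V P a) (hP : P ≤ R) : Act V R a :=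
  fun e => h ((inf_le_inf_right _ hP).trans e)

theorem Act.conj {V P : Subgroup G} {a g : G} (h : Act V P a) (hg : g ∈ normalizer (V : Set G)) :
    Act V (P.map (MulAut.conj g).toMonoidHom) (g * a * g⁻¹) := fun e => h fun x hx => by
  have h1 := e (x := g * x * g⁻¹) ⟨conj_mem_map_conj.mpr hx.1, by
    rw [← map_conj_centralizer_singleton]; exact conj_mem_map_conj.mpr hx.2⟩
  simpa [mul_assoc] using conj_mem_of_mem_normalizer' (normalizer_le_normalizer_centralizer _ hg) h1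

theorem le_normalizer_conj {V P : Subgroup G} {g : G} (h : V ≤ normalizer (P : Set G))
    (hg : g ∈ normalizer (V : Set G)) :
    V ≤ normalizer ((P.map (MulAut.conj g).toMonoidHom : Subgroup G) : Set G) := by
  rw [← map_conj_normalizer]
  exact fun x hx => mem_map_conj.mpr (h (conj_mem_of_mem_normalizer' hg hx))

theorem K4.norm_inf (h : K4 t s) {P : Subgroup G} (hV : Vf t s ≤ normalizer (P : Set G)) :
    Vf t s ≤ normalizer ((P ⊓ centralizer {t} : Subgroup G) : Set G) :=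
  le_normalizer_inf hV (h.Vf_le_C.trans le_normalizer)

variable [Finite G] {p : ℕ} [hp : Fact p.Prime]

theorem isSyl_top_conj {P : Subgroup G} (hP : IsSyl p P ⊤) (g : G) :
    IsSyl p (P.map (MulAut.conj g).toMonoidHom) ⊤ :=
  hP.conj_of_mem_normalizer (le_normalizer (mem_top g))

theorem odd_of_isPGroup (hp2 : p ≠ 2) {P : Subgroup G} (hP : IsPGroup p P) : ¬ 2 ∣ Nat.card P :=
  not_dvd_card_of_isPGroup hP hp2.symm

omit hp in
theorem le_centralizer_of_fitting {A U : Subgroup G} (h : CoprimeAct A U)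
    (hU : Group.IsSolvable U) (hF : A ≤ centralizer (fittingOf U : Set G)) :
    U ≤ centralizer (A : Set G) := by
  refine h.le_centralizer (le_trans (le_trans (le_inf ?_ ?_)
    (inf_centralizer_fittingOf_le_of_isSolvable hU)) (le_centralizer_iff.mp hF))
  · exact commutator_le_of_le_normalizer_left h.le_norm
  · exact (commutator_mono le_rfl hF).trans (commutator_le_of_le_normalizer_right
      (le_normalizer_centralizer (le_normalizer_fittingOf le_normalizer)))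

namespace K4

variable (h : K4 t s) (hA : AG G) (hp2 : p ≠ 2)
include h hA hp2

theorem le_D {X R : Subgroup G} (hV : Vf t s ≤ normalizer (X : Set G))
    (hn : ¬ X ≤ centralizer (Vf t s : Set G)) (hR : IsPGroup p R) (hXR : X ≤ R) :
    R ≤ OppOf 2 (centralizer (X : Set G)) := by
  have h1 := (h.syl hV).inf_normal (centralizer_le_normalizer _) (le_normalizer_centralizer le_rfl)
  have h2 : Nat.card ↥(Vf t s ⊓ centralizer (X : Set G)) ≤ 2 := by
    have h3 := card_lt_of_lt (lt_of_le_of_ne inf_le_left fun e =>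
      hn (le_centralizer_iff.mp (inf_eq_left.mp e)) : Vf t s ⊓ centralizer (X : Set G) < Vf t s)
    have h4 := card_dvd_of_le (inf_le_left : Vf t s ⊓ centralizer (X : Set G) ≤ Vf t s)
    rw [h.card_Vf] at h3 h4
    by_contra h5
    have : Nat.card ↥(Vf t s ⊓ centralizer (X : Set G)) = 3 := by omega
    rw [this] at h4; omega
  exact le_O_of_odd h1.isPGroup h1.le (sup_of_card_le_two h1 h2)
    (hA.le_centralizer hR le_rfl hXR) (odd_of_isPGroup hp2 hR)

omit hA hp2 in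
theorem act_D {X : Subgroup G} (hV : Vf t s ≤ normalizer (X : Set G)) :
    CoprimeAct (Vf t s) (OppOf 2 (centralizer (X : Set G))) :=
  h.coprimeAct (le_normalizer_OppOf (le_normalizer_centralizer hV)) (OppOf_not_dvd _)

omit hA hp2 in
theorem act_U : CoprimeAct (Vf t s) (OppOf 2 (centralizer {t})) :=
  h.coprimeAct (le_normalizer_OppOf (h.Vf_le_C.trans le_normalizer)) (OppOf_not_dvd _)

theorem ext {X : Subgroup G} (hX : IsPGroup p X) (hV : Vf t s ≤ normalizer (X : Set G))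
    (hn : ¬ X ≤ centralizer (Vf t s : Set G)) :
    ∃ P, IsSyl p P ⊤ ∧ Vf t s ≤ normalizer (P : Set G) ∧ X ≤ P := by
  obtain ⟨Q, hQ, h1, h2⟩ := (h.act_D hV).exists_isSyl_ge hX (h.le_D hA hp2 hV hn hX le_rfl) hV
  obtain ⟨R, hR, h3⟩ := exists_isSyl_ge hX le_top
  exact ⟨Q, hR.of_card_le hQ.isPGroup le_top
    (hQ.card_le hR.isPGroup (h.le_D hA hp2 hV hn hR.isPGroup h3)), h1, h2⟩

theorem conjC {X P R : Subgroup G} (hV : Vf t s ≤ normalizer (X : Set G))
    (hn : ¬ X ≤ centralizer (Vf t s : Set G)) (hP : IsSyl p P ⊤) (hR : IsSyl p R ⊤)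
    (hVP : Vf t s ≤ normalizer (P : Set G)) (hVR : Vf t s ≤ normalizer (R : Set G))
    (hXP : X ≤ P) (hXR : X ≤ R) :
    ∃ c ∈ centralizer (Vf t s : Set G), P.map (MulAut.conj c).toMonoidHom = R := by
  obtain ⟨c, hc, e⟩ := (h.act_D hV).exists_conj_isSyl
    (hP.mono (h.le_D hA hp2 hV hn hP.isPGroup hXP) le_top)
    (hR.mono (h.le_D hA hp2 hV hn hR.isPGroup hXR) le_top) hVP hVR
  exact ⟨c, hc.2, e⟩

theorem full {P : Subgroup G} (hP : IsSyl p P ⊤) (hV : Vf t s ≤ normalizer (P : Set G))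
    (hn : Act (Vf t s) P t) : IsSyl p (P ⊓ centralizer {t}) (centralizer {t}) := by
  have hX : IsPGroup p ↥(P ⊓ centralizer {t}) := hP.isPGroup.to_le inf_le_left
  obtain ⟨Q, hQ, h1⟩ := exists_isSyl_ge hX inf_le_right
  have ht : zpowers t ≤ Vf t s := by simpa using t_mem_Vf
  have h2 := ((h.act_D (h.norm_inf hV)).mono_left ht).isSyl_inf_centralizer
    (hP.mono (h.le_D hA hp2 (h.norm_inf hV) hn hP.isPGroup inf_le_left) le_top) (ht.trans hV)
  rw [centralizer_zpowers] at h2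
  exact hQ.of_card_le hX inf_le_right (h2.card_le hQ.isPGroup
    (le_inf (h.le_D hA hp2 (h.norm_inf hV) hn hQ.isPGroup h1) hQ.le))

omit hA in
theorem syl_U {Q : Subgroup G} (hQ : IsSyl p Q (centralizer {t})) :
    IsSyl p Q (OppOf 2 (centralizer {t})) :=
  hQ.mono (h.le_U hQ.le (odd_of_isPGroup hp2 hQ.isPGroup)) (OppOf_le _)

theorem conjA {P R : Subgroup G} (hP : IsSyl p P ⊤) (hR : IsSyl p R ⊤)
    (hVP : Vf t s ≤ normalizer (P : Set G)) (hVR : Vf t s ≤ normalizer (R : Set G))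
    (h1 : Act (Vf t s) P t) (h2 : Act (Vf t s) R t) :
    ∃ c ∈ centralizer (Vf t s : Set G), P.map (MulAut.conj c).toMonoidHom = R := by
  obtain ⟨b, hb, e⟩ := h.act_U.exists_conj_isSyl (h.syl_U hp2 (h.full hA hp2 hP hVP h1))
    (h.syl_U hp2 (h.full hA hp2 hR hVR h2)) (h.norm_inf hVP) (h.norm_inf hVR)
  obtain ⟨c, hc, e'⟩ := h.conjC hA hp2 (h.norm_inf hVR) h2 (isSyl_top_conj hP b) hR
    (le_normalizer_conj hVP (centralizer_le_normalizer _ hb.2)) hVR
    (e ▸ map_mono inf_le_left) inf_le_left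
  exact ⟨c * b, mul_mem hc hb.2, by rw [← map_conj_map_conj, e']⟩

omit hA in
theorem not_le_of_act {Q P : Subgroup G} (hQ : IsSyl p Q (OppOf 2 (centralizer {t})))
    (hVQ : Vf t s ≤ normalizer (Q : Set G)) (hP : IsPGroup p P)
    (hVP : Vf t s ≤ normalizer (P : Set G)) (h1 : Act (Vf t s) P t) :
    ¬ Q ≤ centralizer (Vf t s : Set G) := fun e => h1 (by
  have hX : IsPGroup p ↥(P ⊓ centralizer {t}) := hP.to_le inf_le_left
  obtain ⟨Q', hQ', h2, h3⟩ := h.act_U.exists_isSyl_ge hX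
    (h.le_U inf_le_right (odd_of_isPGroup hp2 hX)) (h.norm_inf hVP)
  obtain ⟨c, hc, rfl⟩ := h.act_U.exists_conj_isSyl hQ hQ' hVQ h2
  exact h3.trans (map_conj_le_of_le e (le_normalizer hc.2)))

end K4

theorem V4.cyc (h : V4 t s w) (hA : AG G) (hp2 : p ≠ 2) {P : Subgroup G} (hP : IsSyl p P ⊤)
    (hV : Vf t s ≤ normalizer (P : Set G)) (h1 : Act (Vf t s) P t) (h2 : Act (Vf t s) P s) :
    ∃ n ∈ normalizer (P : Set G), n * t * n⁻¹ = s ∧ n * s * n⁻¹ = t * s := by
  have h3 := h1.conj h.w_norm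
  have h4 := le_normalizer_conj hV h.w_norm
  rw [h.wt] at h3
  rw [← h.k4.Vf_rot] at h2 h3 h4 hV
  obtain ⟨c, hc, e⟩ := h.k4.rot.conjA hA hp2 (isSyl_top_conj hP w) hP h4 hV h3 h2
  obtain ⟨c1, c2⟩ := mem_centralizer_Vf.mp hc
  refine ⟨c * w, map_conj_eq_iff.mp (by rw [← map_conj_map_conj, e]), ?_, ?_⟩
  · rw [show c * w * t * (c * w)⁻¹ = c * (w * t * w⁻¹) * c⁻¹ by group, h.wt, ← c1,
      mul_inv_cancel_right]
  · rw [show c * w * s * (c * w)⁻¹ = c * (w * s * w⁻¹) * c⁻¹ by group, h.ws, ← c2,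
      mul_inv_cancel_right]

/-- a `V`-invariant `p`-subgroup containing a Sylow subgroup of `C(t)` but not centralised by `t`
lies in a Sylow subgroup on which all three involutions act alike -/
theorem V4.tri (h : V4 t s w) (hA : AG G) (hp2 : p ≠ 2) {X Q : Subgroup G} (hX : IsPGroup p X)
    (hV : Vf t s ≤ normalizer (X : Set G)) (hQ : IsSyl p Q (OppOf 2 (centralizer {t})))
    (hVQ : Vf t s ≤ normalizer (Q : Set G)) (hQX : Q ≤ X) (hn : ¬ X ≤ centralizer {t}) :
    ∃ P n, IsSyl p P ⊤ ∧ Vf t s ≤ normalizer (P : Set G) ∧ X ≤ P ∧ Act (Vf t s) P t ∧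
      n ∈ normalizer (P : Set G) ∧ V4 t s n := by
  have k := h.k4
  obtain ⟨P, hP, hVP, hXP⟩ := k.ext hA hp2 hX hV fun e => hn (e.trans K4.cent_le_C)
  have key : ∀ g ∈ normalizer (Vf t s : Set G), ∀ a, g * a * g⁻¹ = t → Act (Vf t s) P a →
      Act (Vf t s) P t := fun g hg a e ha => by
    have h1 := ha.conj hg
    rw [e] at h1
    exact fun e' => k.not_le_of_act hp2 hQ hVQ (isSyl_top_conj hP g).isPGroup
      (le_normalizer_conj hVP hg) h1 ((le_inf (hQX.trans hXP) (hQ.le.trans (OppOf_le _))).trans e')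
  by_cases h2 : Act (Vf t s) P s
  · have h1 := key w⁻¹ (inv_mem h.w_norm) s (by rw [← h.wt]; group) h2
    obtain ⟨n, hn, e1, e2⟩ := h.cyc hA hp2 hP hVP h1 h2
    exact ⟨P, n, hP, hVP, hXP, h1, hn, k.v4 h.simple e1 e2⟩
  by_cases h3 : Act (Vf t s) P (t * s)
  · have h1 := key w h.w_norm (t * s) h.rot2.wt h3
    obtain ⟨n, hn, e1, e2⟩ := h.rot2.cyc hA hp2 hP (k.Vf_rot2 ▸ hVP) (k.Vf_rot2 ▸ h3)
      (k.Vf_rot2 ▸ h1)
    rw [k.ts_t] at e2
    refine ⟨P, n, hP, hVP, hXP, h1, hn, k.v4 h.simple e2 ?_⟩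
    rw [← k.t_ts, show n * (t * (t * s)) * n⁻¹ = n * t * n⁻¹ * (n * (t * s) * n⁻¹) by group, e1, e2,
      k.t_ts, k.comm]
  exact absurd (hXP.trans (k.gen hVP (odd_of_isPGroup hp2 hP.isPGroup) inf_le_right
    ((not_not.mp h2).trans K4.cent_le_C) ((not_not.mp h3).trans K4.cent_le_C))) hn

end Cfsg.Agent.Lib.AG
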