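/-
A-groups project (S2554), piece C5 (b): centralisers of `p`-elements in the case of rank three.
-/
import Cfsg.Agent.Lib.AG.Loc4a

set_option autoImplicit false

namespace Cfsg.Agent.Lib.AG

open Subgroup Cfsg.Agent.Lib.Core

universe u

variable {G : Type u} [Group G] {t s w n : G}

/-- the elements of the abelian group `P` inverted by `b` -/
def Iv (P : Subgroup G) (hP : ∀ x ∈ P, ∀ y ∈ P, x * y = y * x) (b : G) : Subgroup G where
  carrier := {x | x ∈ P ∧ b * x * b⁻¹ = x⁻¹}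
  one_mem' := ⟨one_mem _, by simp⟩
  mul_mem' := by
    rintro x y ⟨hx, h1⟩ ⟨hy, h2⟩
    refine ⟨mul_mem hx hy, ?_⟩
    rw [show b * (x * y) * b⁻¹ = b * x * b⁻¹ * (b * y * b⁻¹) by group, h1, h2, hP x hx y hy,
      mul_inv_rev]
  inv_mem' := by
    rintro x ⟨hx, h1⟩
    refine ⟨inv_mem hx, ?_⟩
    rw [show b * x⁻¹ * b⁻¹ = (b * x * b⁻¹)⁻¹ by group, h1]

theorem mem_Iv {P : Subgroup G} {hP : ∀ x ∈ P, ∀ y ∈ P, x * y = y * x} {b x : G} :
    x ∈ Iv P hP b ↔ x ∈ P ∧ b * x * b⁻¹ = x⁻¹ := Iff.rfl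

theorem mem_of_sq_mem {H : Subgroup G} {x : G} (ho : Odd (orderOf x)) (h : x * x ∈ H) : x ∈ H := by
  obtain ⟨m, hm⟩ := exists_pow_eq_self_of_coprime (x := x) (n := 2)
    (Nat.coprime_two_left.mpr ho)
  rw [← hm, pow_two]; exact pow_mem h m

theorem odd_orderOf_of_mem {P : Subgroup G} (hP : ¬ 2 ∣ Nat.card P) {x : G} (hx : x ∈ P) :
    Odd (orderOf x) := Odd.of_dvd_nat (Nat.odd_iff.mpr (by omega)) (orderOf_dvd_natCard P hx)

theorem VK.mem_K {K : Subgroup G} (h : VS t s w K) {g : G} (hg : t * g = g * t)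
    (ho : Odd (orderOf g)) : g ∈ K := by
  obtain ⟨x, hx, b, hb, e⟩ := h.cent g hg
  have k := h.toV4.k4
  rw [mem_bot.mp hb, mul_one] at e
  refine mem_of_sq_mem ho ?_
  rcases e with rfl | rfl | rfl | rfl
  · exact mul_mem hx hx
  · rw [show x * t * (x * t) = x * (t * x) * t by group, h.Kt _ hx,
      show x * (x * t) * t = x * x * (t * t) by group, k.tt, mul_one]
    exact mul_mem hx hx
  · rw [show x * s * (x * s) = x * (s * x * s) by group, h.Ks _ hx, mul_inv_cancel]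
    exact one_mem _
  · rw [show x * (t * s) * (x * (t * s)) = x * t * (s * x * (t * s)) by group, k.comm,
      show s * x * (s * t) = s * x * s * t by group, h.Ks _ hx,
      show x * t * (x⁻¹ * t) = x * (t * x⁻¹) * t by group, h.Kt _ (inv_mem hx),
      show x * (x⁻¹ * t) * t = t * t by group, k.tt]
    exact one_mem _

theorem VK.eq_one {K : Subgroup G} (h : VS t s w K) {g : G} (hg : t * g = g * t)
    (hs : s * g = g * s) (ho : Odd (orderOf g)) : g = 1 := by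
  have h1 := h.Ks g (h.mem_K hg ho)
  rw [hs, mul_assoc, h.ss, mul_one] at h1
  exact mem_bot.mp (mem_of_sq_mem ho (mem_bot.mpr (by nth_rw 1 [h1]; simp)))

variable [Finite G] {p : ℕ} [hp : Fact p.Prime]

/-- the configuration of rank three -/
structure Tri (p : ℕ) (t s n : G) (P : Subgroup G) : Prop extends V4 t s n where
  hA : AG G
  ih : IH4.{u} (Nat.card G)
  p2 : p ≠ 2
  syl : IsSyl p P ⊤
  hV : Vf t s ≤ normalizer (P : Set G)
  act : Act (Vf t s) P t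
  hn : n ∈ normalizer (P : Set G)

namespace Tri

variable {P : Subgroup G}

theorem cm (h : Tri p t s n P) : ∀ x ∈ P, ∀ y ∈ P, x * y = y * x :=
  fun _ hx _ hy => h.hA.comm h.syl.isPGroup hx hy

theorem odd (h : Tri p t s n P) : ¬ 2 ∣ Nat.card P := odd_of_isPGroup h.p2 h.syl.isPGroup

theorem rot (h : Tri p t s n P) : Tri p s (t * s) n P :=
  { h.toV4.rot with
    hA := h.hA, ih := h.ih, p2 := h.p2, syl := h.syl, hn := h.hn
    hV := by rw [h.toV4.k4.Vf_rot]; exact h.hV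
    act := by
      have := h.act.conj h.toV4.w_norm
      rwa [map_conj_eq_iff.mpr h.hn, h.wt, ← h.toV4.k4.Vf_rot] at this }

/-- `P_1` -/
abbrev J (h : Tri p t s n P) (a b : G) : Subgroup G := Iv P h.cm b ⊓ centralizer {a}

theorem J_conj (h : Tri p t s n P) {a b g x : G} (hx : x ∈ h.J a b) (hg : g * x * g⁻¹ ∈ P) :
    g * x * g⁻¹ ∈ h.J (g * a * g⁻¹) (g * b * g⁻¹) := by
  refine ⟨⟨hg, ?_⟩, mem_C.mpr ?_⟩
  · rw [show g * b * g⁻¹ * (g * x * g⁻¹) * (g * b * g⁻¹)⁻¹ = g * (b * x * b⁻¹) * g⁻¹ by group,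
      hx.1.2]; group
  · rw [show g * a * g⁻¹ * (g * x * g⁻¹) = g * (a * x) * g⁻¹ by group, mem_C.mp hx.2]; group

theorem card_J (h : Tri p t s n P) (a b : G) :
    Nat.card (h.J (n * a * n⁻¹) (n * b * n⁻¹)) ≤ Nat.card (h.J a b) := by
  rw [← card_map_conj _ n⁻¹]
  refine card_le_of_le (map_conj_le_iff.mpr fun x hx => ?_)
  simpa [mul_assoc] using h.J_conj hx (conj_mem_of_mem_normalizer (inv_mem h.hn) hx.1.1)

theorem step (h : Tri p t s n P) {O : Subgroup G} {a b m : G}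
    (hm : m ∈ normalizer ((P ⊓ O : Subgroup G) : Set G)) (h1 : m * a * m⁻¹ = n * a * n⁻¹)
    (h2 : m * b * m⁻¹ = n * b * n⁻¹) (hJ : h.J a b ≤ O) : h.J (n * a * n⁻¹) (n * b * n⁻¹) ≤ O := by
  have h3 : (h.J a b).map (MulAut.conj m).toMonoidHom ≤ h.J (n * a * n⁻¹) (n * b * n⁻¹) :=
    map_conj_le_iff.mpr fun x hx => h1 ▸ h2 ▸ h.J_conj hx
      (conj_mem_of_mem_normalizer hm (show x ∈ P ⊓ O from ⟨hx.1.1, hJ hx⟩)).1
  rw [← eq_of_le_of_card_ge h3 (by rw [card_map_conj]; exact h.card_J a b)]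
  exact map_conj_le_iff.mpr fun x hx =>
    (conj_mem_of_mem_normalizer hm (show x ∈ P ⊓ O from ⟨hx.1.1, hJ hx⟩)).2

theorem mem_J (h : Tri p t s n P) {x : G} (hx : x ∈ P ⊓ centralizer {t}) :
    x * (s * x⁻¹ * s⁻¹) ∈ h.J t s := by
  have k := h.toV4.k4
  have h1 : s * x⁻¹ * s⁻¹ ∈ P := conj_mem_of_mem_normalizer (h.hV s_mem_Vf) (inv_mem hx.1)
  have h2 : x ∈ centralizer ({t} : Set G) := hx.2
  have h3 : s ∈ centralizer ({t} : Set G) := k.Vf_le_C s_mem_Vf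
  refine mem_inf.mpr ⟨⟨mul_mem hx.1 h1, ?_⟩,
    mul_mem h2 (mul_mem (mul_mem h3 (inv_mem h2)) (inv_mem h3))⟩
  rw [show s * (x * (s * x⁻¹ * s⁻¹)) * s⁻¹ = s * x * (s * x⁻¹ * (s * s)⁻¹) by group, k.ss, k.sinv]
  rw [mul_inv_rev, mul_inv_rev, mul_inv_rev, k.sinv]; group

theorem J_le (h : Tri p t s n P) {M L : Subgroup G} (hP : P ≤ M) (hn : M ≤ normalizer (L : Set G))
    {a b : G} (hb : b ∈ L) : h.J a b ≤ L := fun x hx =>
  mem_of_sq_mem (odd_orderOf_of_mem h.odd hx.1.1) (by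
    have h1 : x * x = x * b⁻¹ * x⁻¹ * b := by
      rw [show x * b⁻¹ * x⁻¹ * b = x * (b⁻¹ * x⁻¹ * b) by group, ← hx.1.2]; group
    rw [h1]
    exact mul_mem (conj_mem_of_mem_normalizer (hn (hP hx.1.1)) (inv_mem hb)) hb)

/-- `P ∩ L ≤ O(M)` -/
theorem inf_le (h : Tri p t s n P) {M L : Subgroup G} (hP : P ≤ M) (hM : M ≠ ⊤) {w : G}
    (ht : t ∈ L) (hs : s ∈ L) (hw : w ∈ L) (hL : L ≤ M) (hn : M ≤ normalizer (L : Set G))
    (h1 : w * t * w⁻¹ = s) (h2 : w * s * w⁻¹ = t * s) {X : Type u} [Group X] [Finite X]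
    (f : L →* X) (hf : Function.Surjective f) (hk : kerOf f = OppOf 2 M)
    (hX : V4 (f ⟨t, ht⟩) (f ⟨s, hs⟩) (f ⟨w, hw⟩)) : P ⊓ L ≤ OppOf 2 M := by
  have k := h.toV4.k4
  have hVL : Vf t s ≤ L := Vf_le.mpr ⟨ht, hs⟩
  obtain ⟨K, hK⟩ := h.ih X ((Nat.card_le_card_of_surjective f hf).trans_lt
    ((card_le_of_le hL).trans_lt (card_lt_of_ne_top hM))) (h.hA.bar f hf) _ _ _ hX
  have hodd : ∀ (x : G) (hx : x ∈ L), x ∈ P → Odd (orderOf (f ⟨x, hx⟩)) := fun x hx hxP =>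
    Odd.of_dvd_nat (odd_orderOf_of_mem h.odd hxP) ((orderOf_map_dvd _ _).trans (orderOf_mk _ _).dvd)
  have hcm : ∀ (x y : G) (hx : x ∈ L) (hy : y ∈ L), x * y = y * x →
      f ⟨x, hx⟩ * f ⟨y, hy⟩ = f ⟨y, hy⟩ * f ⟨x, hx⟩ := fun x y hx hy e => by
    rw [← map_mul, ← map_mul]; exact congrArg f (Subtype.ext e)
  have hker : ∀ (x : G) (hx : x ∈ L), f ⟨x, hx⟩ = 1 ↔ x ∈ OppOf 2 M := fun x hx => by
    rw [← hk]; exact (mem_kerOf f (x := ⟨x, hx⟩)).symm
  -- one of the `J`s lies in `O(M)`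
  have e1 : h.J t s ≤ OppOf 2 M ∨ h.J s (t * s) ≤ OppOf 2 M := by
    refine or_iff_not_imp_left.mpr fun e y hy => ?_
    obtain ⟨x, hx, hxO⟩ := SetLike.not_le_iff_exists.mp e
    have hxL := h.J_le hP hn hs hx
    have hyL := h.J_le hP hn (mul_mem ht hs) hy
    have h3 := hK.ti _ (hK.mem_K (hcm _ _ ht hxL (mem_C.mp hx.2)) (hodd x hxL hx.1.1))
      (fun e => hxO ((hker x hxL).mp e)) _ (hcm _ _ hxL hyL (h.cm x hx.1.1 y hy.1.1))
    exact (hker y hyL).mp (hK.eq_one h3 (hcm _ _ hs hyL (mem_C.mp hy.2)) (hodd y hyL hy.1.1))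
  -- an element normalising `P ∩ O(M)` and permuting the involutions
  have hw' := (k.v4 h.simple h1 h2).w_norm
  have hact := k.coprimeAct (le_normalizer_OppOf ((hVL.trans hL).trans le_normalizer))
    (OppOf_not_dvd (p := 2) M)
  have hS : IsSyl p (P ⊓ OppOf 2 M) (OppOf 2 M) :=
    (h.syl.mono hP le_top).inf_normal (OppOf_le M) (le_normalizer_OppOf le_normalizer)
  have hVS : Vf t s ≤ normalizer ((P ⊓ OppOf 2 M : Subgroup G) : Set G) :=
    le_normalizer_inf h.hV hact.le_norm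
  obtain ⟨c, hc, e⟩ := hact.exists_conj_isSyl
    (hS.conj_of_mem_normalizer (le_normalizer_OppOf le_normalizer (hL hw))) hS
    (le_normalizer_conj hVS hw') hVS
  have hm : c * w ∈ normalizer ((P ⊓ OppOf 2 M : Subgroup G) : Set G) :=
    map_conj_eq_iff.mp (by rw [← map_conj_map_conj, e])
  have hcV : ∀ v ∈ Vf t s, c * w * v * (c * w)⁻¹ = w * v * w⁻¹ := fun v hv => by
    rw [show c * w * v * (c * w)⁻¹ = c * (w * v * w⁻¹) * c⁻¹ by group,
      ← mem_centralizer_iff.mp hc.2 _ (conj_mem_of_mem_normalizer hw' hv), mul_inv_cancel_right]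
  have c1 : c * w * t * (c * w)⁻¹ = n * t * n⁻¹ := by rw [hcV t t_mem_Vf, h1, h.wt]
  have c2 : c * w * s * (c * w)⁻¹ = n * s * n⁻¹ := by rw [hcV s s_mem_Vf, h2, h.ws]
  have c3 : c * w * (t * s) * (c * w)⁻¹ = n * (t * s) * n⁻¹ := by
    rw [hcV _ ts_mem_Vf, (k.v4 h.simple h1 h2).rot2.wt, h.toV4.rot2.wt]
  have s1 := h.step hm c1 c2
  have s2 := h.step hm c2 c3
  have s3 := h.step hm c3 c1
  rw [h.wt, h.ws] at s1
  rw [h.ws, h.toV4.rot2.wt] at s2
  rw [h.wt, h.toV4.rot2.wt] at s3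
  have j2 : h.J s (t * s) ≤ OppOf 2 M := e1.elim s1 id
  have j3 := s2 j2
  have j1 := s3 j3
  have fin : ∀ (x b : G) (hx : x ∈ L) (hb : b ∈ L), x * (b * x⁻¹ * b⁻¹) ∈ OppOf 2 M →
      f ⟨b, hb⟩ * f ⟨x, hx⟩ = f ⟨x, hx⟩ * f ⟨b, hb⟩ := fun x b hx hb e => by
    have h3 := (hker _ (mul_mem hx (mul_mem (mul_mem hb (inv_mem hx)) (inv_mem hb)))).mpr e
    have h4 : f ⟨x, hx⟩ * (f ⟨b, hb⟩ * (f ⟨x, hx⟩)⁻¹ * (f ⟨b, hb⟩)⁻¹) = 1 := by
      rw [← h3, ← map_inv, ← map_inv, ← map_mul, ← map_mul, ← map_mul]; rfl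
    rw [← mul_assoc, ← mul_assoc, mul_inv_eq_one, mul_inv_eq_iff_eq_mul] at h4
    exact h4.symm
  have hts : f ⟨t * s, mul_mem ht hs⟩ = f ⟨t, ht⟩ * f ⟨s, hs⟩ := by rw [← map_mul]; rfl
  refine k.gen (le_normalizer_inf h.hV (hVL.trans le_normalizer))
    (not_dvd_card_of_le h.odd inf_le_left) (fun x hx => ?_) (fun x hx => ?_) fun x hx => ?_
  all_goals refine (hker x hx.1.2).mp (hK.eq_one ?_ ?_ (hodd x hx.1.2 hx.1.1))
  · exact hcm _ _ ht hx.1.2 (mem_C.mp hx.2)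
  · exact fin _ _ hx.1.2 hs (j1 (h.mem_J ⟨hx.1.1, hx.2⟩))
  · have h3 := fin _ _ hx.1.2 (mul_mem ht hs) (j2 (h.rot.mem_J ⟨hx.1.1, hx.2⟩))
    have h4 := hcm _ _ hs hx.1.2 (mem_C.mp hx.2)
    rw [hts, mul_assoc, h4, ← mul_assoc, ← mul_assoc, mul_right_cancel_iff] at h3
    exact h3
  · exact hcm _ _ hs hx.1.2 (mem_C.mp hx.2)
  · have h3 := h.rot.rot.mem_J (x := x) ⟨hx.1.1, hx.2⟩
    simp only [k.s_ts] at h3
    exact fin _ _ hx.1.2 ht (j3 h3)
  · have h3 := h.rot.rot.mem_J (x := x) ⟨hx.1.1, hx.2⟩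
    simp only [k.s_ts] at h3
    have h4 := fin _ _ hx.1.2 ht (j3 h3)
    have h5 := hcm _ _ (mul_mem ht hs) hx.1.2 (mem_C.mp hx.2)
    rw [hts, ← mul_assoc, ← h4, mul_assoc, mul_assoc, mul_left_cancel_iff] at h5
    exact h5

theorem good_of_le (h : Tri p t s n P) {M : Subgroup G} (hP : P ≤ M) (hV : Vf t s ≤ M)
    (hM : M ≠ ⊤) : LOf p M = ⊥ ∧ Group.IsSolvable (OppOf p M) := by
  have k := h.toV4.k4
  by_cases hs : Group.IsSolvable M
  · exact ⟨LOf_eq_bot_of_isSolvable hs, isSolvable_of_le hs (OppOf_le M)⟩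
  refine ⟨PSolv.LOf_eq_bot fun K hK hKp hKO => ?_, by_contra fun e => h.act fun x hx => ?_⟩
  · obtain ⟨L, w, ht, hs', hw, hL, hn, -, h1, h2, X, _, _, f, hf, hk, hX⟩ := k.over h.hA hV hs
    have h3 := h.inf_le hP hM ht hs' hw hL hn h1 h2 f hf hk hX
    have h4 := ((h.syl.mono hP le_top).inf_normal hL hn).bar f le_rfl
    rw [(bar_eq_bot_iff f inf_le_right).mpr (hk ▸ h3), bar_self f hf] at h4
    have h5 : ¬ p ∣ Nat.card (⊤ : Subgroup X) := by simpa using h4.not_dvd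
    obtain ⟨Q, _, _, g, hg, hgk, hc⟩ := exists_bar hL hn
    have h6 : ¬ 2 ∣ Nat.card (⊤ : Subgroup Q) := by
      rw [card_top, hc]
      exact (k.syl hV).not_dvd_relIndex (Vf_le.mpr ⟨ht, hs'⟩)
    have h7 : K ≤ L := by
      rw [← hgk, ← bar_eq_bot_iff g hK]
      by_contra e
      exact (commutator_lt_of_isSolvable (isSolvable_of_le (solv_of_odd h6) le_top) e).ne
        (by rw [← bar_commutator g hK hK, hKp])
    have h8 : K ≤ OppOf 2 M := by
      rw [← hk, ← bar_eq_bot_iff f h7, ← hKO, bar_OupOf f h7, OupOf_eq_bot_iff]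
      exact not_dvd_card_of_le h5 le_top
    by_contra e
    exact (commutator_lt_of_isSolvable (isSolvable_of_le (solv_O M) h8) e).ne hKp
  · have h1 := k.le_of_nsolv hV (Subn.of_normal (OppOf_le M) (le_normalizer_OppOf le_normalizer)) e
    have h2 : x * (s * x⁻¹ * s⁻¹) ∈ P ⊓ OppOf p M := mem_inf.mpr ⟨(h.mem_J hx).1.1, by
      rw [← mul_assoc, ← mul_assoc]
      exact mul_mem (conj_mem_of_mem_normalizer (le_normalizer_OppOf le_normalizer (hP hx.1))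
        (h1 s_mem_Vf)) (inv_mem (h1 s_mem_Vf))⟩
    rw [inf_eq_bot_of_isPGroup_of_not_dvd h.syl.isPGroup (OppOf_not_dvd M), mem_bot, ← mul_assoc,
      ← mul_assoc, mul_inv_eq_one, mul_inv_eq_iff_eq_mul] at h2
    exact mem_centralizer_Vf.mpr ⟨mem_C.mp hx.2, h2.symm⟩

theorem C_ne_top (h : Tri p t s n P) {a : G} (a1 : a ≠ 1) : centralizer ({a} : Set G) ≠ ⊤ := by
  intro e
  haveI := h.simple
  have h1 : a ∈ center G := mem_center_iff.mpr fun g => (mem_C.mp (e.ge (mem_top g))).symm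
  rcases (inferInstance : (center G).Normal).eq_bot_or_eq_top with h2 | h2
  · exact a1 (mem_bot.mp (h2.le h1))
  · obtain ⟨x, y, hxy⟩ := h.toV4.not_comm
    exact hxy (mem_center_iff.mp (h2.ge (mem_top y)) x)

theorem good (h : Tri p t s n P) {a : G} (ha : a ∈ P) (a1 : a ≠ 1) :
    LOf p (centralizer {a}) = ⊥ ∧ Group.IsSolvable (OppOf p (centralizer ({a} : Set G))) := by
  have k := h.toV4.k4
  by_cases h4 : 4 ∣ Nat.card (centralizer ({a} : Set G))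
  swap
  · exact ⟨LOf_eq_bot_of_isSolvable (solv_of_not_four h4).1,
      isSolvable_of_le (solv_of_not_four h4).1 (OppOf_le _)⟩
  obtain ⟨R, hR⟩ := Sylow.exists_subgroup_card_pow_prime (G := centralizer ({a} : Set G)) 2
    (n := 2) h4
  have hR2 : IsPGroup 2 (R.map (centralizer ({a} : Set G)).subtype) := (IsPGroup.of_card hR).map _
  obtain ⟨g, -, hg⟩ := (k.syl le_top).exists_conj_le hR2 le_top
  have h1 := eq_of_le_of_card_ge hg (by rw [card_map_conj, card_map_subtype, hR, k.card_Vf]; rfl)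
  have h2 : Vf t s ≤ centralizer {g * a * g⁻¹} := by
    rw [← h1, ← map_conj_centralizer_singleton]; exact map_mono (map_subtype_le _)
  have h3 : g * a * g⁻¹ ∈ centralizer (Vf t s : Set G) :=
    mem_centralizer_iff.mpr fun v hv => (mem_C.mp (h2 hv)).symm
  have hz : IsPGroup p (zpowers (g * a * g⁻¹)) := isPGroup_zpowers_of_mem
    (isSyl_top_conj h.syl g).isPGroup (conj_mem_map_conj.mpr ha)
  have h5 := k.act_U.isSyl_inf_centralizer
    (k.syl_U h.p2 (k.full h.hA h.p2 h.syl h.hV h.act)) (k.norm_inf h.hV)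
  obtain ⟨b, hb, e⟩ := h5.exists_conj_le hz (le_inf (k.le_U (by simpa using K4.cent_le_C h3)
    (odd_of_isPGroup h.p2 hz)) (by simpa using h3))
  have h6 := e (conj_mem_map_conj.mpr (mem_zpowers _))
  obtain ⟨g1, g2⟩ := h.good_of_le (h.hA.le_centralizer_singleton h.syl.isPGroup h6.1.1)
    (fun v hv => mem_C.mpr (mem_centralizer_iff.mp h6.2 v hv).symm)
    (h.C_ne_top (by simpa using a1))
  rw [show b * (g * a * g⁻¹) * b⁻¹ = (b * g) * a * (b * g)⁻¹ by group,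
    ← map_conj_centralizer_singleton] at g1 g2
  rw [← LOf_conj, map_eq_bot_iff_of_injective _ (MulAut.conj _).injective] at g1
  rw [← OppOf_conj] at g2
  have g3 := isSolvable_map g2 (MulAut.conj (b * g)⁻¹).toMonoidHom
  rw [map_conj_inv_map_conj] at g3
  exact ⟨g1, g3⟩

end Tri

end Cfsg.Agent.Lib.AG
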