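/-
A-groups project (S2554), piece C5 (b), (c): `C(t)` is a maximal subgroup.
-/
import Cfsg.Agent.Lib.AG.Loc4b
import Cfsg.Agent.S0217

set_option autoImplicit false

namespace Cfsg.Agent.Lib.AG

open Subgroup Cfsg.Agent.Lib.Core

universe u

variable {G : Type u} [Group G] {t s w n : G} [Finite G] {p : ℕ} [hp : Fact p.Prime]

theorem mul_card_le_of_lt {K L : Subgroup G} (hL : IsPGroup p L) (h : K < L) :
    p * Nat.card K ≤ Nat.card L := by
  obtain ⟨k, hk⟩ := IsPGroup.iff_card.mp hL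
  have h1 : K.relIndex L ∣ p ^ k := hk ▸ relIndex_dvd_card K L
  obtain ⟨j, -, hj⟩ := (Nat.dvd_prime_pow hp.out).mp h1
  have h2 : j ≠ 0 := fun e => h.not_ge (relIndex_eq_one.mp (by rw [hj, e, pow_zero]))
  rw [← card_mul_relIndex h.le, hj, mul_comm]
  exact Nat.mul_le_mul_left _ (Nat.le_self_pow h2 p)

theorem exists_order_p {X : Subgroup G} (hX : IsPGroup p X) (h : X ≠ ⊥) :
    ∃ a ∈ X, a ≠ 1 ∧ a ^ p = 1 := by
  obtain ⟨x, hx⟩ := exists_prime_orderOf_dvd_card' p (dvd_card_of_isPGroup_of_ne_bot hX h)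
  refine ⟨x, x.2, fun e => hp.out.one_lt.ne ?_, ?_⟩
  · rw [← hx, show x = 1 from Subtype.ext e, orderOf_one]
  · rw [← hx, ← Subgroup.coe_pow, pow_orderOf_eq_one, Subgroup.coe_one]

/-- `Ω₁(P)` for abelian `P` -/
def Om (p : ℕ) (P : Subgroup G) (hP : ∀ x ∈ P, ∀ y ∈ P, x * y = y * x) : Subgroup G where
  carrier := {x | x ∈ P ∧ x ^ p = 1}
  one_mem' := ⟨one_mem _, one_pow _⟩
  mul_mem' := by
    rintro x y ⟨hx, h1⟩ ⟨hy, h2⟩
    exact ⟨mul_mem hx hy, by rw [Commute.mul_pow (hP x hx y hy), h1, h2, one_mul]⟩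
  inv_mem' := by
    rintro x ⟨hx, h1⟩
    exact ⟨inv_mem hx, by rw [inv_pow, h1, inv_one]⟩

namespace Tri

variable {P : Subgroup G}

theorem J_ne_bot (h : Tri p t s n P) : h.J t s ≠ ⊥ := fun e => h.act fun x hx => by
  have h2 := e.le (h.mem_J hx)
  rw [mem_bot, ← mul_assoc, ← mul_assoc, mul_inv_eq_one, mul_inv_eq_iff_eq_mul] at h2
  exact mem_centralizer_Vf.mpr ⟨mem_C.mp hx.2, h2.symm⟩

theorem eq_one (h : Tri p t s n P) {x b : G} (hx : x ∈ Iv P h.cm b) (hb : b * x = x * b) :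
    x = 1 := mem_bot.mp (mem_of_sq_mem (odd_orderOf_of_mem h.odd hx.1) (mem_bot.mpr (by
  have := hx.2
  rw [hb, mul_inv_cancel_right] at this
  nth_rw 1 [this]; simp)))

theorem J_le_Iv (h : Tri p t s n P) : h.J t s ≤ Iv P h.cm (t * s) := fun x hx => ⟨hx.1.1, by
  rw [show t * s * x * (t * s)⁻¹ = t * (s * x * s⁻¹) * t⁻¹ by group, hx.1.2,
    show t * x⁻¹ * t⁻¹ = (t * x * t⁻¹)⁻¹ by group, mem_C.mp hx.2, mul_inv_cancel_right]⟩

theorem rank (h : Tri p t s n P) : p ^ 3 ≤ Nat.card (Om p P h.cm) := by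
  have k := h.toV4.k4
  have hJ : ∀ a b, IsPGroup p (h.J a b) := fun a b => h.syl.isPGroup.to_le fun x hx => hx.1.1
  have hA : IsPGroup p (Om p P h.cm) := h.syl.isPGroup.to_le fun x hx => hx.1
  obtain ⟨a, ha, a1, ap⟩ := exists_order_p (hJ t s) h.J_ne_bot
  obtain ⟨b, hb, b1, bp⟩ := exists_order_p (hJ s (t * s)) h.rot.J_ne_bot
  obtain ⟨c, hc, c1, cp⟩ := exists_order_p (hJ (t * s) (s * (t * s))) h.rot.rot.J_ne_bot
  have l1 : ⊥ < Om p P h.cm ⊓ Iv P h.cm (t * s) ⊓ centralizer {t} :=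
    bot_lt_iff_ne_bot.mpr fun e => a1 (mem_bot.mp (e.le ⟨⟨⟨ha.1.1, ap⟩, h.J_le_Iv ha⟩, ha.2⟩))
  have l2 : Om p P h.cm ⊓ Iv P h.cm (t * s) ⊓ centralizer {t} < Om p P h.cm ⊓ Iv P h.cm (t * s) :=
    lt_of_le_of_ne inf_le_left fun e => b1 (h.eq_one (h.rot.J_le_Iv hb) (by
      rw [k.s_ts]; exact mem_C.mp (e.ge ⟨⟨hb.1.1, bp⟩, hb.1⟩).2))
  have l3 : Om p P h.cm ⊓ Iv P h.cm (t * s) < Om p P h.cm :=
    lt_of_le_of_ne inf_le_left fun e => c1 (h.eq_one (e.ge ⟨hc.1.1, cp⟩).2 (mem_C.mp hc.2))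
  have m1 := mul_card_le_of_lt (hA.to_le (inf_le_left.trans inf_le_left)) l1
  have m2 := mul_card_le_of_lt (hA.to_le inf_le_left) l2
  have m3 := mul_card_le_of_lt hA l3
  rw [card_bot, mul_one] at m1
  calc p ^ 3 = p * (p * p) := by ring
    _ ≤ _ := (Nat.mul_le_mul_left p ((Nat.mul_le_mul_left p m1).trans m2)).trans m3

/-- a strongly `p`-embedded subgroup -/
theorem exists_M (h : Tri p t s n P) : ∃ M : Subgroup G, M ≠ ⊤ ∧ normalizer (P : Set G) ≤ M ∧
    ∀ X : Subgroup G, X ≤ P → X ≠ ⊥ → normalizer (X : Set G) ≤ M := by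
  have hC : ∀ a ∈ P, P ≤ centralizer {a} := fun a ha =>
    h.hA.le_centralizer_singleton h.syl.isPGroup ha
  obtain ⟨hW, -⟩ := S0217.result (Om p P h.cm) (fun a ha b hb => h.cm a ha.1 b hb.1)
    (fun a ha => ha.2) h.rank (fun a => OppOf p (centralizer {a})) (fun a _ _ => OppOf_le _)
    (fun a _ _ => OppOf_not_dvd _)
    (fun a ha _ b hb x hx => conj_mem_of_mem_normalizer
      (le_normalizer_OppOf le_normalizer (hC a ha.1 hb.1)) hx)
    (fun a ha a1 => (h.good ha.1 a1).2) fun a ha _ b hb b1 => by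
      refine le_trans ?_ (OppOf_inf_centralizer_le (R := zpowers a) (h.good hb.1 b1).1
        (isPGroup_zpowers_of_mem h.syl.isPGroup ha.1) (by simpa using hC b hb.1 ha.1))
      rw [centralizer_zpowers]
      exact (le_inf inf_le_left (le_inf inf_le_right (inf_le_left.trans (OppOf_le _)))).trans
        (inf_OppOf_le inf_le_right)
  set W := ⨆ a : {a : G // a ∈ Om p P h.cm ∧ a ≠ 1}, OppOf p (centralizer {(a : G)}) with hWd
  have hN : normalizer (P : Set G) ≤ normalizer (W : Set G) := fun g hg =>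
    mem_normalizer_of_conj_mem (map_conj_le_iff.mp (by
      rw [hWd, Subgroup.map_iSup]
      refine iSup_le fun a => ?_
      rw [OppOf_conj, map_conj_centralizer_singleton]
      exact le_iSup_of_le (f := fun a : {a : G // a ∈ Om p P h.cm ∧ a ≠ 1} =>
        OppOf p (centralizer {(a : G)})) ⟨g * a * g⁻¹, ⟨conj_mem_of_mem_normalizer hg a.2.1.1, by
          rw [conj_pow, a.2.1.2, mul_one, mul_inv_cancel]⟩, by simpa using a.2.2⟩ le_rfl))
  have hP1 : P ≠ ⊥ := fun e => h.J_ne_bot (eq_bot_iff.mpr fun x hx => e.le hx.1.1)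
  haveI := h.simple
  refine ⟨W ⊔ normalizer (P : Set G), fun e => ?_, le_sup_right, fun X hX X1 => ?_⟩
  · rcases (normal_of_le_normalizer_top (e.ge.trans (sup_le le_normalizer hN))).eq_bot_or_eq_top
      with e1 | e1
    · rw [e1, bot_sup_eq] at e
      rcases (normal_of_le_normalizer_top e.ge).eq_bot_or_eq_top with e2 | e2
      · exact hP1 e2
      · exact h.odd ((show 2 ∣ Nat.card (Vf t s) by rw [h.toV4.k4.card_Vf]; norm_num).trans
          (card_dvd_of_le (le_top.trans e2.ge)))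
    · exact hW ((dvd_card_of_isPGroup_of_ne_bot h.syl.isPGroup hP1).trans
        (card_dvd_of_le (le_top.trans e1.ge)))
  · obtain ⟨a, ha, a1, ap⟩ := exists_order_p (h.syl.isPGroup.to_le hX) X1
    have h1 : centralizer {a} ≤ W ⊔ normalizer (P : Set G) := by
      rw [← h.hA.fact_of_LOf (h.good (hX ha) a1).1 (h.syl.mono (hC a (hX ha)) le_top)]
      exact sup_le_sup (le_iSup_of_le (f := fun a : {a : G // a ∈ Om p P h.cm ∧ a ≠ 1} =>
        OppOf p (centralizer {(a : G)})) ⟨a, ⟨hX ha, ap⟩, a1⟩ le_rfl) inf_le_right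
    rw [← (h.syl.mono (h.hA.syl_le_centralizer h.syl hX) le_top).frattini_sup
      (centralizer_le_normalizer _) (le_normalizer_centralizer le_rfl)]
    exact sup_le ((centralizer_le (by simpa using ha)).trans h1) (inf_le_right.trans le_sup_right)

end Tri

omit hp in
theorem V4.mem_of_cycle (h : V4 t s w) {M : Subgroup G} (hM : centralizer {t} ≤ M) (hn : n ∈ M)
    (h1 : n * t * n⁻¹ = s) : w ∈ M := by
  have h2 : n⁻¹ * w ∈ centralizer {t} := mem_C.mpr (by
    rw [show n⁻¹ * w * t = n⁻¹ * (w * t * w⁻¹) * w by group, h.wt, ← h1]; group)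
  simpa using mul_mem hn (hM h2)

omit hp in
/-- `C(t)` is a maximal subgroup -/
theorem V4.max (hA : AG G) (ih : IH4.{u} (Nat.card G)) (h : V4 t s w)
    (gen : centralizer {t} ⊔ zpowers w = ⊤) :
    ∀ M : Subgroup G, centralizer {t} ≤ M → M = centralizer {t} ∨ M = ⊤ := by
  intro M hM
  refine or_iff_not_imp_right.mpr fun hMt => le_antisymm ?_ hM
  have k := h.k4
  have key : ∀ N : Subgroup G, centralizer {t} ≤ N → N ≠ ⊤ → ∀ g ∈ N, g * t * g⁻¹ ≠ s :=
    fun N hN hNt g hg e => hNt (top_le_iff.mp (gen.ge.trans (sup_le hN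
      (by simpa using h.mem_of_cycle hN hg e))))
  have hV := k.Vf_le_C.trans hM
  have h1 := (k.sup_or_cycle hV).resolve_right fun ⟨g, hg, e, _⟩ => key M hM hMt g hg e
  have hact := k.coprimeAct (le_normalizer_OppOf (hV.trans le_normalizer)) (OppOf_not_dvd (p := 2) M)
  have ht : zpowers t ≤ Vf t s := by simpa using t_mem_Vf
  rw [← h1]
  refine sup_le ?_ k.Vf_le_C
  rw [← centralizer_zpowers]
  refine le_centralizer_of_fitting (hact.mono_left ht) (solv_O M) (le_centralizer_iff.mp ?_)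
  rw [centralizer_zpowers]
  refine fittingOf_le_of_forall_OpOf fun q hq => ?_
  haveI : Fact q.Prime := ⟨hq⟩
  by_cases q2 : q = 2
  · subst q2
    rw [eq_bot_of_isPGroup_of_not_dvd (OpOf_isPGroup _)
      (not_dvd_card_of_le (OppOf_not_dvd M) (OpOf_le _))]
    exact bot_le
  refine (OpOf_mono_of_normal (OppOf_le M) (le_normalizer_OppOf le_normalizer)).trans ?_
  by_contra hn
  obtain ⟨Q, hQ, hVQ⟩ := k.act_U.exists_isSyl q
  have hMX : M ≤ normalizer (OpOf q M : Set G) := le_normalizer_OpOf le_normalizer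
  obtain ⟨P, m, hP, hVP, hXP, hact, hm, h'⟩ := h.tri hA q2 (X := Q ⊔ OpOf q M)
    (isPGroup_sup_of_le_normalizer hQ.isPGroup (OpOf_isPGroup M)
      (((hQ.le.trans (OppOf_le _)).trans hM).trans hMX))
    (le_normalizer_sup hVQ (hV.trans hMX)) hQ hVQ le_sup_left fun e => hn (le_sup_right.trans e)
  obtain ⟨N, hN, h2, h3⟩ := Tri.exists_M (p := q) ⟨h', hA, ih, q2, hP, hVP, hact, hm⟩
  exact key N ((hM.trans hMX).trans (h3 _ (le_sup_right.trans hXP) fun e => hn (e ▸ bot_le))) hN m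
    (h2 hm) h'.wt

end Cfsg.Agent.Lib.AG
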