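/-
A-groups project (S2554), piece C5: the case where `⟨C(t), w⟩` is proper.
-/
import Cfsg.Agent.Lib.AG.Loc4
import Cfsg.Agent.Lib.AG.TA

set_option autoImplicit false

namespace Cfsg.Agent.Lib.AG

open Subgroup Cfsg.Agent.Lib.Core

universe u

variable {G : Type u} [Group G] [Finite G] {t s w : G}

theorem V4.conj_t (h : V4 t s w) {M : Subgroup G} (hV : Vf t s ≤ M) (hw : w ∈ M) {u : G}
    (hu : u ∈ M) (h2 : orderOf u = 2) : ∃ m ∈ M, m * u * m⁻¹ = t := by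
  obtain ⟨m, hm, e⟩ := (h.k4.syl hV).exists_conj_le
    (isPGroup_zpowers (p := 2) (k := 1) (x := u) (by rw [pow_one, ← h2, pow_orderOf_eq_one]))
    (by simpa using hu)
  rcases h.k4.mem_Vf.mp (e (conj_mem_map_conj.mpr (mem_zpowers u))) with e1 | e1 | e1 | e1
  · rw [show u = 1 by simpa using e1, orderOf_one] at h2; omega
  · exact ⟨m, hm, e1⟩
  · refine ⟨w⁻¹ * m, mul_mem (inv_mem hw) hm, ?_⟩
    rw [show w⁻¹ * m * u * (w⁻¹ * m)⁻¹ = w⁻¹ * (m * u * m⁻¹) * w by group, e1, ← h.wt]; group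
  · refine ⟨w * m, mul_mem hw hm, ?_⟩
    rw [show w * m * u * (w * m)⁻¹ = w * (m * u * m⁻¹) * w⁻¹ by group, e1, h.rot2.wt]

theorem V4.ta_of_not_gen (h : V4 t s w) (hg : centralizer {t} ⊔ zpowers w ≠ ⊤) : TA G := by
  have hV : Vf t s ≤ centralizer {t} ⊔ zpowers w := h.k4.Vf_le_C.trans le_sup_left
  have hw : w ∈ centralizer {t} ⊔ zpowers w := mem_sup_right (mem_zpowers w)
  refine ⟨h.simple, h.not_comm, _, Invol.isStronglyEmbedded_iff.mpr ⟨hg, ?_, ?_⟩⟩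
  · exact even_iff_two_dvd.mpr ((show 2 ∣ Nat.card (Vf t s) by rw [h.k4.card_Vf]; norm_num).trans
      (card_dvd_of_le hV))
  · intro g u hu h2 hgu
    obtain ⟨m, hm, e⟩ := h.conj_t hV hw hu h2
    obtain ⟨m', hm', e'⟩ := h.conj_t hV hw hgu (by rw [← h2, ← (MulAut.conj g).orderOf_eq u]; simp)
    have h3 : m' * g * m⁻¹ ∈ centralizer {t} := mem_C.mpr (by nth_rw 1 [← e']; rw [← e]; group)
    simpa [mul_assoc] using mul_mem (mul_mem (inv_mem hm') (mem_sup_left h3)) hm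

theorem V4.vs_of_ta (hA : AG G) (h : V4 t s w) (ha : TA G) : VS t s w ⊥ := by
  have h1 : centralizer {t} = Vf t s :=
    (h.k4.syl le_top).eq_of_le (ha.cent hA h.tt h.t1).1.isPGroup h.k4.Vf_le_C le_top
  refine ⟨h, by simp, by simp, by simp, by simp [h.ss], by simp, by simp, by simp, fun g hg => ?_,
    by simp, by simp⟩
  · exact ⟨1, one_mem _, 1, one_mem _, by simpa using h.k4.mem_Vf.mp (h1.le (mem_C.mpr hg))⟩

end Cfsg.Agent.Lib.AG
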