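/-
A-groups project (S2554), piece C5: simple A-groups with Sylow 2-subgroup of order four.
-/
import Cfsg.Agent.Lib.AG.Vs0
import Cfsg.Agent.Lib.AG.Bone
import Cfsg.Agent.Lib.AG.Loc4d

set_option autoImplicit false

namespace Cfsg.Agent.Lib.AG

open Subgroup Cfsg.Agent.Lib.Core

universe u

theorem ih4 (n : ℕ) : IH4.{u} n := by
  induction n with
  | zero => exact fun _ _ _ h => absurd h (Nat.not_lt_zero _)
  | succ n ih' =>
  intro G _ _ hn hA t s w h
  have ih : IH4.{u} (Nat.card G) := fun X _ _ hX => ih' X (by omega)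
  by_cases gen : centralizer {t} ⊔ zpowers w = ⊤
  · obtain ⟨K, B, hK, h1⟩ := V4.local_of_max hA ih h gen (V4.max hA ih h gen)
    obtain rfl := h1.B_bot hA hK
    exact ⟨K, h1⟩
  · exact ⟨⊥, h.vs_of_ta hA (h.ta_of_not_gen gen)⟩

variable {G : Type u} [Group G] [Finite G] {t s w : G}

theorem V4.vs (hA : AG G) (h : V4 t s w) : ∃ K, VS t s w K :=
  ih4 _ G (Nat.lt_succ_self _) hA t s w h

theorem V4.kn (hA : AG G) (h : V4 t s w) : TA G ∨ TB G := by
  by_cases gen : centralizer {t} ⊔ zpowers w = ⊤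
  · obtain ⟨K, B, hK, h1⟩ := V4.local_of_max hA (ih4 _) h gen (V4.max hA (ih4 _) h gen)
    obtain rfl := h1.B_bot hA hK
    exact Or.inr ⟨t, s, w, K, h1, hK⟩
  · exact Or.inl (h.ta_of_not_gen gen)

end Cfsg.Agent.Lib.AG
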