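/-
A-groups project (S2554): identification of the Zassenhaus groups `L₂(q)`, `q` odd.
-/
import Cfsg.Agent.Lib.AG.Defs
import Cfsg.Agent.Lib.Root.RIS2a
import Cfsg.Agent.FT.H9.Field

set_option autoImplicit false

namespace Cfsg.Agent.Lib.AG

open Subgroup Cfsg.Agent.Lib.Root

theorem zs_roots {F : Type*} [Field F] {T : Finset F} {e e' α A D' : F} (he : e ≠ 0) (hα : α ≠ 0)
    (hαe : e' + α ≠ 0) (hA : A ≠ e) (hD : D' ≠ 0)
    (h : ∀ x ∈ T, x ≠ 0 ∧ ∃ a d, (a = e ∨ a = A) ∧ (d = 0 ∨ d = D') ∧ a * x * (x - e') = (e * x + d) * (x + α)) :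
    T.card ≤ 4 := by
  open Polynomial in
  let P1 : F[X] := C (e * e' + e * α + D') * X + C (D' * α)
  let P2 : F[X] := C (A - e) * X + C (-(A * e' + e * α))
  let P3 : F[X] := C (A - e) * X ^ 2 + C (-(A * e' + e * α + D')) * X + C (-(D' * α))
  have n1 : P1 ≠ 0 := fun e0 => mul_ne_zero hD hα (by simpa [P1] using congrArg (eval 0) e0)
  have n2 : P2 ≠ 0 := fun e0 => hA (sub_eq_zero.1 (by
    have := congrArg (fun p => coeff p 1) e0
    simpa [P2, coeff_one, ← C_mul, ← C_add, ← C_neg, -map_mul, -map_add, -map_neg, -map_sub] using this))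
  have n3 : P3 ≠ 0 := fun e0 => mul_ne_zero hD hα (by simpa [P3] using congrArg (eval 0) e0)
  have d1 : P1.natDegree ≤ 1 := natDegree_linear_le
  have d2 : P2.natDegree ≤ 1 := natDegree_linear_le
  have d3 : P3.natDegree ≤ 2 := natDegree_quadratic_le
  have hs : T.val ⊆ (P1 * P2 * P3).roots := fun x hx => by
    obtain ⟨x0, a, d, h1, h2, h3⟩ := h x hx
    rw [mem_roots (mul_ne_zero (mul_ne_zero n1 n2) n3), IsRoot, eval_mul, eval_mul, mul_eq_zero, mul_eq_zero]
    rcases h1 with rfl | rfl <;> rcases h2 with rfl | rfl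
    · exact absurd (show a * x * (e' + α) = 0 by linear_combination -h3) (mul_ne_zero (mul_ne_zero he x0) hαe)
    · refine .inl (.inl ?_)
      simp only [P1, eval_add, eval_mul, eval_C, eval_X]
      linear_combination -h3
    · refine .inl (.inr (mul_left_cancel₀ x0 ?_))
      simp only [P2, eval_add, eval_mul, eval_C, eval_X]
      linear_combination h3
    · refine .inr ?_
      simp only [P3, eval_add, eval_mul, eval_C, eval_X, eval_pow]
      linear_combination h3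
  have := card_le_degree_of_subset_roots hs
  have := natDegree_mul_le (p := P1 * P2) (q := P3)
  have := natDegree_mul_le (p := P1) (q := P2)
  omega

variable {G : Type*} [Group G] [Finite G] {Q D : Subgroup G} {p q : ℕ} {j : G}

namespace ZS

variable (h : ZS Q D p q j)
include h

theorem jinv : j⁻¹ = j := inv_eq_of_mul_eq_one_right h.jj

theorem jd {d : G} (hd : d ∈ D) : j * d = d⁻¹ * j := by
  rw [← h.jD d hd, mul_assoc, h.jj, mul_one]

theorem dj {d : G} (hd : d ∈ D) : d * j = j * d⁻¹ := by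
  rw [h.jd (inv_mem hd), inv_inv]

theorem commD {d d' : G} (hd : d ∈ D) (hd' : d' ∈ D) : d * d' = d' * d := by
  apply inv_injective
  rw [← h.jD _ (mul_mem hd hd'), mul_inv_rev, ← h.jD d hd, ← h.jD d' hd']
  simp only [mul_assoc, ← mul_assoc j j, h.jj, one_mul]

theorem eq_one_of_pow {d : G} (hd : d ∈ D) {n : ℕ} (hn : n ∣ q) (e : d ^ n = 1) : d = 1 := by
  have h1 := orderOf_dvd_natCard D hd
  have h2 := (orderOf_dvd_of_pow_eq_one e).trans hn
  rw [← h.cardD] at h2
  exact orderOf_eq_one_iff.1 (Nat.dvd_one.1 ((Nat.dvd_add_right (h1.mul_left 2)).1 h2))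

theorem eq_one_QD {d : G} (hd : d ∈ D) (hq : d ∈ Q) : d = 1 :=
  h.eq_one_of_pow hd dvd_rfl (by rw [← h.cardQ]; exact orderOf_dvd_iff_pow_eq_one.1 (orderOf_dvd_natCard Q hq))

theorem cjQ {d u : G} (hd : d ∈ D) (hu : u ∈ Q) : d * u * d⁻¹ ∈ Q := (mem_normalizer_iff.1 (h.normD hd) u).1 hu

theorem semi {d u : G} (hd : d ∈ D) (hu : u ∈ Q) (h1 : u ≠ 1) (e : d * u * d⁻¹ = u) : d = 1 :=
  h.eq_one_QD hd (h.centQ u hu h1 d (by rw [← e, inv_mul_cancel_right, e]))

theorem not_mem {u : G} (hu : u ∈ Q) (h1 : u ≠ 1) : j * u * j ∉ Q ⊔ D := by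
  intro hm
  obtain ⟨v, hv, d, hd, e⟩ := (mem_sup_of_norm fun a ha => mem_normalizer_iff_conjBy.1 (h.normD ha)).1 hm
  have k : ∀ n : ℕ, (v * d) ^ n * (d ^ n)⁻¹ ∈ Q := fun n => by
    induction n with
    | zero => simp
    | succ n ih =>
      have := mul_mem hv (h.cjQ hd ih)
      rwa [show v * (d * ((v * d) ^ n * (d ^ n)⁻¹) * d⁻¹) = (v * d) ^ (n + 1) * (d ^ (n + 1))⁻¹ by
        rw [pow_succ' (v * d), pow_succ' d]; group] at this
  have k1 := k p
  rw [← e, show j * u * j = j * u * j⁻¹ by rw [h.jinv], conj_pow, h.expQ u hu, mul_one, mul_inv_cancel, one_mul,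
    inv_mem_iff] at k1
  have hp : p ∣ q := by
    have := Fact.mk h.prime
    rw [← h.cardQ, ← orderOf_eq_prime (h.expQ u hu) h1]
    exact orderOf_dvd_natCard Q hu
  rw [h.eq_one_of_pow hd hp (h.eq_one_QD (pow_mem hd p) k1), mul_one] at e
  exact h.jQ (h.ti j u hu h1 (by rw [h.jinv, e]; exact hv))

theorem irr (X : Subgroup G) (hX : X ≤ Q) (hn : D ≤ normalizer (X : Set G)) : X = ⊥ ∨ X = Q := by
  refine or_iff_not_imp_left.2 fun hb => ?_
  obtain ⟨u, hu, h1⟩ := exists_ne_one_of_ne_bot hb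
  let f : Option D → X := fun o => o.elim 1 fun d => ⟨d * u * (d : G)⁻¹, (mem_normalizer_iff.1 (hn d.2) u).1 hu⟩
  have inj : Function.Injective f := by
    rintro (_ | d) (_ | d') e
    · rfl
    · exact absurd (conj_eq_one_iff.1 (congrArg Subtype.val e).symm) h1
    · exact absurd (conj_eq_one_iff.1 (congrArg Subtype.val e)) h1
    · have e1 : (d : G) * u * (d : G)⁻¹ = d' * u * (d' : G)⁻¹ := congrArg Subtype.val e
      have := h.semi (mul_mem (inv_mem d'.2) d.2) (hX hu) h1 (by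
        calc _ = (d' : G)⁻¹ * (d * u * (d : G)⁻¹) * d' := by group
          _ = u := by rw [e1]; group)
      rw [Subtype.ext (inv_mul_eq_one.1 this)]
  have h2 := Nat.card_le_card_of_injective f inj
  rw [Finite.card_option] at h2
  obtain ⟨k, hk⟩ := card_dvd_of_le hX
  refine eq_of_le_of_card_ge hX ?_
  have h3 := h.cardD
  rw [← h.cardQ] at h3
  rcases k with _ | _ | k
  · omega
  · omega
  · nlinarith

end ZS

/-- coordinates -/
structure ZC (Q D : Subgroup G) {F : Type*} [Field F] (x : F → G) (ψ : G → F) : Prop where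
  add : ∀ s t, x (s + t) = x s * x t
  mem : ∀ s, x s ∈ Q
  surj : ∀ u ∈ Q, ∃ s, x s = u
  inj : Function.Injective x
  cj : ∀ d ∈ D, ∀ s, d * x s * d⁻¹ = x (ψ d * s)

theorem ZS.coord (h : ZS Q D p q j) : ∃ (F : Type) (_ : Field F) (_ : Fintype F) (x : F → G) (ψ : G → F),
    Fintype.card F = q ∧ ZC Q D x ψ := by
  have hb : Q ≠ ⊥ := fun e => by
    have := h.cardQ
    have := h.q11
    rw [e, card_bot] at *
    omega
  obtain ⟨s, hs, h1⟩ := exists_ne_one_of_ne_bot hb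
  obtain ⟨F, _, φ, ψ, c, -, a1, a2, a3, a4⟩ := FT.P9.exists_finField (V := Q) (A := D) (subComm_iff.2 h.commQ) h.normD
    (by rw [comm_iff.1 fun a ha b hb => h.commD ha hb]; exact bot_le) h.irr hs h1
  have : Finite F := Nat.finite_of_card_ne_zero (c ▸ Nat.card_pos.ne')
  obtain ⟨F', _, _, ⟨σ⟩⟩ : ∃ (F' : Type) (_ : Field F') (_ : Fintype F'), Nonempty (F' ≃+* F) :=
    ⟨_, (Finite.equivFin F).symm.field, inferInstance, ⟨(Finite.equivFin F).symm.ringEquiv⟩⟩
  choose x hx1 hx2 using a3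
  have inj : ∀ u ∈ Q, ∀ v ∈ Q, φ u = φ v → u = v := fun u hu v hv e => by
    have := a1 _ (mul_mem hu (inv_mem hv)) v hv
    rw [inv_mul_cancel_right, e, eq_comm, add_eq_right, a2 _ (mul_mem hu (inv_mem hv))] at this
    exact mul_inv_eq_one.1 this
  refine ⟨F', inferInstance, inferInstance, fun s => x (σ s), fun d => σ.symm (ψ d), ?_, fun s t => ?_,
    fun s => hx1 _, fun u hu => ⟨σ.symm (φ u), ?_⟩, fun s t e => σ.injective ?_, fun d hd s => ?_⟩
  · rw [← h.cardQ, ← c, ← Nat.card_eq_fintype_card]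
    exact Nat.card_congr σ.toEquiv
  · exact inj _ (hx1 _) _ (mul_mem (hx1 _) (hx1 _)) (by rw [a1 _ (hx1 _) _ (hx1 _), hx2, hx2, hx2, map_add])
  · exact inj _ (hx1 _) _ hu (by rw [hx2, σ.apply_symm_apply])
  · rw [← hx2 (σ s), ← hx2 (σ t)]
    exact congrArg φ e
  · exact inj _ (h.cjQ hd (hx1 _)) _ (hx1 _) (by rw [a4 _ (hx1 _) d hd, hx2, hx2, map_mul, σ.apply_symm_apply])

variable {F : Type*} [Field F] {x : F → G} {ψ : G → F}

namespace ZC

variable (c : ZC Q D x ψ)
include c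

theorem zero : x 0 = 1 := by simpa using c.add 0 0

theorem neg (s : F) : x (-s) = (x s)⁻¹ := eq_inv_of_mul_eq_one_left (by rw [← c.add, neg_add_cancel, c.zero])

theorem ne_one {s : F} (hs : s ≠ 0) : x s ≠ 1 := fun e => hs (c.inj (e.trans c.zero.symm))

theorem mul {d d' : G} (hd : d ∈ D) (hd' : d' ∈ D) : ψ (d * d') = ψ d * ψ d' := by
  have := c.cj _ (mul_mem hd hd') 1
  rw [show d * d' * x 1 * (d * d')⁻¹ = d * (d' * x 1 * d'⁻¹) * d⁻¹ by group, c.cj d' hd', c.cj d hd] at this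
  simpa using (c.inj this).symm

theorem one : ψ 1 = 1 := by
  have := c.cj 1 (one_mem D) 1
  simpa using (c.inj (by simpa using this)).symm

theorem inv {d : G} (hd : d ∈ D) : ψ d * ψ d⁻¹ = 1 := by rw [← c.mul hd (inv_mem hd), mul_inv_cancel, c.one]

theorem ne {d : G} (hd : d ∈ D) : ψ d ≠ 0 := left_ne_zero_of_mul_eq_one (c.inv hd)

theorem dx {d : G} (hd : d ∈ D) (s : F) : d * x s = x (ψ d * s) * d := by rw [← c.cj d hd, inv_mul_cancel_right]

theorem xd {d : G} (hd : d ∈ D) (s : F) : x s * d = d * x (ψ d⁻¹ * s) := by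
  rw [← c.cj _ (inv_mem hd)]; group

end ZC

/-- the decomposition of `j x(c) j` -/
def Cl (D : Subgroup G) (j : G) (x : F → G) (c e : F) (d : G) (e' : F) : Prop :=
  d ∈ D ∧ j * x c * j = x e * d * j * x e'

namespace ZS

variable (h : ZS Q D p q j) (c : ZC Q D x ψ)
include h c

theorem cl_ex {s : F} (hs : s ≠ 0) : ∃ e d e', Cl D j x s e d e' := by
  obtain ⟨u, hu, d, hd, v, hv, e⟩ := h.cell _ (h.not_mem (c.mem s) (c.ne_one hs))
  obtain ⟨e1, rfl⟩ := c.surj u hu
  obtain ⟨e2, rfl⟩ := c.surj v hv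
  exact ⟨e1, d, e2, hd, e⟩

theorem cl_uq {s e e' f f' : F} {d d' : G} (k : Cl D j x s e d e') (k' : Cl D j x s f d' f') :
    e = f ∧ d = d' ∧ e' = f' := by
  have e0 := k.2.symm.trans k'.2
  have h3 : e' = f' := by
    by_contra hne
    refine h.not_mem (c.mem (e' + -f')) (c.ne_one (by rwa [← sub_eq_add_neg, sub_ne_zero])) ?_
    have : j * x (e' + -f') * j = (x e * d)⁻¹ * (x f * d') * (j * j) := by
      rw [c.add, c.neg]
      calc _ = (x e * d)⁻¹ * (x e * d * j * x e') * (x f')⁻¹ * j := by group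
        _ = _ := by rw [e0]; group
    rw [this, h.jj, mul_one]
    exact mul_mem (inv_mem (mul_mem (mem_sup_left (c.mem _)) (mem_sup_right k.1)))
      (mul_mem (mem_sup_left (c.mem _)) (mem_sup_right k'.1))
  rw [h3, mul_left_inj, mul_left_inj] at e0
  have h2 : d = d' := mul_inv_eq_one.1 (h.eq_one_QD (mul_mem k.1 (inv_mem k'.1)) (by
    rw [show d * d'⁻¹ = (x e)⁻¹ * (x e * d) * d'⁻¹ by group, e0, mul_assoc, mul_inv_cancel_right]
    exact mul_mem (inv_mem (c.mem _)) (c.mem _)))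
  rw [h2, mul_left_inj] at e0
  exact ⟨c.inj e0, h2, h3⟩

theorem cl_ne {s e e' : F} {d : G} (k : Cl D j x s e d e') : s ≠ 0 := by
  rintro rfl
  have e0 := k.2
  rw [c.zero, mul_one, h.jj] at e0
  refine h.jQ ?_
  rw [show j = (x e * d)⁻¹ * (x e * d * j * x e') * (x e')⁻¹ by group, ← e0, mul_one]
  exact mul_mem (inv_mem (mul_mem (mem_sup_left (c.mem _)) (mem_sup_right k.1))) (inv_mem (mem_sup_left (c.mem _)))

theorem cl_neg {s e e' : F} {d : G} (k : Cl D j x s e d e') : Cl D j x (-s) (-e') d (-e) := by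
  refine ⟨k.1, ?_⟩
  have e0 := congrArg (·⁻¹) k.2
  simp only [mul_inv_rev, h.jinv] at e0
  rw [c.neg, c.neg, c.neg, mul_assoc, e0, mul_assoc _ d, h.dj k.1]
  group

theorem cl_cj {s e e' : F} {d d0 : G} (k : Cl D j x s e d e') (h0 : d0 ∈ D) :
    Cl D j x (ψ d0 * s) (ψ d0⁻¹ * e) (d0⁻¹ * d * d0⁻¹) (ψ d0⁻¹ * e') := by
  refine ⟨mul_mem (mul_mem (inv_mem h0) k.1) (inv_mem h0), ?_⟩
  rw [← c.cj d0 h0, ← c.cj _ (inv_mem h0), ← c.cj _ (inv_mem h0)]
  calc _ = (j * d0) * x s * (d0⁻¹ * j) := by group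
    _ = d0⁻¹ * (j * x s * j) * d0 := by rw [h.dj (inv_mem h0), inv_inv]; nth_rw 1 [h.jd h0]; group
    _ = d0⁻¹ * x e * d * (j * d0) * d0⁻¹ * x e' * d0 := by rw [k.2]; group
    _ = _ := by rw [h.jd h0]; group

theorem cl_inv {s e e' : F} {d : G} (k : Cl D j x s e d e') : Cl D j x e s d⁻¹ (ψ d⁻¹ * -e') := by
  refine ⟨inv_mem k.1, ?_⟩
  have e0 : x e = j * x s * j * (x e')⁻¹ * j⁻¹ * d⁻¹ := by rw [k.2]; group
  rw [mul_assoc (x s), ← h.jd k.1, mul_assoc (x s), mul_assoc j d, ← c.xd k.1, c.neg, e0, h.jinv]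
  calc _ = (j * j) * x s * j * (x e')⁻¹ * (j * d⁻¹ * j) := by group
    _ = _ := by rw [h.jj, h.jD _ (inv_mem k.1)]; group

theorem cl_add {s e e' t f f' g g' : F} {d d' d'' : G} (k : Cl D j x s e d e') (k' : Cl D j x t f d' f')
    (k'' : Cl D j x (e' + f) g d'' g') : Cl D j x (s + t) (e + ψ d * g) (d * d'' * d') (ψ d' * g' + f') := by
  refine ⟨mul_mem (mul_mem k.1 k''.1) k'.1, ?_⟩
  rw [c.add, c.add, c.add, ← c.cj d k.1, ← c.cj d' k'.1]
  calc _ = (j * x s * j) * (j * j)⁻¹ * (j * x t * j) := by group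
    _ = x e * d * (j * (x e' * x f) * j) * (j * d' * j) * (j * j)⁻¹ * x f' * (j * j)⁻¹ * (j * j) := by
      rw [k.2, k'.2, h.jj]; simp only [mul_assoc, ← mul_assoc j j, h.jj, one_mul, inv_one, mul_one]
    _ = x e * d * x g * d'' * (j * d'⁻¹) * d' * x g' * d'⁻¹ * x f' := by
      rw [← c.add, k''.2, h.jD _ k'.1, h.jj]; group
    _ = _ := by rw [← h.dj k'.1]; group

theorem const [Fintype F] (hF : Fintype.card F = q) : ∃ α : F, α ≠ 0 ∧ ∀ s e d e', Cl D j x s e d e' → s * e = α := by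
  classical
  letI := Fintype.ofFinite D
  let κ : D →* Fˣ := MonoidHom.mk' (fun d => Units.mk0 (ψ d) (c.ne d.2)) fun a b => Units.ext (c.mul a.2 b.2)
  have ki : Function.Injective κ := (injective_iff_map_eq_one κ).2 fun d hd => Subtype.ext
    (h.semi d.2 (c.mem 1) (c.ne_one one_ne_zero) (by
      rw [c.cj _ d.2, show ψ d = 1 from congrArg Units.val hd, mul_one]))
  have i2 : κ.range.index = 2 := by
    have h1 := κ.range.card_mul_index
    have h2 := h.cardD
    rw [← Nat.card_congr (κ.ofInjective ki).toEquiv, Nat.card_units, Nat.card_eq_fintype_card (α := F), hF] at h1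
    exact Nat.eq_of_mul_eq_mul_left (Nat.card_pos (α := D)) (by omega)
  have ex : ∀ s : F, ∃ e d e', s ≠ 0 → Cl D j x s e d e' := fun s => by
    by_cases hs : s = 0
    · exact ⟨0, 1, 0, fun h => absurd hs h⟩
    · obtain ⟨e, d, e', k⟩ := h.cl_ex c hs
      exact ⟨e, d, e', fun _ => k⟩
  choose f δ g k using ex
  have uq : ∀ {s e d e'}, Cl D j x s e d e' → f s = e := fun k' => (h.cl_uq c (k _ (h.cl_ne c k')) k').1
  have f0 : ∀ s, s ≠ 0 → f s ≠ 0 := fun s hs => h.cl_ne c (h.cl_inv c (k s hs))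
  have orb : ∀ d ∈ D, ∀ s, s ≠ 0 → ψ d * s * f (ψ d * s) = s * f s := fun d hd s hs => by
    rw [uq (h.cl_cj c (k s hs) hd)]
    linear_combination (s * f s) * c.inv hd
  have rel : ∀ s t (hs : s ≠ 0) (ht : t ≠ 0), Units.mk0 s hs * (Units.mk0 t ht)⁻¹ ∈ κ.range →
      s * f s = t * f t := by
    rintro s t hs ht ⟨d, hd⟩
    have : s = ψ d * t := by
      have e : ψ d = s * t⁻¹ := by simpa [κ] using congrArg Units.val hd
      rw [e, inv_mul_cancel_right₀ ht]
    rw [this, orb d d.2 t ht]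
  have two : ∀ s t u, s ≠ 0 → t ≠ 0 → u ≠ 0 → s * f s ≠ t * f t → u * f u = s * f s ∨ u * f u = t * f t := by
    intro s t u hs ht hu hne
    by_contra hn
    push Not at hn
    refine hne (rel s t hs ht ?_)
    have := (mul_mem_iff_of_index_two i2).2 (iff_of_false (fun m => hn.1 (rel s u hs hu m).symm)
      fun m => hn.2 (rel u t hu ht m))
    simpa [mul_assoc] using this
  have m1 : (-1 : F) ≠ 0 := neg_ne_zero.2 one_ne_zero
  refine ⟨-1 * f (-1), mul_ne_zero m1 (f0 _ m1), fun s e d e' k' => ?_⟩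
  rw [← uq k']
  by_contra hne
  have hs := h.cl_ne c k'
  have k1 := k 1 one_ne_zero
  have g1 : g 1 = -f (-1) := by rw [uq (h.cl_neg c k1), neg_neg]
  have e0 := f0 _ m1
  have k2 := h.cl_neg c (h.cl_inv c (h.cl_neg c k1))
  have m2 : ψ (δ 1) * (g 1 * f (g 1)) = f 1 * f (-1) := by
    have := uq k2
    rw [neg_neg, neg_neg] at this
    rw [this, g1]
    linear_combination (f 1 * f (-1)) * c.inv k1.1
  have g0 : g 1 ≠ 0 := g1 ▸ neg_ne_zero.2 e0
  have oth : ∀ u v, u ≠ 0 → v ≠ 0 → u * f u = v * f v ∨ u * f u = s * f s + -1 * f (-1) - v * f v := fun u v hu hv => by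
    rcases two s (-1) u hs m1 hu hne with a | a <;> rcases two s (-1) v hs m1 hv hne with b | b <;> rw [a, b] <;> simp
  have othne : ∀ v, v ≠ 0 → s * f s + -1 * f (-1) - v * f v ≠ v * f v := fun v hv e => hne (by
    rcases two s (-1) v hs m1 hv hne with b | b <;> rw [b] at e
    · linear_combination -e
    · linear_combination e)
  have := zs_roots (T := Finset.univ.image fun d : D => ψ d * s) (e := f 1) (e' := f (-1)) (α := s * f s)
    (A := s * f s + -1 * f (-1) - 1 * f 1) (D' := ψ (δ 1) * (s * f s + -1 * f (-1) - g 1 * f (g 1)) - f 1 * f (-1))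
    (f0 1 one_ne_zero) (mul_ne_zero hs (f0 s hs)) (fun e => hne (by linear_combination e))
    (by simpa using othne 1 one_ne_zero) (fun e => othne _ g0 (mul_left_cancel₀ (c.ne k1.1) (by
      linear_combination e - m2))) (by
    intro y hy
    obtain ⟨d, -, rfl⟩ := Finset.mem_image.1 hy
    have y0 := mul_ne_zero (c.ne d.2) hs
    have ya := orb d d.2 s hs
    generalize ψ d * s = y at y0 ya
    have ky := h.cl_inv c (k y y0)
    have n1 : g 1 + y ≠ 0 := fun e => hne (by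
      have e1 : y = f (-1) := by rw [g1] at e; linear_combination e
      rw [← ya, e1, uq (h.cl_inv c (k _ m1)), mul_comm])
    have ka := h.cl_add c k1 ky (k _ n1)
    have n2 := h.cl_ne c ka
    have e1 := uq ka
    refine ⟨y0, (1 + f y) * f (1 + f y), ψ (δ 1) * ((g 1 + y) * f (g 1 + y)) - f 1 * f (-1), ?_, ?_, ?_⟩
    · simpa using oth _ 1 n2 one_ne_zero
    · rcases oth _ _ n1 g0 with a | a <;> rw [a]
      · exact .inl (by rw [m2, sub_self])
      · exact .inr rfl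
    · rw [e1, ← ya, g1]
      ring)
  rw [Finset.card_image_of_injective _ (f := fun d : D => ψ d * s)
    (fun a b e => ki (Units.ext (mul_right_cancel₀ hs e))), Finset.card_univ, ← Nat.card_eq_fintype_card] at this
  have := h.cardD
  have := h.q11
  omega

theorem psl2 [Fintype F] (hF : Fintype.card F = q) : IsPSL2PairOver F Q (conjBy Q j) := by
  obtain ⟨α, α0, hα⟩ := h.const c hF
  have st : StRel x fun u => j * x (α * u) * j := by
    refine ⟨c.add, fun s t => ?_, fun t ht u => ?_⟩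
    · rw [mul_add, c.add]
      simp only [mul_assoc, ← mul_assoc j j, h.jj, one_mul]
    · have s0 : α * -t⁻¹ ≠ 0 := mul_ne_zero α0 (neg_ne_zero.2 (inv_ne_zero ht))
      obtain ⟨e, d, e', k⟩ := h.cl_ex c s0
      have e1 : e = -t := mul_left_cancel₀ s0 (by rw [hα _ _ _ _ k]; field_simp)
      have e2 : e' = -t := mul_left_cancel₀ s0 (by
        have := hα _ _ _ _ (h.cl_neg c k)
        rw [neg_mul_neg] at this
        rw [this]; field_simp)
      have e3 := hα _ _ _ _ (h.cl_neg c (h.cl_inv c k))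
      rw [k.2, e1, e2, c.neg, show α * (-u / t ^ 2) = ψ d⁻¹ * u by
        rw [← e3, e1, e2]; field_simp, ← c.cj _ (inv_mem k.1)]
      calc _ = (d * j) * x u * (j⁻¹ * d⁻¹) := by group
        _ = _ := by rw [h.jinv, ← h.dj k.1]; nth_rw 1 [h.dj k.1]; group
  have e1 : paramSub x st.x_add = Q := Subgroup.ext fun u => ⟨fun ⟨s, e⟩ => e ▸ c.mem s, c.surj u⟩
  have e2 : paramSub _ st.y_add = conjBy Q j := Subgroup.ext fun u => by
    rw [mem_conjBy', h.jinv]
    constructor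
    · rintro ⟨s, rfl⟩; exact ⟨_, c.mem (α * s), rfl⟩
    · rintro ⟨a, ha, rfl⟩
      obtain ⟨s, rfl⟩ := c.surj a ha
      exact ⟨α⁻¹ * s, by simp only [mul_inv_cancel_left₀ α0]⟩
  have := st.psl2 st.relC_finite (by
    rw [e1, e2]
    intro e
    have := conj_mem_conjBy (c.mem 1) j
    rw [← e, h.jinv] at this
    exact h.not_mem (c.mem 1) (c.ne_one one_ne_zero) (mem_sup_left this))
  rwa [e1, e2] at this

end ZS

theorem ZS.sup_eq_top (h : ZS Q D p q j) : Q ⊔ conjBy Q j = ⊤ := by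
  have := h.simple
  have n1 : Q ⊔ D ≤ normalizer ((Q ⊔ conjBy Q j : Subgroup G) : Set G) := by
    refine sup_le (le_sup_left.trans le_normalizer) fun d hd => mem_normalizer_iff_conjBy.2 ?_
    rw [conjBy_sup, conjBy_conjBy, h.dj hd, ← conjBy_conjBy, mem_normalizer_iff_conjBy.1 (h.normD hd),
      mem_normalizer_iff_conjBy.1 (h.normD (inv_mem hd))]
  have n2 : j ∈ normalizer ((Q ⊔ conjBy Q j : Subgroup G) : Set G) := by
    rw [mem_normalizer_iff_conjBy, conjBy_sup, conjBy_conjBy, h.jj, conjBy_one, sup_comm]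
  have : (Q ⊔ conjBy Q j).Normal := normalizer_eq_top_iff.1 (eq_top_iff.2 fun g _ => by
    by_cases hg : g ∈ Q ⊔ D
    · exact n1 hg
    · obtain ⟨u, hu, d, hd, v, hv, rfl⟩ := h.cell g hg
      exact mul_mem (mul_mem (mul_mem (n1 (mem_sup_left hu)) (n1 (mem_sup_right hd))) n2) (n1 (mem_sup_left hv)))
  refine (this.eq_bot_or_eq_top).resolve_left fun e => ?_
  have h1 := h.cardQ
  have := h.q11
  rw [eq_bot_iff.2 (le_sup_left.trans e.le), card_bot] at h1
  omega

theorem ZS.iso (h : ZS Q D p q j) : ∃ (F : Type) (_ : Field F) (_ : Fintype F), Fintype.card F = q ∧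
    Nonempty (G ≃* Matrix.ProjectiveSpecialLinearGroup (Fin 2) F) := by
  have := h.simple
  obtain ⟨F, _, _, x, ψ, hF, c⟩ := h.coord
  obtain ⟨φ, h1, h2, -⟩ := h.psl2 c hF
  have hs : Function.Surjective φ := MonoidHom.range_eq_top.1 (h1.trans h.sup_eq_top)
  have hz : center G = ⊥ := (Normal.eq_bot_or_eq_top inferInstance).resolve_right fun e =>
    h.jQ (mem_sup_left (h.centQ _ (c.mem 1) (c.ne_one one_ne_zero) j (mem_center_iff.1 (e ▸ mem_top j) _)))
  have hk : φ.ker = center _ := le_antisymm h2 fun z hz' => by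
    rw [MonoidHom.mem_ker, ← mem_bot, ← hz, mem_center_iff]
    intro g
    obtain ⟨M, rfl⟩ := hs g
    rw [← map_mul, ← map_mul, mem_center_iff.1 hz' M]
  exact ⟨F, _, _, hF, ⟨(QuotientGroup.quotientKerEquivOfSurjective φ hs).symm.trans
    (QuotientGroup.quotientMulEquivOfEq hk)⟩⟩

end Cfsg.Agent.Lib.AG
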