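/-
A-groups project (S2554): the top induction and the translation of the conclusion.
-/
import Cfsg.Agent.Lib.AG.Vs
import Cfsg.Agent.Lib.AG.Kn
import Cfsg.Agent.Lib.AG.Zas
import Cfsg.Agent.Lib.AG.BSW
import Cfsg.Agent.Lib.AG.J1Br
import Cfsg.Agent.Lib.AG.Aut
import Cfsg.Agent.FT.Cons.Meta3
import Cfsg.Agent.Lib.Forms.SmallPerm
import Cfsg.Agent.Lib.Hall.PSL2b

set_option autoImplicit false
set_option linter.unusedSectionVars false

namespace Cfsg.Agent.Lib.AG

open Subgroup Cfsg.Agent.Lib.Core Cfsg.Agent.FT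

universe u

variable {G : Type u} [Group G] [Finite G]

theorem ag_of_sylow (hA : ∀ (p : ℕ), p.Prime → ∀ (P : Sylow p G), IsMulCommutative ↥P) : AG G :=
  fun p hp P hP x hx y hy => by
    obtain ⟨Q, hQ⟩ := hP.exists_le_sylow
    exact congrArg Subtype.val ((hA p hp Q).is_comm.comm ⟨x, hQ hx⟩ ⟨y, hQ hy⟩)

theorem nsolv_of_simple [IsSimpleGroup G] (hna : ∃ a b : G, a * b ≠ b * a) : ¬ Group.IsSolvable G := fun h => by
  obtain ⟨a, b, e⟩ := hna
  exact e (IsSimpleGroup.comm_iff_isSolvable.2 h a b)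

theorem iso_A5 [IsSimpleGroup G] (h : Nat.card G = 60) : Nonempty (G ≃* alternatingGroup (Fin 5)) := by
  classical
  have := Fact.mk Nat.prime_five
  have hns : ¬ Group.IsSolvable G := fun hs => by
    let _ : CommGroup G := ⟨IsSimpleGroup.comm_iff_isSolvable.2 hs⟩
    exact absurd (h ▸ IsSimpleGroup.prime_card (α := G)) (by norm_num)
  obtain ⟨P⟩ : Nonempty (Sylow 5 G) := inferInstance
  have hP : Nat.card P = 5 := by rw [P.card_eq_multiplicity, h]; decide +kernel
  have n : ¬ (P : Subgroup G).Normal := fun n => by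
    rcases n.eq_bot_or_eq_top with e | e <;> simp [e, h] at hP
  have h1 : Nat.card (Sylow 5 G) ≠ 1 := fun e => n (by
    have := (Nat.card_eq_one_iff_unique.1 e).1
    exact P.normal_of_subsingleton)
  have h2 := card_sylow_modEq_one 5 G
  have h3 := P.card_dvd_index
  have h4 := (P : Subgroup G).card_mul_index
  rw [hP, h] at h4
  rw [show (P : Subgroup G).index = 12 by omega] at h3
  have h5 := Nat.le_of_dvd (by norm_num) h3
  have h6 : Nat.card (Sylow 5 G) = 6 := by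
    unfold Nat.ModEq at h2
    generalize Nat.card (Sylow 5 G) = m at *
    interval_cases m <;> omega
  have := Fintype.ofFinite (Sylow 5 G)
  have hi : Function.Injective (MulAction.toPermHom G (Sylow 5 G)) :=
    (MonoidHom.ker_eq_bot_iff _).1 ((MonoidHom.normal_ker _).eq_bot_or_eq_top.resolve_right fun e =>
      n (normalizer_eq_top_iff.1 (eq_top_iff.2 fun g _ => Sylow.smul_eq_iff_mem_normalizer.1
        (Equiv.congr_fun (MonoidHom.mem_ker.1 (e.ge (mem_top g))) P))))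
  rcases Forms.equiv_of_six hns hi h6 with (e | ⟨⟨e⟩⟩) | ⟨⟨e⟩⟩ | ⟨⟨e⟩⟩
  · exact e
  all_goals
    have := h.symm.trans (Nat.card_congr e.toEquiv)
    simp only [nat_card_alternatingGroup, Nat.card_perm, Nat.card_fin] at this
    exact absurd this (by decide)

theorem two_gen {K S : Subgroup G} (hle : K ≤ S) (h : K.relIndex S = 4) :
    ∃ x ∈ S, ∃ y ∈ S, S ≤ K ⊔ (zpowers x ⊔ zpowers y) := by
  have two : ∀ {H L : Subgroup G}, H < L → 2 * Nat.card H ≤ Nat.card L := fun h => by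
    obtain ⟨k, hk⟩ := card_dvd_of_le h.le
    have := card_lt_of_lt h
    rcases k with _ | _ | k <;> [omega; omega; nlinarith]
  have c := card_mul_relIndex hle
  have p := Nat.card_pos (α := K)
  rw [h] at c
  obtain ⟨x, hx, hx'⟩ := SetLike.exists_of_lt (lt_of_le_of_ne hle fun e => by subst e; omega)
  have l1 : K < K ⊔ zpowers x := lt_of_le_of_ne le_sup_left fun e => hx' (e ▸ mem_sup_right (mem_zpowers x))
  refine ⟨x, hx, by_contra fun hn => ?_⟩
  obtain ⟨y, hy, hy'⟩ := SetLike.not_le_iff_exists.1 fun e : S ≤ K ⊔ zpowers x => hn ⟨x, hx, by rwa [sup_idem]⟩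
  have l2 : K ⊔ zpowers x < K ⊔ zpowers x ⊔ zpowers y :=
    lt_of_le_of_ne le_sup_left fun e => hy' (e ▸ mem_sup_right (mem_zpowers y))
  have := two l1
  have := two l2
  exact hn ⟨y, hy, sup_assoc K _ _ ▸ (eq_of_le_of_card_ge (sup_le (sup_le hle (zpowers_le.2 hx)) (zpowers_le.2 hy))
    (by omega)).ge⟩

/-- Brauer: an abelian Sylow 2-subgroup of rank two of a non-solvable group is a four-group -/
theorem eq_Ohm1_of_four {S : Subgroup G} (hS : IsSyl 2 S ⊤) (hc : IsMulCommutative S)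
    (hns : ¬ Group.IsSolvable G) (h4 : Nat.card (Ohm1 S) = 4) : Ohm1 S = S := by
  have nc : ∀ x, zpowers x = S → False := fun x e => by
    have := card_Ohm1_of_isCyclic (p := 2) (e ▸ FT.isCyclic_zpowers x) hS.isPGroup fun e => by simp [e, Ohm1_bot] at h4
    omega
  have k : ∀ a s, zpowers a ⊔ zpowers s = S → s ^ 2 ∈ zpowers a := fun a s e => by_contra fun h =>
    hns (Cons.solvable_of_mcyc G S a s ⟨hS, Nrm.of_isComm hc (e ▸ le_sup_left), e, h⟩)
  obtain ⟨x, hx, y, hy, h⟩ := two_gen (PhiOf_le S) (by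
    rw [relIndex_PhiOf_eq_pow_prank hS.isPGroup hc, ← (pnElem_Ohm1' hS.isPGroup hc).card, h4])
  replace h := Phi_nongen (sup_le (zpowers_le.2 hx) (zpowers_le.2 hy)) h
  obtain ⟨n, hn⟩ := Cons.exists_npow (k x y h)
  rcases Nat.even_or_odd n with ⟨j, rfl⟩ | ho
  · have c : Commute y x := mul_comm_of_isComm hc hy hx
    have e1 : (y * (x ^ j)⁻¹) ^ 2 = 1 := by
      rw [(c.pow_right j).inv_right.mul_pow, ← hn, inv_pow, ← pow_mul, mul_two, mul_inv_cancel]
    have m : y * (x ^ j)⁻¹ ∈ S := mul_mem hy (inv_mem (pow_mem hx j))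
    have e2 : zpowers (y * (x ^ j)⁻¹) ⊔ zpowers x = S := le_antisymm (sup_le (zpowers_le.2 m) (zpowers_le.2 hx))
      (h.ge.trans (sup_le le_sup_right (zpowers_le.2 (by
        simpa using mul_mem (mem_sup_left (mem_zpowers (y * (x ^ j)⁻¹))) (mem_sup_right (pow_mem (mem_zpowers x) j))))))
    generalize y * (x ^ j)⁻¹ = z at *
    obtain ⟨l, hl⟩ := Cons.exists_npow (k z x e2)
    rw [pow_eq_pow_mod l e1] at hl
    rcases Nat.mod_two_eq_zero_or_one l with e | e <;> rw [e] at hl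
    · exact le_antisymm (Ohm1_le S) (e2.ge.trans (sup_le (zpowers_le.2 (mem_Ohm1_of_pow m e1))
        (zpowers_le.2 (mem_Ohm1_of_pow (p := 2) hx (by rw [← hl, pow_zero])))))
    · exact (nc x (by rwa [sup_eq_right.2 (zpowers_le.2 (by rw [← pow_one z, hl]; exact pow_mem (mem_zpowers x) 2))] at e2)).elim
  · exact (nc y (by rwa [sup_eq_right.2 (zpowers_le.2 (zpowers_le.2 (hn ▸ pow_mem (mem_zpowers y) 2)
      (Cons.mem_zpowers_odd hS.isPGroup hx ho)))] at h)).elim

/-- the top induction -/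
theorem kn_of (H : ∀ (X : Type u) [Group X] [Finite X] (S A : Subgroup X), Cx S A → TC X) (n : ℕ) : IH.{u} n := by
  induction n using Nat.strong_induction_on with | _ n ih =>
  intro X _ _ hn hA hs hna
  by_cases se : ∃ M : Subgroup X, Cfsg.IsStronglyEmbedded M
  · exact .inl ⟨hs, hna, se⟩
  have hns := nsolv_of_simple hna
  have hnt : ¬ Group.IsSolvable (⊤ : Subgroup X) := fun h => hns (isSolvable_of_equiv h topEquiv)
  obtain ⟨S, hS⟩ := exists_isSyl (p := 2) (⊤ : Subgroup X)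
  have hc := hA.isMulCommutative hS.isPGroup
  have mA : ∀ x, x ∈ Ohm1 S ↔ x ∈ S ∧ x * x = 1 := fun x => by
    rw [mem_Ohm1_iff (Ohm1_abelem' hS.isPGroup hc).2, pow_two]
  obtain ⟨k, hk⟩ := IsPGroup.iff_card.1 (hS.isPGroup.to_le (Ohm1_le S))
  by_cases h8 : 8 ≤ Nat.card (Ohm1 S)
  · exact .inr (.inr (H X S _ ⟨hA, hs, ih _ hn, hS, mA, h8, fun M h => se ⟨M, h⟩⟩))
  by_cases h2 : Nat.card (Ohm1 S) ≤ 2
  · exfalso
    have hp : commutator X = ⊤ := (commutator_normal ⊤ ⊤).eq_bot_or_eq_top.resolve_left fun e => by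
      obtain ⟨a, b, h⟩ := hna
      exact h (commutatorElement_eq_one_iff_mul_comm.1 (mem_bot.1 (e.le (commutator_mem_commutator (mem_top a) (mem_top b)))))
    obtain ⟨a, ha, a1⟩ := exists_ne_one (Ohm1_ne_bot (hS.ne_bot (by_contra fun e => hnt (solv_of_odd e))))
    obtain ⟨P, rfl⟩ := hS.exists_sylow_top
    obtain ⟨-, h1, -⟩ := Transfer.commutator_sup_centralizer_of_abelian (A := (P : Subgroup X)) le_normalizer le_rfl
      (Transfer.coprime_card_sylow_relIndex P le_normalizer)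
    rw [← Transfer.commutator_inf_abelian_sylow, hp, top_inf_eq, ← inf_assoc, inf_idem] at h1
    exact a1 (mem_bot.1 (h1.le ⟨Ohm1_le _ ha, mem_centralizer_iff.2 fun g hg => mul_inv_eq_iff_eq_mul.1
      (eq_of_card_le_two h2 (conj_mem_of_mem_normalizer (norm_le_norm_Ohm1 _ hg) ha) ha (by simpa using a1) a1)⟩))
  have h4 : Nat.card (Ohm1 S) = 4 := by
    rw [hk] at h8 h2 ⊢
    rcases k with _ | _ | _ | k <;> omega
  have e := eq_Ohm1_of_four hS hc hns h4
  rw [e] at h4 mA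
  obtain ⟨t, ht, t1⟩ := exists_ne_one (H := S) fun e => by simp [e] at h4
  obtain ⟨s, hs', ns⟩ := SetLike.not_le_iff_exists.1 fun l : S ≤ zpowers t => by
    have := card_le_of_le l
    rw [Nat.card_zpowers, orderOf_eq_prime (p := 2) (by rw [pow_two, ((mA t).1 ht).2]) t1] at this
    omega
  have k4 : K4 t s := ⟨((mA t).1 ht).2, ((mA s).1 hs').2, t1, fun e => ns (e ▸ one_mem _),
    fun e => ns (e ▸ mem_zpowers t), mul_comm_of_isComm hc ht hs', fun d => by
      have := hS.card_eq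
      rw [card_top, h4] at this
      have h3 := (Nat.prime_two.pow_dvd_iff_le_factorization (k := 3) Nat.card_pos.ne').1 d
      have := Nat.pow_le_pow_right two_pos h3
      omega⟩
  obtain ⟨w, -, h1, h2⟩ := k4.exists_cycle le_top hnt
  exact (V4.kn hA (k4.v4 hs h1 h2)).imp_right .inl

theorem Kn.known (hA : AG G) (h : Kn G) : (∃ t φ, Root.J1.Hyp (G := G) t φ) ∨
    ∃ (F : Type) (_ : Field F) (_ : Fintype F), 3 < Fintype.card F ∧
      (Fintype.card F % 8 = 0 ∨ Fintype.card F % 8 = 3 ∨ Fintype.card F % 8 = 5) ∧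
      Nonempty (G ≃* Matrix.ProjectiveSpecialLinearGroup (Fin 2) F) := by
  rcases h with h | ⟨t, s, w, K, h, hK⟩ | h
  · obtain ⟨F, _, _, h2, h4, hG, e⟩ := h.iso hA
    by_cases h8 : Fintype.card F = 4
    · have := h.1
      have := Fact.mk Nat.prime_five
      have c5 : Fintype.card (ZMod 5) = 5 := ZMod.card 5
      have := Matrix.ProjectiveSpecialLinearGroup.rank_two_simple (F := ZMod 5) (by simp)
      have c := HallPSL.card_PSL2 (F := ZMod 5) (show ((2 : ℕ) : ZMod 5) ≠ 0 by rw [Ne, ZMod.natCast_eq_zero_iff]; omega)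
      obtain ⟨e1⟩ := iso_A5 (G := G) (by rw [hG, h8]; rfl)
      obtain ⟨e2⟩ := iso_A5 (G := Matrix.ProjectiveSpecialLinearGroup (Fin 2) (ZMod 5)) (by rw [c5] at c; omega)
      exact .inr ⟨ZMod 5, inferInstance, inferInstance, by omega, by omega, ⟨e1.trans e2.symm⟩⟩
    · obtain ⟨n, -, hn⟩ := FiniteField.card F 2
      refine .inr ⟨F, _, _, by omega, .inl ?_, e⟩
      rw [hn] at h4 h8 ⊢
      generalize (n : ℕ) = k at *
      rcases k with _ | _ | _ | k <;> omega
  · obtain ⟨Q, D, p, q, j, hZ, -⟩ := VK.zs hA h hK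
    obtain ⟨F, _, _, hF, e⟩ := hZ.iso
    have := hZ.q11
    exact .inr ⟨F, _, _, by omega, .inr (hF ▸ hZ.q8), e⟩
  · exact .inl h.hyp

section
variable (H : ∀ (X : Type u) [Group X] [Finite X] (S A : Subgroup X), Cx S A → TC X) [IsSimpleGroup G]
  (hna : ¬ IsMulCommutative G) (hA : ∀ (p : ℕ), p.Prime → ∀ (P : Sylow p G), IsMulCommutative ↥P)
include H hna hA

theorem kn_of' : Kn G := kn_of H _ G (Nat.lt_succ_self _) (ag_of_sylow hA) inferInstance
  (by_contra fun h => hna ⟨⟨fun a b => by_contra fun e => h ⟨a, b, e⟩⟩⟩)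

theorem final_of : Cfsg.Spor.IsoJ1 G ∨
    ∃ (F : Type) (_ : Field F) (_ : Fintype F), 3 < Fintype.card F ∧
      (Fintype.card F % 8 = 0 ∨ Fintype.card F % 8 = 3 ∨ Fintype.card F % 8 = 5) ∧
      Nonempty (G ≃* Matrix.ProjectiveSpecialLinearGroup (Fin 2) F) :=
  ((kn_of' H hna hA).known (ag_of_sylow hA)).imp_left fun ⟨_, _, h⟩ => isoJ1_of_hyp h

theorem final_aut_of (r : ℕ) [hp : Fact r.Prime] (hr : r ∣ Nat.card G) (α : G ≃* G) (k : ℕ)
    (hα : orderOf α = r ^ k) (R : Sylow r G) (hR : ∀ x ∈ (R : Subgroup G), α x = x) :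
    ∃ g : G, ∀ x : G, α x = g * x * g⁻¹ :=
  inn_of_known hna (((kn_of' H hna hA).known (ag_of_sylow hA)).imp_right fun ⟨F, a, b, h⟩ => ⟨F, a, b, h.2.2⟩)
    r hr α k hα R (hA r hp.out R) hR
end

end Cfsg.Agent.Lib.AG
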