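/-
A-groups project (S2554), piece T: terminal components.
-/
import Cfsg.Agent.Lib.AG.Del
import Cfsg.Agent.S1911

set_option autoImplicit false

namespace Cfsg.Agent.Lib.AG.DS

open Subgroup Cfsg.Agent.Lib.Core
open scoped commutatorElement

universe u

variable {G : Type u} [Group G]

local notation "C[" a "]" => centralizer ({a} : Set _)
local notation "O[" a "]" => OppOf 2 (centralizer ({a} : Set _))
set_option hygiene false in
local notation "𝐍" X:max => normalizer ((X : Subgroup G) : Set G)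
set_option hygiene false in
local notation "𝐂" X:max => centralizer ((X : Subgroup G) : Set G)
local notation "cj(" g ", " X ")" => Subgroup.map (MulEquiv.toMonoidHom (MulAut.conj g)) X

/-- a terminal component -/
structure Tm (S A L : Subgroup G) : Prop where
  O0 : OppOf 2 L = ⊥
  four : 4 ≤ Nat.card ↥(A ⊓ AG.CM L)
  comp : ∀ b ∈ A ⊓ AG.CM L, b ≠ 1 → PComp 2 C[b] L
  max : ∀ a ∈ A, a ≠ 1 → ∀ K, PComp 2 C[a] K → Nat.card ↥(S ⊓ K) ≤ Nat.card ↥(S ⊓ L)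

theorem CM_cent {L : Subgroup G} (h : OppOf 2 L = ⊥) : AG.CM L = 𝐂 L :=
  le_antisymm (fun x hx => mem_centralizer_iff.2 fun k hk => by
    have := hx.2 k hk
    rw [h, mem_bot, mul_inv_eq_one, mul_inv_eq_iff_eq_mul] at this
    exact this.symm) (cent_le_CM L)

variable [Finite G]

theorem odd_le {L K Y : Subgroup G} (h1 : L ≤ K) (h2 : K ≤ L ⊔ OppOf 2 K) (hY : Y ≤ K)
    (ho : ¬ 2 ∣ Nat.card Y) (hn : L ≤ 𝐍 Y) : Y ≤ OppOf 2 K :=
  le_sup_left.trans (le_OppOf (sup_le hY (OppOf_le K)) (h2.trans (sup_le (le_normalizer_sup hn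
    (le_normalizer_OppOf (le_normalizer_of_le h1))) (le_normalizer_of_le le_sup_right)))
    (not_dvd_card_sup ho (OppOf_not_dvd K) (le_normalizer_OppOf (le_normalizer_of_le hY))))

theorem cent_of_V {S L Y : Subgroup G} (hL : PQS 2 L) (h0 : ¬ S ⊓ L ≤ AG.CM L) (hn : L ≤ 𝐍 Y)
    (hc : Y ≤ centralizer ((S ⊓ L : Subgroup G) : Set G)) : Y ≤ 𝐂 L := by
  rcases hL.le_CM_or_eq (M := L ⊓ 𝐂 Y) inf_le_left
    (le_normalizer_inf le_normalizer (le_normalizer_centralizer hn)) with e | e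
  · exact absurd ((le_inf inf_le_right (le_centralizer_iff.1 hc)).trans (e.trans (CM_eq L).ge)) h0
  · exact le_centralizer_iff.1 (e.ge.trans inf_le_right)

theorem odd_of_inv {H : Subgroup G} (h : ∀ x ∈ H, x * x = 1 → x = 1) : Odd (Nat.card H) := by
  by_contra h1
  obtain ⟨x, hx⟩ := exists_prime_orderOf_dvd_card' (G := H) 2
    (even_iff_two_dvd.1 (Nat.not_odd_iff_even.1 h1))
  have h2 := pow_orderOf_eq_one x
  rw [hx, pow_two] at h2
  rw [show x = 1 from Subtype.ext (h x x.2 (congrArg Subtype.val h2))] at hx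
  simp at hx

theorem even_of_inv {H : Subgroup G} {x : G} (hx : x ∈ H) (h2 : x * x = 1) (h1 : x ≠ 1) :
    Even (Nat.card H) := even_iff_two_dvd.2 (by
  rw [← orderOf_eq_prime (p := 2) (x := x) (by rw [pow_two, h2]) h1]
  exact H.orderOf_dvd_natCard hx)

variable {S A : Subgroup G} (h : Cx S A)
include h

theorem cj_B {g : G} (hg : g ∈ 𝐍 S) (L : Subgroup G) :
    cj(g, A ⊓ AG.CM L) = A ⊓ AG.CM cj(g, L) := by
  rw [map_conj_inf, map_conj_eq_iff.2 (h.norm_A hg), cj_CM]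

omit h in
theorem cj_V {g : G} (hg : g ∈ 𝐍 S) (L : Subgroup G) : cj(g, S ⊓ L) = S ⊓ cj(g, L) := by
  rw [map_conj_inf, map_conj_eq_iff.2 hg]

theorem exists_Tm (hb : Beta2 A) {a0 : G} (ha0 : a0 ∈ A) (a01 : a0 ≠ 1) {K0 : Subgroup G}
    (hK0 : PComp 2 C[a0] K0) : ∃ L, Tm S A L := by
  obtain ⟨⟨a, K⟩, ⟨ha, a1, hK⟩, hmax⟩ := Set.exists_max_image
    {p : G × Subgroup G | p.1 ∈ A ∧ p.1 ≠ 1 ∧ PComp 2 C[p.1] p.2} (fun p => Nat.card ↥(S ⊓ p.2))
    (Set.toFinite _) ⟨(a0, K0), ha0, a01, hK0⟩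
  dsimp only at ha a1 hK hmax
  obtain ⟨D, hD⟩ := cd h ha a1 hK
  obtain ⟨L, hL, -, -, hV, hC, -⟩ := down h ha a1 hK le_rfl
  have hB := B_eq h hC
  have h4 := hb a ha a1 K hK
  set B := A ⊓ AG.CM K with hBd
  have LB : L ≤ 𝐂 B := hL.le.trans inf_le_right
  have up : ∀ b ∈ B, b ≠ 1 → ∃ K', PComp 2 C[b] K' ∧ L ≤ K' ∧ K' ≤ L ⊔ OppOf 2 K' := by
    intro b hb' b1
    rw [inf_eq_right.2 (cent_le_C (mem_B h ha hK)), ← inf_eq_right.2 (cent_le_C hb')] at hL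
    obtain ⟨K', g1, g2, g3⟩ := PComp.up h.ag h.ih (cne h b1) (csyl h hb'.1)
      (inf_le_left.trans h.A_le) hL
    rcases g3 with ⟨-, g3, -⟩ | ⟨g3, -⟩
    · exact ⟨K', g1, g2, g3⟩
    · have := hmax (b, K') ⟨hb'.1, b1, g1⟩
      dsimp only at this
      rw [hV] at g3; omega
  have cV : ∀ Y : Subgroup G, L ≤ 𝐍 Y → Y ≤ centralizer ((S ⊓ K : Subgroup G) : Set G) →
      Y ≤ 𝐂 L := fun Y h1 h2 => cent_of_V (S := S) hL.pqs (fun e => by
    obtain ⟨v, hv, v1⟩ := ne_bot_of_le (n := 2) hD.four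
    have : v ∈ S ⊓ AG.CM L := ⟨hv.1, e (hV ▸ hv)⟩
    rw [hC] at this
    exact v1 (hD.disj v hv this.2)) h1 (hV ▸ h2)
  have cA : 𝐂 A ≤ centralizer ((S ⊓ K : Subgroup G) : Set G) :=
    centralizer_le_centralizer (V_le h hD)
  have dl : ∀ E, E ≤ B → 4 ≤ Nat.card E → ∀ Y : Subgroup G, ¬ 2 ∣ Nat.card Y → L ≤ 𝐍 Y →
      (∀ e ∈ E, e ≠ 1 → ∀ K', PComp 2 C[e] K' → L ≤ K' → Y ≤ K') → Y ≤ 𝐂 L := by
    intro E hE h4 Y h1 h2 h3
    refine cV Y h2 (le_trans (le_Del fun e he e1 => ?_)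
      ((h.del hb (hE.trans inf_le_left) h4).trans cA))
    obtain ⟨K', g1, g2, g3⟩ := up e (hE he) e1
    exact (odd_le g2 g3 (h3 e he e1 K' g1 g2) h1 h2).trans g1.OppOf_le
  have O0 : OppOf 2 L = ⊥ := by
    rw [eq_bot_iff, ← h.ag.inf_centralizer_of_perfect hL.pqs.perfect]
    exact le_inf (OppOf_le L) (dl B le_rfl h4 _ (OppOf_not_dvd L)
      (le_normalizer_OppOf le_normalizer) fun e _ _ K' _ g => (OppOf_le L).trans g)
  have s1 : ∀ b ∈ B, b ≠ 1 → ∀ b' ∈ B, b' ≠ 1 → b ≠ b' → O[b] ⊓ C[b'] ≤ 𝐂 L := by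
    intro b hb1 b1 b' hb2 b2 bb
    have ho := not_dvd_card_of_le (OppOf_not_dvd (p := 2) C[b]) (inf_le_left (b := C[b']))
    have hn : L ≤ normalizer ((O[b] ⊓ C[b'] : Subgroup G) : Set G) := le_normalizer_inf
      (le_normalizer_OppOf (le_normalizer_of_le (LB.trans (cent_le_C hb1))))
      (le_normalizer_of_le (LB.trans (cent_le_C hb2)))
    have hE : Vf b b' ≤ B := Vf_le.2 ⟨hb1, hb2⟩
    rw [← commutator_eq_bot_iff_le_centralizer]
    refine commutator_eq_bot_of_perfect hL.pqs.perfect (commutator_eq_bot_iff_le_centralizer.2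
      (dl _ hE (four_le h (hE.trans inf_le_left) t_mem_Vf s_mem_Vf b1 b2 bb) _
      (not_dvd_card_of_le ho (commutator_le_of_le_normalizer_left hn))
      (normalizer_commutator_ge_right _ L) fun e he e1 K' g1 g2 => ?_))
    refine (commutator_mono le_rfl g2).trans (commutator_le_of_le_normalizer_right
      (odd_norm h (hE he).1 e1 g1 (le_trans ?_ (cent_le_C he)) ho (le_normalizer_inf
        (A_norm_O h hb1.1) (le_normalizer_of_le (A_le_C h hb2.1)))))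
    rw [centralizer_Vf]
    exact inf_le_inf_right _ (OppOf_le _)
  have s2 : ∀ b ∈ B, b ≠ 1 → O[b] ≤ centralizer ((S ⊓ K : Subgroup G) : Set G) := by
    intro b hb1 b1
    refine gen2 h le_rfl (OppOf_not_dvd _) (A_norm_O h hb1.1) fun F hF c1 hF' => ?_
    rcases cocyc_cases (elem h le_rfl) hF' (zpowers_le.2 hb1.1) with bF | e
    swap
    · refine le_trans ?_ ((centralizer_le_centralizer e).trans cA)
      exact le_centralizer_sup inf_le_right
        (by rw [centralizer_zpowers]; exact inf_le_left.trans (OppOf_le _))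
    by_cases e : ∃ b' ∈ F ⊓ B, b' ≠ 1 ∧ b ≠ b'
    · obtain ⟨b', g1, g2, g3⟩ := e
      exact ((inf_le_inf_left _ (cent_le_C g1.1)).trans (s1 b hb1 b1 b' g1.2 g2 g3)).trans
        (centralizer_le_centralizer (hV.ge.trans inf_le_right))
    push Not at e
    have c2 : Nat.card B = 4 := by
      have g1 := card_sup_mul_card_inf (H := F) (N := B)
        (hF.trans (le_normalizer_of_le_centralizer (A_cent h inf_le_left)))
      have g2 := card_le_of_le (sup_le hF inf_le_left : F ⊔ B ≤ A)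
      have g3 : Nat.card ↥(F ⊓ B) ≤ 2 := by
        have g4 : ((F ⊓ B : Subgroup G) : Set G) ⊆ {1, b} := fun y hy => by
          by_cases y1 : y = 1
          · exact Or.inl y1
          · exact Or.inr (e y hy y1).symm
        have g5 := Set.ncard_le_ncard g4 (Set.toFinite _)
        have := Set.ncard_insert_le (1 : G) {b}
        rw [Set.ncard_singleton] at this
        rw [← SetLike.coe_sort_coe, Nat.card_coe_set_eq]
        omega
      have g4 : Nat.card F * Nat.card B ≤ Nat.card F * 4 := by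
        rw [← g1]
        exact (Nat.mul_le_mul (g2.trans c1) g3).trans (by omega)
      exact le_antisymm (Nat.le_of_mul_le_mul_left g4 Nat.card_pos) h4
    have ho := not_dvd_card_of_le (OppOf_not_dvd (p := 2) C[b]) (inf_le_left (b := 𝐂 F))
    have hn : A ≤ normalizer ((O[b] ⊓ 𝐂 F : Subgroup G) : Set G) :=
      le_normalizer_inf (A_norm_O h hb1.1) (le_normalizer_of_le (A_cent h hF))
    have h0 := commutator_le_of_le_normalizer_left hn
    by_cases e' : ⁅O[b] ⊓ 𝐂 F, A⁆ ≤ Del F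
    · rw [← (cact h le_rfl ho hn).inf_centralizer_sup_commutator]
      have := h.rk
      exact (sup_le inf_le_right (e'.trans (h.del hb hF (by omega)))).trans cA
    obtain ⟨c, hc, c1, g1⟩ : ∃ c ∈ F, c ≠ 1 ∧ ¬ ⁅O[b] ⊓ 𝐂 F, A⁆ ≤ O[c] := by
      by_contra! h'
      exact e' (le_Del h')
    have g0 := h0.trans (inf_le_inf_left _ (cent_le_C hc))
    obtain ⟨J, hJ, g2⟩ : ∃ J, PComp 2 C[c] J ∧ ¬ ⁅O[b] ⊓ 𝐂 F, A⁆ ≤ AG.CM J := by
      by_contra! h'
      exact g1 (le_O h hb1.1 (hF hc) c1 g0 h')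
    obtain ⟨g3, g4⟩ := (act h hb1.1 (hF hc) c1 hJ).resolve_left fun e => g2 (g0.trans e)
    have g5 := (cocyc_cases (elem h le_rfl) hF' (inf_le_left : A ⊓ AG.CM J ≤ A)).resolve_right
      fun e => g2 (comm_le_CM h (hF hc) c1 hJ (inf_le_right.trans (cent_le_C hc)) ho hn hF
        inf_le_right e)
    obtain ⟨D', hD'⟩ := cd h (hF hc) c1 hJ
    rw [h.lin3 hD hD' c2 (Ty.card_TB h.ag h.ih (cne h c1) (csyl h (hF hc)) hJ g3)
      ((eq_bot_iff_forall _).2 fun x hx => by_contra fun x1 =>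
        g4 (e x ⟨g5 hx.2, hx.1⟩ x1 ▸ hx.2.2))] at g5
    exact inf_le_right.trans (centralizer_le_centralizer g5)
  refine ⟨L, O0, hB ▸ h4, fun b hb1 b1 => ?_, fun a' g1 g2 K' g3 => hV ▸ hmax (a', K') ⟨g1, g2, g3⟩⟩
  rw [hB] at hb1
  obtain ⟨K', g1, g2, g3⟩ := up b hb1 b1
  refine ⟨hL.pqs, g1.subn.trans (Subn.of_normal g2 (g3.trans (sup_le le_normalizer ?_)))⟩
  exact le_normalizer_of_le_centralizer (g1.OppOf_le.trans (cV _ (le_normalizer_OppOf
    (le_normalizer_of_le (LB.trans (cent_le_C hb1)))) (s2 b hb1 b1)))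

namespace Tm
variable {L : Subgroup G} (hL : Tm S A L)
include hL

theorem conj {g : G} (hg : g ∈ 𝐍 S) : Tm S A cj(g, L) where
  O0 := by rw [← OppOf_conj, hL.O0, Subgroup.map_bot]
  four := by rw [← cj_B h hg, card_map_conj]; exact hL.four
  comp := by
    rw [← cj_B h hg]
    rintro _ ⟨b, hb, rfl⟩ b1
    have := (hL.comp b hb fun e => b1 (by simp [e])).conj' g
    rwa [map_conj_centralizer_singleton] at this
  max := by rw [← cj_V hg, card_map_conj]; exact hL.max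

theorem cd : ∃ D, CD S L D := by
  obtain ⟨b, hb, b1⟩ := ne_bot_of_le (n := 2) hL.four
  exact DS.cd h hb.1 b1 (hL.comp b hb b1)

theorem O_norm {a : G} (ha : a ∈ A) : O[a] ≤ 𝐍 L :=
  gen1 h inf_le_left hL.four (OppOf_not_dvd _) (inf_le_left.trans (A_norm_O h ha)) fun b hb b1 =>
    odd_norm h hb.1 b1 (hL.comp b hb b1) inf_le_right
      (not_dvd_card_of_le (OppOf_not_dvd _) inf_le_left)
      (le_normalizer_inf (A_norm_O h ha) (le_normalizer_of_le (A_le_C h hb.1)))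

theorem comp_norm {a b : G} (ha : a ∈ A) (a1 : a ≠ 1) {K : Subgroup G} (hK : PComp 2 C[a] K)
    (hb : b ∈ A ⊓ AG.CM L) (b1 : b ≠ 1) (hb' : b ∈ AG.CM K) : K ≤ 𝐍 L := by
  obtain ⟨K0, h1, -, h3, -⟩ := down h ha a1 hK (zpowers_le.2 ⟨hb.1, hb'⟩)
  rw [centralizer_zpowers, inf_comm, ← centralizer_zpowers a] at h1
  obtain ⟨K', g1, g2, -⟩ := PComp.up h.ag h.ih (cne h b1) (csyl h hb.1)
    (zpowers_le.2 (h.A_le ha)) h1
  exact h3.trans (sup_le (g2.trans (g1.le_normalizer_of_pcomp (hL.comp b hb b1)))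
    (hK.OppOf_le.trans (hL.O_norm h ha)))

theorem meet {g : G} (hg : g ∈ 𝐍 S) : cj(g, L) = L ∨ cj(g, L) ≤ AG.CM L := by
  have key : ∀ g ∈ 𝐍 S, (A ⊓ AG.CM L) ⊓ cj(g, A ⊓ AG.CM L) ≠ ⊥ →
      cj(g, L) = L ∨ cj(g, L) ≤ AG.CM L := fun g hg h0 => by
    obtain ⟨⟨b, hb1, hb2⟩, b1⟩ := ne_bot_iff_exists_ne_one.1 h0
    have b1 : b ≠ 1 := fun e => b1 (Subtype.ext e)
    rw [cj_B h hg] at hb2
    exact or_iff_not_imp_left.2
      (le_CM_of_ne ((hL.conj h hg).comp b hb2 b1) (hL.comp b hb1 b1))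
  obtain ⟨D, hD⟩ := hL.cd h
  refine key g hg (h.lin2 hD hL.four (fun g hg h0 => (key g hg h0).imp (fun e => ?_) fun e => ?_)
    g hg)
  · rw [cj_B h hg, e]
  · exact le_inf (map_conj_le_of_le (V_le h hD) (h.norm_A hg)) ((map_mono inf_le_right).trans e)

theorem norm_ne : normalizer (L : Set G) ≠ ⊤ := by
  obtain ⟨b, hb, b1⟩ := ne_bot_of_le (n := 2) hL.four
  have h1 := hL.comp b hb b1
  exact DS.norm_ne h h1.pqs.ne_bot fun e => cne h b1 (top_le_iff.1 (e.ge.trans h1.le))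

theorem one (hN : normalizer (S : Set G) ≤ normalizer (L : Set G)) : False := by
  obtain ⟨b0, hb0, b01⟩ := ne_bot_of_le (n := 2) hL.four
  have hQ := CM_cent hL.O0
  have hS : IsSyl 2 S (𝐍 L) := h.syl.mono (le_normalizer.trans hN) le_top
  have QM : 𝐂 L ≤ 𝐍 L := le_normalizer_of_le_centralizer le_rfl
  have MQ : 𝐍 L ≤ normalizer ((𝐂 L : Subgroup G) : Set G) := normalizer_le_normalizer_centralizer _
  have toA : ∀ x ∈ 𝐍 L, x * x = 1 → ∃ m ∈ 𝐍 L, m * x * m⁻¹ ∈ A := fun x hx x2 => by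
    obtain ⟨m, hm, e⟩ := hS.exists_conj_le (isPGroup_zpowers (k := 1) (x := x)
      (by rw [pow_one, pow_two, x2])) (zpowers_le.2 hx)
    exact ⟨m, hm, (h.memA _).2 ⟨e (conj_mem_map_conj.2 (mem_zpowers x)),
      by rw [conj_mul, x2]; simp⟩⟩
  have key : ∀ g x : G, x * x = 1 → x ≠ 1 → x ∈ 𝐍 L → g⁻¹ * x * g ∈ 𝐂 L → g ∈ 𝐍 L := by
    intro g x x2 x1 hx hy
    obtain ⟨m, hm, h1⟩ := toA x hx x2
    obtain ⟨m', hm', h2⟩ := toA _ (QM hy) (by
      rw [show g⁻¹ * x * g * (g⁻¹ * x * g) = g⁻¹ * (x * x) * g by group, x2]; simp)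
    have h3 := conj_mem_of_mem_normalizer (MQ hm') hy
    set b := m' * (g⁻¹ * x * g) * m'⁻¹ with hb
    have e : m * g * m'⁻¹ * b * (m * g * m'⁻¹)⁻¹ = m * x * m⁻¹ := by rw [hb]; group
    obtain ⟨n, hn, e'⟩ := h.fuse (h.A_le h2) (h.A_le h1) (isConj_iff.2 ⟨_, e⟩)
    have h4 : m * x * m⁻¹ ∈ A ⊓ AG.CM L :=
      ⟨h1, by rw [hQ, ← e']; exact conj_mem_of_mem_normalizer (MQ (hN hn)) h3⟩
    have x1' : m * x * m⁻¹ ≠ 1 := by simpa using x1
    have h5 : C[m * x * m⁻¹] ≤ 𝐍 L := fact' h h1 x1' (hL.O_norm h h1)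
      (fun K hK => hK.le_normalizer_of_pcomp (hL.comp _ h4 x1')) hN
    have h6 := (csyl h h2).conj (m * g * m'⁻¹)
    rw [map_conj_centralizer_singleton, e] at h6
    obtain ⟨c, hc, e''⟩ := h6.exists_conj (csyl h h1)
    rw [map_conj_map_conj, map_conj_eq_iff] at e''
    have h7 := mul_mem (mul_mem (inv_mem hm) (mul_mem (inv_mem (h5 hc)) (hN e''))) hm'
    simpa [mul_assoc] using h7
  have bQ : b0 ∈ 𝐂 L := hQ ▸ hb0.2
  have NQ : normalizer ((𝐂 L : Subgroup G) : Set G) = 𝐍 L := le_antisymm (fun g hg =>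
    key g b0 (h.sq hb0.1) b01 (QM bQ) (conj_mem_of_mem_normalizer' hg bQ)) MQ
  have := h.simple
  have nb : (𝐂 L : Subgroup G) ≠ ⊥ := fun e => b01 (mem_bot.1 (e ▸ bQ))
  rcases S1911.result (𝐂 L) ⟨even_of_inv bQ (h.sq hb0.1) b01, fun g hg => odd_of_inv
    fun x hx x2 => by_contra fun x1 => hg (MQ (key g x x2 x1 (QM hx.1) (mem_map_conj.1 hx.2)))⟩
    (fun g hg => odd_of_inv fun x hx x2 => by_contra fun x1 =>
      hg (MQ (key g x x2 x1 (NQ ▸ hx.2) (mem_map_conj.1 hx.1)))) with e | e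
  · exact hL.norm_ne h (NQ ▸ normalizer_eq_top _)
  · have h1 : normalClosure ((𝐂 L : Subgroup G) : Set G) = ⊤ :=
      (normalClosure_normal.eq_bot_or_eq_top).resolve_left fun e =>
        nb (eq_bot_iff.2 (e ▸ le_normalClosure))
    rw [NQ, h1] at e
    refine h.nse (𝐍 L) (Invol.isStronglyEmbedded_iff.2 ⟨hL.norm_ne h,
      even_of_inv (QM bQ) (h.sq hb0.1) b01, fun g t h2 h3 h4 => ?_⟩)
    exact (Invol.isStronglyEmbedded_iff.1 e).2.2 ⟨g, mem_top g⟩ ⟨t, mem_top t⟩ h2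
      (by rw [← orderOf_coe]; exact h3) h4

theorem two {g : G} (hg : g ∈ 𝐍 S) (hn : g ∉ 𝐍 L) : False := by
  obtain ⟨b, hb, b1⟩ := ne_bot_of_le (n := 2) hL.four
  obtain ⟨D, hD⟩ := hL.cd h
  obtain ⟨v, hv, v1⟩ := ne_bot_of_le (n := 2) hD.four
  have h1 : centralizer (S : Set G) ≤ normalizer (L : Set G) := fun c hc => by
    have g1 := hL.comp b hb b1
    have g2 := g1.conj (le_normalizer (cent_le_C (h.A_le hb.1) hc))
    by_contra g3
    refine v1 (hD.disj v hv (le_CM_of_ne g2 g1 (fun e => g3 (map_conj_eq_iff.1 e)) ?_))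
    rw [mem_map_conj, mul_assoc, mem_centralizer_iff.1 hc v hv.1, inv_mul_cancel_left]
    exact hv.2
  have h2 : g * g ∉ 𝐍 L := fun e => by
    obtain ⟨m, ⟨k, rfl⟩, hm⟩ := h.odd_pow hg
    have := h1 hm
    rw [pow_succ, pow_mul, pow_two] at this
    exact hn (((𝐍 L).mul_mem_cancel_left (pow_mem e k)).1 this)
  have h3 := (hL.meet h hg).resolve_left fun e => hn (map_conj_eq_iff.1 e)
  have h4 := (hL.meet h (mul_mem hg hg)).resolve_left fun e => h2 (map_conj_eq_iff.1 e)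
  have h5 : cj(g * g, L) ≤ AG.CM cj(g, L) := by
    rw [← map_conj_map_conj, ← cj_CM]; exact map_mono h3
  obtain ⟨D', hD'⟩ := (hL.conj h hg).cd h
  obtain ⟨D'', hD''⟩ := (hL.conj h (mul_mem hg hg)).cd h
  have h6 : Nat.card ↥(S ⊓ L) < Nat.card ↥(A ⊓ AG.CM L) := by
    have g1 := card_sup_mul_card_inf (H := S ⊓ cj(g, L)) (N := S ⊓ cj(g * g, L))
      (inf_le_left.trans (le_normalizer_of_le_centralizer (h.S_le_cent inf_le_left)))
    rw [(eq_bot_iff_forall (S ⊓ cj(g, L) ⊓ (S ⊓ cj(g * g, L)))).2 fun x hx =>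
      hD'.disj x hx.1 (h5 hx.2.2), card_bot, mul_one] at g1
    have g2 := card_le_of_le (sup_le (le_inf (V_le h hD') (inf_le_right.trans h3))
      (le_inf (V_le h hD'') (inf_le_right.trans h4)))
    rw [g1, ← cj_V hg, ← cj_V (mul_mem hg hg), card_map_conj, card_map_conj] at g2
    have := hD.four
    nlinarith
  set Y := ⨆ n : 𝐍 S, cj((n : G), L)
  have hY : ∀ {X : Subgroup G}, (∀ n ∈ 𝐍 S, X ≤ 𝐍 (cj(n, L) : Subgroup G)) → X ≤ 𝐍 Y :=
    fun hX => le_norm_iSup fun n => hX n.1 n.2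
  have hN : 𝐍 S ≤ 𝐍 Y := fun n hn => norm_of_cj (by
    rw [Subgroup.map_iSup]
    exact iSup_le fun m => le_iSup_of_le (⟨n * m, mul_mem hn m.2⟩ : 𝐍 S)
      (map_conj_map_conj L n m).le)
  refine h.se (DS.norm_ne h (fun e => (hL.comp b hb b1).pqs.ne_bot (eq_bot_iff.2 ?_)) fun e => ?_)
    hN fun a ha a1 => fact' h ha a1 (hY fun n hn => (hL.conj h hn).O_norm h ha)
      (fun K hK => hY fun n hn => ?_) hN
  · rw [← e]
    exact le_iSup_of_le (1 : 𝐍 S) (map_conj_one L).ge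
  · refine hL.norm_ne h (top_le_iff.1 (e.ge.trans (iSup_le fun n => ?_)))
    rcases hL.meet h n.2 with e' | e'
    · rw [e']; exact le_normalizer
    · exact fun x hx => (e' hx).1
  · obtain ⟨D1, hD1⟩ := DS.cd h ha a1 hK
    have g1 : (A ⊓ AG.CM cj(n, L)) ⊓ AG.CM K ≠ ⊥ := fun e => by
      have g2 := card_le h hD1 inf_le_left e
      rw [← cj_B h hn, card_map_conj] at g2
      have := hL.max a ha a1 K hK
      omega
    obtain ⟨⟨c, hc1, hc2⟩, c1⟩ := ne_bot_iff_exists_ne_one.1 g1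
    exact (hL.conj h hn).comp_norm h ha a1 hK hc1 (fun e => c1 (Subtype.ext e)) hc2

end Tm

end DS

open Subgroup Cfsg.Agent.Lib.Core DS in
theorem Cx.not_beta2 {G : Type*} [Group G] [Finite G] {S A : Subgroup G} (h : Cx S A) :
    ¬ Beta2 A := fun hb => by
  by_cases h0 : ∀ a ∈ A, a ≠ 1 → ∀ K, ¬ PComp 2 (centralizer {a}) K
  · obtain ⟨a, ha, a1⟩ := h.exists_A
    refine h.se (norm_ne h (fun e => a1 (mem_bot.1 (e ▸ h.A_le ha))) fun e =>
      cne h a1 (top_le_iff.1 (e.ge.trans (S_le_C h ha)))) le_rfl fun b hb' b1 => ?_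
    refine fact' h hb' b1 ?_ (fun K hK => absurd hK (h0 b hb' b1 K)) le_rfl
    rw [O_bot h hb (fun a ha a1 K hK => absurd hK (h0 a ha a1 K)) hb' b1]
    exact bot_le
  push Not at h0
  obtain ⟨a, ha, a1, K, hK⟩ := h0
  obtain ⟨L, hL⟩ := exists_Tm h hb ha a1 hK
  exact hL.one h fun g hg => by_contra fun hn => hL.two h hg hn

end Cfsg.Agent.Lib.AG
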