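/-
A-groups project (S2554): the minimal counterexample is of Janko type.
-/
import Cfsg.Agent.Lib.AG.Fin0
import Cfsg.Agent.Lib.AG.P2
import Cfsg.Agent.Lib.AG.PE3
import Cfsg.Agent.Lib.AG.Term

set_option autoImplicit false

namespace Cfsg.Agent.Lib.AG

theorem Cx.tc (X : Type*) [Group X] [Finite X] (S A : Subgroup X) (h : Cx S A) : TC X :=
  let ⟨_, _, e⟩ := h.e8 h.not_beta2
  e.tc (e.type.resolve_right e.not_TB)

end Cfsg.Agent.Lib.AG
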