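/-
A-groups project (S2554), part II: a Sylow subgroup with an odd order "reflection".
-/
import Cfsg.Agent.Lib.AG.Basic
import Cfsg.Agent.Lib.Transfer.Residual
import Cfsg.Agent.FT.BG03a

set_option autoImplicit false
set_option linter.unusedSectionVars false

namespace Cfsg.Agent.Lib.AG

open Subgroup Cfsg.Agent.Lib.Core
open scoped commutatorElement

universe u

variable {G : Type u} [Group G] [Finite G]

theorem comm_of_cyc {Y : Subgroup G} (hY : IsCyclic Y) {a b : G} (ha : a ∈ normalizer (Y : Set G))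
    (hb : b ∈ normalizer (Y : Set G)) : a * b * a⁻¹ * b⁻¹ ∈ centralizer (Y : Set G) := by
  obtain ⟨⟨y, hy⟩, hg⟩ := hY.exists_generator
  have gen : ∀ x ∈ Y, ∃ i : ℤ, y ^ i = x := fun x hx => by
    obtain ⟨i, hi⟩ := hg ⟨x, hx⟩
    exact ⟨i, congrArg Subtype.val hi⟩
  obtain ⟨i, hi⟩ := gen _ (conj_mem_of_mem_normalizer' ha hy)
  obtain ⟨j, hj⟩ := gen _ (conj_mem_of_mem_normalizer' hb hy)
  have e1 : ∀ m : ℤ, a⁻¹ * y ^ m * a = y ^ (i * m) := fun m => by
    rw [zpow_mul, hi]; simpa using (conj_zpow (i := m) (a := a⁻¹) (b := y)).symm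
  have e2 : ∀ m : ℤ, b⁻¹ * y ^ m * b = y ^ (j * m) := fun m => by
    rw [zpow_mul, hj]; simpa using (conj_zpow (i := m) (a := b⁻¹) (b := y)).symm
  intro x hx
  obtain ⟨m, rfl⟩ := gen x hx
  have : b⁻¹ * (a⁻¹ * y ^ m * a) * b = a⁻¹ * (b⁻¹ * y ^ m * b) * a := by
    rw [e1, e2, e2, e1]; congr 1; ring
  calc _ = a * b * (b⁻¹ * (a⁻¹ * y ^ m * a) * b) * a⁻¹ * b⁻¹ := by group
    _ = a * b * (a⁻¹ * (b⁻¹ * y ^ m * b) * a) * a⁻¹ * b⁻¹ := by rw [this]
    _ = _ := by group

theorem syl_cent_N (hA : AG G) [IsSimpleGroup G] (hna : ∃ a b : G, a * b ≠ b * a) {r : ℕ}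
    [Fact r.Prime] {P : Subgroup G} (hP : IsSyl r P ⊤) :
    P ⊓ centralizer (normalizer (P : Set G) : Set G) = ⊥ := by
  have pf : commutator G = ⊤ := (commutator_normal ⊤ ⊤).eq_bot_or_eq_top.resolve_left fun e => by
    obtain ⟨a, b, h⟩ := hna
    exact h (commutatorElement_eq_one_iff_mul_comm.1
      (mem_bot.1 (e.le (commutator_mem_commutator (mem_top a) (mem_top b)))))
  obtain ⟨S, rfl⟩ := hP.exists_sylow_top
  have := hA.isMulCommutative S.2
  obtain ⟨-, h1, -⟩ := Transfer.commutator_sup_centralizer_of_abelian (A := (S : Subgroup G))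
    le_normalizer le_rfl (Transfer.coprime_card_sylow_relIndex S le_normalizer)
  rwa [← Transfer.commutator_inf_abelian_sylow, pf, top_inf_eq, ← inf_assoc, inf_idem] at h1

theorem gam_ne (hA : AG G) [IsSimpleGroup G] (hna : ∃ a b : G, a * b ≠ b * a) {r : ℕ}
    [Fact r.Prime] {P : Subgroup G} (hP : IsSyl r P ⊤) (P1 : P ≠ ⊥) :
    ¬ normalizer (P : Set G) ≤ centralizer (P : Set G) := fun h =>
  P1 (eq_bot_iff.mpr ((le_inf le_rfl (le_centralizer_iff.mp h)).trans (syl_cent_N hA hna hP).le))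

theorem gam_core (hA : AG G) {r s : ℕ} [hr : Fact r.Prime] [hs : Fact s.Prime] (s2 : s ≠ 2)
    {P R : Subgroup G} (hP : IsSyl r P ⊤) (hn : ⊤ ≤ normalizer (P : Set G))
    (hc : centralizer (P : Set G) ≤ P) (hR : R ≤ P) (hi : Nat.card P = r * Nat.card R)
    (hx : normalizer (R : Set G) ≤ centralizer (R : Set G)) {ρ : G}
    (h2 : ρ ∈ centralizer (R : Set G)) (h3 : ρ ∉ P) (h4 : ρ ^ s = 1) :
    ⊤ ≤ normalizer (R : Set G) := by
  have ρ1 : ρ ≠ 1 := fun e => h3 (e ▸ one_mem _)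
  have oρ : Nat.card (zpowers ρ) = s := by rw [Nat.card_zpowers, orderOf_eq_prime h4 ρ1]
  have pρ : IsPGroup s (zpowers ρ) := isPGroup_zpowers (k := 1) (by simpa using h4)
  have leP : ∀ {X : Subgroup G}, IsPGroup r X → X ≤ P := fun hX =>
    le_of_isSyl_of_le_normalizer hP hn hX le_top
  have sr : s ≠ r := fun e => h3 (leP (e ▸ pρ) (mem_zpowers ρ))
  have PC := hA.le_centralizer hP.isPGroup le_rfl le_rfl
  have R0 := Nat.card_pos (α := R)
  have cR : P ⊓ centralizer {ρ} = R := by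
    have l1 : R ≤ P ⊓ centralizer {ρ} := le_inf hR fun x hx =>
      mem_centralizer_singleton_iff.mpr (h2 x hx)
    have e1 := card_mul_relIndex l1
    obtain ⟨j, hj⟩ := card_dvd_of_le (inf_le_left : P ⊓ centralizer {ρ} ≤ P)
    rw [hi, ← e1, mul_comm r, mul_assoc, Nat.mul_right_inj R0.ne'] at hj
    rcases (Nat.dvd_prime hr.out).mp ⟨j, hj⟩ with e | e
    · exact le_antisymm (relIndex_eq_one.mp e) l1
    · have := eq_of_le_of_card_ge (inf_le_left : P ⊓ centralizer {ρ} ≤ P) (by rw [← e1, e, hi, mul_comm])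
      exact absurd (hc fun x hx => mem_centralizer_singleton_iff.mp (this.ge hx).2) h3
  have cρ : centralizer {ρ} ≤ normalizer (R : Set G) := by
    rw [← cR]; exact le_normalizer_inf (le_top.trans hn) le_normalizer
  obtain ⟨T, hT, hρ⟩ := exists_isSyl_ge pρ le_top
  have Tρ : T ≤ centralizer {ρ} := hA.le_centralizer_singleton hT.isPGroup (hρ (mem_zpowers ρ))
  have cT : P ⊓ centralizer (T : Set G) = R := le_antisymm
    (cR ▸ inf_le_inf_left _ (centralizer_le (by simpa using hρ (mem_zpowers ρ))))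
    (le_inf hR (le_centralizer_iff.mp (Tρ.trans (cρ.trans hx))))
  have cop : ∀ {l : ℕ} [Fact l.Prime] {B : Subgroup G}, l ≠ r → IsPGroup l B → ¬ r ∣ Nat.card B :=
    fun {l} _ B lr hB a => by
      obtain ⟨i, hi⟩ := IsPGroup.iff_card.mp hB
      exact lr ((Nat.prime_dvd_prime_iff_eq hr.out Fact.out).mp (hr.out.dvd_of_dvd_pow (hi ▸ a))).symm
  have cTP := coprimeAct_of_isPGroup_right (cop sr hT.isPGroup) hP.isPGroup (le_top.trans hn)
  have YP : ⁅P, T⁆ ≤ P := commutator_le_of_le_normalizer_left (le_top.trans hn)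
  have e1 := cTP.inf_centralizer_sup_commutator
  have e2 := inf_centralizer_inf_commutator_eq_bot (hA.isMulCommutative hP.isPGroup) cTP.le_norm
    cTP.coprime
  rw [cT] at e1
  have cY : Nat.card (⁅P, T⁆ : Subgroup G) = r := by
    have := card_sup_mul_card_inf (H := R) (N := ⁅P, T⁆) (le_normalizer_of_le_centralizer
      (hA.le_centralizer hP.isPGroup hR YP))
    rw [e1, hi, show R ⊓ ⁅P, T⁆ = ⊥ from eq_bot_iff.mpr
      ((inf_le_inf_right _ (cT.ge.trans inf_le_right)).trans e2.le), card_bot, mul_one,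
      mul_comm r, Nat.mul_right_inj R0.ne'] at this
    exact this.symm
  have bu := burnside_sup hT (fun g hg τ hτ => by
    have nY : normalizer (T : Set G) ≤ normalizer ((⁅P, T⁆ : Subgroup G) : Set G) :=
      le_normalizer_commutator (le_top.trans hn) le_rfl
    have gR : normalizer (T : Set G) ≤ centralizer (R : Set G) := le_trans (by
      rw [← cT]; exact le_normalizer_inf (le_top.trans hn) (le_normalizer_centralizer le_rfl)) hx
    have a1 := comm_of_cyc (isCyclic_of_prime_card cY) (nY hg.2) (nY (le_normalizer hτ))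
    have a2 : g * τ * g⁻¹ * τ⁻¹ ∈ centralizer (R : Set G) := gR (mul_mem (mul_mem (mul_mem hg.2
      (le_normalizer hτ)) (inv_mem hg.2)) (inv_mem (le_normalizer hτ)))
    have a3 : g * τ * g⁻¹ * τ⁻¹ ∈ T ⊓ P := ⟨T.mul_mem (conj_mem_of_mem_normalizer hg.2 hτ) (T.inv_mem hτ),
      hc (by rw [← e1, centralizer_sup]; exact ⟨a2, a1⟩)⟩
    rw [cTP.inf_eq_bot, mem_bot, mul_inv_eq_one, mul_inv_eq_iff_eq_mul] at a3
    exact a3.symm)
  rw [← bu]
  refine sup_le (le_of_forall_isSyl fun l hl => ?_) (Tρ.trans cρ)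
  have := Fact.mk hl
  have cU := coprimeAct_of_isPGroup_left pρ (OppOf_not_dvd (p := s) ⊤)
    (le_normalizer_OppOf (le_top.trans le_normalizer))
  obtain ⟨B, hB, nB⟩ := cU.exists_isSyl l
  refine ⟨B, hB, ?_⟩
  by_cases lr : l = r
  · exact (leP (lr ▸ hB.isPGroup)).trans (le_normalizer_of_le_centralizer
      (hA.le_centralizer hP.isPGroup le_rfl hR))
  have cB := cU.mono_right hB.le nB
  have f1 := inf_centralizer_inf_commutator_eq_bot (hA.isMulCommutative hB.isPGroup) nB cB.coprime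
  have BB : ⁅B, zpowers ρ⁆ ≤ B := commutator_le_of_le_normalizer_left nB
  have n1 : zpowers ρ ≤ normalizer ((⁅B, zpowers ρ⁆ : Subgroup G) : Set G) :=
    le_normalizer_commutator nB le_normalizer
  by_cases B1 : ⁅B, zpowers ρ⁆ = ⊥
  · rw [commutator_eq_bot_iff_le_centralizer, centralizer_zpowers] at B1
    exact B1.trans cρ
  exfalso
  have pB := hB.isPGroup.to_le BB
  generalize ⁅B, zpowers ρ⁆ = B1' at *
  have fr : FT.Frob (B1' ⊔ zpowers ρ) B1' (zpowers ρ) := ⟨⟨n1, eq_bot_iff.mpr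
    ((le_inf inf_le_right (inf_le_left.trans BB)).trans cB.inf_eq_bot.le), rfl⟩, B1,
    zpowers_ne_bot.mpr ρ1, fun x hx x1 => by
      have : zpowers x = zpowers ρ := eq_of_le_of_card_ge (zpowers_le.mpr hx) (by
        rw [oρ, Nat.card_zpowers, orderOf_eq_prime (p := s) (by
          rw [← oρ]; exact congrArg Subtype.val (pow_card_eq_one' (x := (⟨x, hx⟩ : zpowers ρ)))) x1])
      rw [FT.C1, ← centralizer_zpowers, this, inf_comm, f1]⟩
  have nd : ¬ r ∣ Nat.card (B1' ⊔ zpowers ρ : Subgroup G) := fun a => by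
    rw [sup_comm] at a
    rcases hr.out.dvd_mul.mp (a.trans (card_sup_dvd n1)) with a | a
    exacts [cop sr pρ a, cop lr pB a]
  have w := FT.H6.wielandt G _ B1' (zpowers ρ) P fr (le_top.trans hn)
    (coprimeAct_of_isPGroup_right nd hP.isPGroup (le_top.trans hn)).coprime.symm
    (isSolvable_of_isPGroup hP.isPGroup)
  rw [centralizer_sup, centralizer_zpowers, cR, oρ, hi] at w
  set R0 := P ⊓ (centralizer (B1' : Set G) ⊓ centralizer {ρ}) with hR0
  obtain ⟨a, ha⟩ := card_dvd_of_le (show R0 ≤ R from cR ▸ inf_le_inf_left _ inf_le_right)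
  obtain ⟨b, hb⟩ := card_dvd_of_le (show R0 ≤ P ⊓ centralizer (B1' : Set G) from
    inf_le_inf_left _ inf_le_left)
  have p0 := Nat.card_pos (α := R0)
  have a0 : 0 < a := Nat.pos_of_ne_zero fun e => by rw [e] at ha; omega
  obtain ⟨j, rfl⟩ : ∃ j, s = j + 3 := ⟨s - 3, by have := hs.out.two_le; omega⟩
  have w2 : r = a ^ 2 * (a ^ j * b) := by
    rw [ha, hb] at w
    refine Nat.eq_of_mul_eq_mul_left (Nat.mul_pos (pow_pos p0 (j + 3 + 1)) a0) ?_
    rw [mul_pow] at w
    linear_combination w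
  have a1 : a = 1 := by
    rcases (Nat.dvd_prime hr.out).mp (show a ∣ r from w2 ▸ (dvd_pow_self a two_ne_zero).mul_right _)
      with e | e
    · exact e
    · have : r * r ∣ r * 1 := ⟨a ^ j * b, by rw [mul_one, ← sq, ← e]; exact e ▸ w2⟩
      exact absurd (Nat.dvd_one.mp (Nat.dvd_of_mul_dvd_mul_left hr.out.pos this)) hr.out.one_lt.ne'
  have e3 := eq_of_le_of_card_ge (inf_le_left : P ⊓ centralizer (B1' : Set G) ≤ P) (by
    rw [hi, hb, ha, w2, a1]; simp [mul_comm])
  exact B1 (eq_bot_of_isPGroup_of_not_dvd (hP.isPGroup.to_le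
    ((le_centralizer_iff.mp (e3.ge.trans inf_le_right)).trans hc)) (cop lr pB))

theorem gam_lin (hA : AG G) [IsSimpleGroup G] (hna : ∃ a b : G, a * b ≠ b * a) {r s : ℕ}
    [hr : Fact r.Prime] (hs : s.Prime) (s2 : s ≠ 2) {P R : Subgroup G} (hP : IsSyl r P ⊤)
    (hR : R ≤ P) (R1 : R ≠ ⊥) (hi : Nat.card P = r * Nat.card R)
    (hx : normalizer (R : Set G) ≤ centralizer (R : Set G)) {ρ : G}
    (h1 : ρ ∈ normalizer (P : Set G)) (h2 : ρ ∈ centralizer (R : Set G))
    (h3 : ρ ∉ centralizer (P : Set G)) (h4 : ρ ^ s ∈ centralizer (P : Set G)) : False := by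
  have := Fact.mk hs
  have PC := hA.le_centralizer hP.isPGroup le_rfl le_rfl
  have CN := centralizer_le_normalizer (P : Set G)
  have ZC : OppOf r (centralizer (P : Set G)) ≤ centralizer (P : Set G) := OppOf_le _
  obtain ⟨X, _, _, f, hf, hk, -⟩ := exists_bar (ZC.trans CN)
    (le_normalizer_OppOf (normalizer_le_normalizer_centralizer _))
  have k2 : ¬ r ∣ Nat.card (kerOf f) := hk ▸ OppOf_not_dvd _
  have PN : P ≤ normalizer (P : Set G) := le_normalizer
  have e1 : bar f (centralizer (P : Set G)) = bar f P := by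
    rw [← burnside_sup (hP.mono PC le_top) inf_le_left, ← hk, sup_comm, bar_sup_kerOf f PN]
  have cb : ∀ {Y : Subgroup G}, Y ≤ P → bar f (normalizer (P : Set G) ⊓ centralizer (Y : Set G)) =
      centralizer (bar f Y : Set X) := fun hY => by
    rw [bar_inf_centralizer f (hP.isPGroup.to_le hY) (hY.trans PN) k2 (kerOf_le f), bar_self f hf,
      top_inf_eq]
  have hP' : IsSyl r (bar f P) ⊤ := bar_self f hf ▸ (hP.mono PN le_top).bar f le_rfl
  have hx' : normalizer (bar f R : Set X) ≤ centralizer (bar f R : Set X) := by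
    have := bar_inf_normalizer f (hP.isPGroup.to_le hR) (hR.trans PN) k2 (kerOf_le f)
    rw [bar_self f hf, top_inf_eq] at this
    rw [← this, ← cb hR]
    exact bar_mono f (inf_le_inf_left _ hx)
  have m3 : f ⟨ρ, h1⟩ ∉ bar f P := fun a => h3 (by
    have := (bar_le_bar_iff f (zpowers_le.mpr h1) PN).mp (by
      rw [bar_zpowers f ⟨ρ, h1⟩]; exact zpowers_le.mpr a)
    exact sup_le PC (hk ▸ ZC) (this (mem_zpowers ρ)))
  have m4 : f ⟨ρ, h1⟩ ^ s ∈ bar f P := by
    rw [← e1, ← map_pow]; exact mem_bar_of_mem f h4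
  obtain ⟨k, hk'⟩ := pow_eq_one_of_isPGroup hP'.isPGroup m4
  have hn : ⊤ ≤ normalizer (bar f P : Set X) := bar_self f hf ▸ bar_le_normalizer f le_rfl
  have sr : s ≠ r := fun e => m3 (le_of_isSyl_of_le_normalizer hP' hn
    (isPGroup_zpowers (k := k + 1) (by rw [pow_succ', pow_mul, ← e]; exact e ▸ hk')) le_top
    (mem_zpowers _))
  have key := gam_core (hA.bar f hf) s2 hP' hn (by rw [← cb le_rfl, ← e1]; exact bar_mono f inf_le_right)
    (bar_mono f hR) (by rw [card_bar_of_isPGroup f hP.isPGroup PN k2,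
      card_bar_of_isPGroup f (hP.isPGroup.to_le hR) (hR.trans PN) k2, hi]) hx'
    (ρ := f ⟨ρ, h1⟩ ^ r ^ k) (pow_mem (by rw [← cb hR]; exact mem_bar_of_mem f ⟨h1, h2⟩) _)
    (fun a => m3 (by
      have co : (r ^ k).Coprime s := ((Nat.coprime_primes hr.out hs).mpr sr.symm).pow_left k
      have := mul_mem (zpow_mem a (Nat.gcdA (r ^ k) s)) (zpow_mem m4 (Nat.gcdB (r ^ k) s))
      rwa [← zpow_natCast, ← zpow_natCast, ← zpow_mul, ← zpow_mul, ← zpow_add, ← Nat.gcd_eq_gcd_ab,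
        co.gcd_eq_one, Nat.cast_one, zpow_one] at this))
    (by rw [← pow_mul, mul_comm, pow_mul, hk'])
  have fin : normalizer (P : Set G) ≤ centralizer (R : Set G) := by
    refine ((bar_le_bar_iff f le_rfl inf_le_left).mp (by
      rw [cb hR, bar_self f hf]; exact key.trans hx')).trans (sup_le inf_le_right ?_)
    exact hk ▸ ZC.trans (centralizer_le_centralizer hR)
  exact R1 (eq_bot_iff.mpr ((le_inf hR (le_centralizer_iff.mp fin)).trans (syl_cent_N hA hna hP).le))

end Cfsg.Agent.Lib.AG
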