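/- A-groups project (S2554): piece St. -/
import Cfsg.Agent.Lib.AG.St1
import Cfsg.Agent.Lib.AG.St2
import Cfsg.Agent.Lib.AG.St3
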