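/-
A-groups project (S2554): tools for the structure of proper subgroups.
-/
import Cfsg.Agent.Lib.AG.Defs1
import Cfsg.Agent.Lib.AG.K4
import Cfsg.Agent.Lib.Char.ZStar

set_option autoImplicit false

namespace Cfsg.Agent.Lib.AG.St1

open Subgroup Cfsg.Agent.Lib.Core
open scoped commutatorElement

universe u

section transport

variable {X Y : Type u} [Group X] [Group Y]

theorem simple_equiv (e : X ≃* Y) (h : IsSimpleGroup X) : IsSimpleGroup Y := by
  haveI := h
  haveI : Nontrivial Y := e.injective.nontrivial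
  exact IsSimpleGroup.isSimpleGroup_of_surjective e.toMonoidHom e.surjective

theorem TA_equiv [Finite X] (e : X ≃* Y) (h : TA X) : TA Y := by
  haveI : Finite Y := Finite.of_equiv X e.toEquiv
  obtain ⟨hs, ⟨a, b, hab⟩, H, hH⟩ := h
  refine ⟨simple_equiv e hs, ⟨e a, e b, fun h => hab (e.injective (by simpa using h))⟩,
    H.comap e.symm.toMonoidHom, ?_⟩
  rw [Invol.isStronglyEmbedded_iff] at hH ⊢
  refine ⟨fun h => hH.1 (eq_top_iff.mpr fun x _ => ?_), ?_, fun g t ht t2 hg => ?_⟩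
  · have : e x ∈ H.comap e.symm.toMonoidHom := h ▸ mem_top _
    simpa using this
  · rw [← map_equiv_eq_comap_symm', card_map_of_injective e.injective]; exact hH.2.1
  · exact hH.2.2 (e.symm g) (e.symm t) ht ((e.symm.orderOf_eq t).trans t2) (by simpa using hg)

theorem map_cent (e : X ≃* Y) (a : X) :
    (centralizer {a}).map e.toMonoidHom = centralizer {e a} := by
  rw [map_equiv_centralizer, Set.image_singleton]

theorem TB_equiv (e : X ≃* Y) (h : TB X) : TB Y := by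
  obtain ⟨t, s, w, K, h, hK⟩ := h
  have inj := e.injective
  refine ⟨e t, e s, e w, K.map e.toMonoidHom, ⟨⟨simple_equiv e h.simple,
    by rw [← map_mul, h.tt, map_one], by rw [← map_mul, h.ss, map_one], by simpa using h.t1,
    by simpa using h.s1, by simpa using h.ts, by rw [← map_mul, h.comm, map_mul],
    by rw [← Nat.card_congr e.toEquiv]; exact h.n8, by rw [← h.wt]; simp,
    by rw [← map_mul e t, ← h.ws]; simp⟩, by rw [card_map_of_injective inj]; exact h.Kodd,
    by simp, ?_, ?_, by simp, by simp, by simp, fun g hg => ?_, ?_, fun _ => ?_⟩,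
    fun e1 => hK ((map_eq_bot_iff_of_injective _ inj).mp e1)⟩
  · rintro _ ⟨x, hx, rfl⟩
    simpa using congrArg e (h.Kt x hx)
  · rintro _ ⟨x, hx, rfl⟩
    simpa using congrArg e (h.Ks x hx)
  · obtain ⟨g, rfl⟩ := e.surjective g
    obtain ⟨x, hx, b, hb, e1⟩ := h.cent g (inj (by simpa using hg))
    refine ⟨e x, ⟨x, hx, rfl⟩, 1, one_mem _, ?_⟩
    rw [mem_bot.mp hb] at e1
    rcases e1 with e1 | e1 | e1 | e1 <;> simp [e1]
  · rintro _ ⟨x, hx, rfl⟩ x1 g hg
    obtain ⟨g, rfl⟩ := e.surjective g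
    simpa using congrArg e (h.ti x hx (by simpa using x1) g (inj (by simpa using hg)))
  · rw [← map_cent, show zpowers (e w) = (zpowers w).map e.toMonoidHom from
      (MonoidHom.map_zpowers e.toMonoidHom w).symm, ← Subgroup.map_sup, h.gen hK]
    exact map_top_of_surjective _ e.surjective

theorem TC_equiv (e : X ≃* Y) (h : TC X) : TC Y := by
  obtain ⟨hs, h16, t, t1, tt, ⟨φ⟩⟩ := h
  refine ⟨simple_equiv e hs, by rw [← Nat.card_congr e.toEquiv]; exact h16, e t, by simpa using t1,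
    by rw [← map_mul, tt, map_one], ⟨?_⟩⟩
  rw [← map_cent]
  exact (equivMap _ _ e.injective).symm.trans φ

end transport

section bar

variable {G : Type u} [Group G] {Q : Type u} [Group Q] {X : Subgroup G}

/-- restriction of `f` to a subgroup -/
def res (f : X →* Q) {Y : Subgroup G} (h : Y ≤ X) : Y →* Q := f.comp (inclusion h)

theorem bar_res (f : X →* Q) {Y A : Subgroup G} (h : Y ≤ X) (hA : A ≤ Y) :
    bar (res f h) A = bar f A := by
  ext y
  rw [mem_bar, mem_bar]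
  exact ⟨fun ⟨x, hx, e⟩ => ⟨_, hx, e⟩, fun ⟨x, hx, e⟩ => ⟨⟨x, hA hx⟩, hx, e⟩⟩

theorem kerOf_res (f : X →* Q) {Y : Subgroup G} (h : Y ≤ X) : kerOf (res f h) = kerOf f ⊓ Y := by
  ext y
  constructor
  · intro hy
    have := kerOf_le _ hy
    exact ⟨(mem_kerOf f (x := ⟨y, h this⟩)).mpr ((mem_kerOf (res f h) (x := ⟨y, this⟩)).mp hy), this⟩
  · rintro ⟨h1, h2⟩
    exact (mem_kerOf (res f h) (x := ⟨y, h2⟩)).mpr ((mem_kerOf f (x := ⟨y, h h2⟩)).mp h1)

/-- `K → K̄` -/
def onto (f : X →* Q) {K : Subgroup G} (h : K ≤ X) : K →* bar f K :=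
  (res f h).codRestrict _ fun k => mem_bar_of_mem f (x := inclusion h k) k.2

theorem onto_surj (f : X →* Q) {K : Subgroup G} (h : K ≤ X) : Function.Surjective (onto f h) := by
  rintro ⟨y, hy⟩
  obtain ⟨x, hx, rfl⟩ := (mem_bar f).mp hy
  exact ⟨⟨x, hx⟩, rfl⟩

theorem kerOf_onto (f : X →* Q) {K : Subgroup G} (h : K ≤ X) : kerOf (onto f h) = kerOf f ⊓ K := by
  rw [← kerOf_res f h]
  exact congrArg (Subgroup.map K.subtype) (MonoidHom.ker_codRestrict _ _ _)

theorem ty_of_bar [Finite Q] {T : ∀ (Q : Type u) [Group Q], Prop} (f : X →* Q) {K : Subgroup G}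
    (h : K ≤ X) (hk : kerOf f ⊓ K = OppOf 2 K) (hT : T (bar f K)) : Ty T K :=
  ⟨_, _, inferInstance, onto f h, onto_surj f h, (kerOf_onto f h).trans hk, hT⟩

theorem equiv_of_ker {K : Subgroup G} {Q' : Type u} [Group Q'] (f : K →* Q) (f' : K →* Q')
    (hf : Function.Surjective f) (hf' : Function.Surjective f') (h : kerOf f = kerOf f') :
    Nonempty (Q ≃* Q') := by
  have e : f.ker = f'.ker := by rw [← kerOf_subgroupOf, h, kerOf_subgroupOf]
  exact ⟨((QuotientGroup.quotientKerEquivOfSurjective f hf).symm.trans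
    (QuotientGroup.quotientMulEquivOfEq e)).trans (QuotientGroup.quotientKerEquivOfSurjective f' hf')⟩

theorem ty_iff {T : ∀ (Q : Type u) [Group Q], Prop}
    (hT : ∀ (A B : Type u) [Group A] [Group B] [Finite A], (A ≃* B) → T A → T B) [Finite Q]
    (f : X →* Q) {K : Subgroup G} (h : K ≤ X) (hk : kerOf f ⊓ K = OppOf 2 K) :
    Ty T K ↔ T (bar f K) := by
  refine ⟨fun ⟨Q', _, _, f', h1, h2, h3⟩ => ?_, ty_of_bar f h hk⟩
  obtain ⟨e⟩ := equiv_of_ker f' (onto f h) h1 (onto_surj f h) (by rw [h2, kerOf_onto, hk])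
  exact hT _ _ e h3

theorem tyA_iff [Finite Q] (f : X →* Q) {K : Subgroup G} (h : K ≤ X)
    (hk : kerOf f ⊓ K = OppOf 2 K) : Ty TA K ↔ TA (bar f K) :=
  ty_iff (fun _ _ _ _ _ e => TA_equiv e) f h hk
theorem tyB_iff [Finite Q] (f : X →* Q) {K : Subgroup G} (h : K ≤ X)
    (hk : kerOf f ⊓ K = OppOf 2 K) : Ty TB K ↔ TB (bar f K) :=
  ty_iff (fun _ _ _ _ _ e => TB_equiv e) f h hk
theorem tyC_iff [Finite Q] (f : X →* Q) {K : Subgroup G} (h : K ≤ X)
    (hk : kerOf f ⊓ K = OppOf 2 K) : Ty TC K ↔ TC (bar f K) :=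
  ty_iff (fun _ _ _ _ _ e => TC_equiv e) f h hk

variable [Finite G] {p : ℕ} [hp : Fact p.Prime]

theorem ker_res_le (f : X →* Q) {K R : Subgroup G} (hR : IsPGroup p R)
    (hf : ¬ p ∣ Nat.card (kerOf f)) (hn : R ≤ normalizer (K : Set G)) :
    kerOf f ⊓ (R ⊔ K) ≤ K := fun x hx => by
  refine mem_of_coprime_relIndex (sup_le hn (le_normalizer_of_le le_rfl)) hx.2 ?_
  rw [relIndex_sup_of_le_normalizer hn]
  obtain ⟨n, hn⟩ := IsPGroup.iff_card.mp hR
  exact ((coprime_orderOf_of_mem hf hx.1).pow_right n).of_dvd_right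
    (hn ▸ Dvd.intro_left _ (card_inf_mul_relIndex K R))

theorem bar_inf_cent (f : X →* Q) {K R : Subgroup G} (hR : IsPGroup p R) (hRX : R ≤ X)
    (hKX : K ≤ X) (hf : ¬ p ∣ Nat.card (kerOf f)) (hn : R ≤ normalizer (K : Set G)) :
    bar f (K ⊓ centralizer (R : Set G)) = bar f K ⊓ centralizer (bar f R : Set Q) := by
  have h := sup_le hRX hKX
  have := bar_inf_centralizer (res f h) (H := K) hR le_sup_left
    (by rw [kerOf_res]; exact not_dvd_card_of_le hf inf_le_left)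
    (by rw [kerOf_res]; exact ker_res_le f hR hf hn)
  rwa [bar_res f h (inf_le_left.trans le_sup_right), bar_res f h le_sup_right,
    bar_res f h le_sup_left] at this

theorem bar_inf_norm (f : X →* Q) {K R : Subgroup G} (hR : IsPGroup p R) (hRX : R ≤ X)
    (hKX : K ≤ X) (hf : ¬ p ∣ Nat.card (kerOf f)) (hn : R ≤ normalizer (K : Set G)) :
    bar f (K ⊓ normalizer (R : Set G)) = bar f K ⊓ normalizer (bar f R : Set Q) := by
  have h := sup_le hRX hKX
  have := bar_inf_normalizer (res f h) (H := K) hR le_sup_left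
    (by rw [kerOf_res]; exact not_dvd_card_of_le hf inf_le_left)
    (by rw [kerOf_res]; exact ker_res_le f hR hf hn)
  rwa [bar_res f h (inf_le_left.trans le_sup_right), bar_res f h le_sup_right,
    bar_res f h le_sup_left] at this

end bar

section split

variable {G : Type u} [Group G] [Finite G]

theorem exists_inv {S : Subgroup G} (hS : IsPGroup 2 S) (h : S ≠ ⊥) : ∃ z ∈ S, orderOf z = 2 := by
  obtain ⟨z, hz⟩ := exists_prime_orderOf_dvd_card' (G := S) 2 (dvd_card_of_isPGroup_of_ne_bot hS h)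
  exact ⟨z, z.2, by rw [← hz]; exact (Subgroup.orderOf_coe z)⟩

theorem fuse (hA : AG G) {S : Subgroup G} (hS : IsSyl 2 S ⊤) {x g : G} (hx : x ∈ S)
    (hg : g * x * g⁻¹ ∈ S) : ∃ k ∈ normalizer (S : Set G), k * x * k⁻¹ = g * x * g⁻¹ := by
  obtain ⟨P, rfl⟩ := hS.exists_sylow_top
  haveI := hA.isMulCommutative hS.isPGroup
  exact Transfer.control_of_abelian_sylow P x hx g hg

theorem split0 (hA : AG G) {L S : Subgroup G} (hL : QS L) (hS : IsSyl 2 S ⊤) (hn : L.Normal)
    (ht : L ⊔ S = ⊤) (hc : centralizer (L : Set G) = ⊥) : S ≤ L := by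
  have hf := fun (x g : G) => fuse hA hS (x := x) (g := g)
  obtain ⟨P, rfl⟩ := hS.exists_sylow_top
  haveI := hA.isMulCommutative hS.isPGroup
  have hle : (P : Subgroup G) ≤ normalizer ((P : Subgroup G) : Set G) := le_normalizer
  rw [← (Transfer.commutator_sup_centralizer_of_abelian hle le_rfl
    (Transfer.coprime_card_sylow_relIndex P hle)).1]
  have Ln : ∀ A : Subgroup G, A ≤ normalizer (L : Set G) := fun A => le_normalizer_of_normal
  refine sup_le ?_ (le_trans (le_of_eq ?_) bot_le)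
  · refine (commutator_mono le_rfl le_top).trans ?_
    rw [commutator_comm, ← ht]
    refine commutator_sup_left_le (commutator_le_of_le_normalizer_left (Ln _)) ?_ (Ln _)
    rw [commutator_eq_bot_iff_le_centralizer.mpr (hA.le_centralizer hS.isPGroup le_rfl le_rfl)]
    exact bot_le
  · by_contra h1
    obtain ⟨z, hz, z2⟩ := exists_inv (hS.isPGroup.to_le inf_le_left) h1
    obtain ⟨N, hN, hNo, hz'⟩ := Char.zstar_of_sylow P z2 fun g hg => by
      obtain ⟨k, hk, e⟩ := hf z g hz.1 hg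
      rw [← e, mem_centralizer_iff.mp hz.2 k hk]; group
    have hNL : N ⊓ L = ⊥ := by
      rcases hL.dichotomy (N ⊓ L) inf_le_right
        (le_normalizer_inf le_normalizer_of_normal (Ln _)) with e | e
      · exact le_bot_iff.mp (hc ▸ e)
      · exact (hL.not_isSolvable (solv_of_odd (not_dvd_card_of_le
          ((Nat.not_even_iff_odd.mpr hNo) ∘ even_iff_two_dvd.mpr) (e ▸ inf_le_left)))).elim
    have : z ∈ centralizer (L : Set G) := mem_centralizer_iff.mpr fun g hg => by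
      have h2 : z * g * z⁻¹ * g⁻¹ ∈ N ⊓ L :=
        mem_inf.mpr ⟨hz' g, mul_mem (hn.conj_mem g hg z) (inv_mem hg)⟩
      rw [hNL, mem_bot] at h2
      calc g * z = (z * g * z⁻¹ * g⁻¹) * (g * z) := by rw [h2, one_mul]
        _ = z * g := by group
    rw [hc, mem_bot] at this
    simp [this] at z2

/-- a Sylow 2-subgroup induces inner automorphisms -/
theorem split1 (hA : AG G) {L S : Subgroup G} (hL : QS L) (hS : IsSyl 2 S (L ⊔ S))
    (hn : S ≤ normalizer (L : Set G)) {s : G} (hs : s ∈ S) :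
    ∃ v ∈ S ⊓ L, ∃ c ∈ S ⊓ centralizer (L : Set G), s = v * c := by
  have hY : L ⊔ S ≤ normalizer (L : Set G) := sup_le le_normalizer hn
  have hZ := hA.inf_centralizer_of_perfect hL.perfect
  obtain ⟨R, _, _, f, hf, hk, -⟩ := exists_bar (N := (L ⊔ S) ⊓ centralizer (L : Set G)) inf_le_left
    (le_normalizer_inf le_normalizer (le_normalizer_centralizer hY))
  have h1 : bar f S ≤ bar f L := by
    refine split0 (hA.bar f hf) (hL.bar f le_sup_left fun e => hL.not_le_centralizer ?_)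
      (bar_self f hf ▸ hS.bar f le_rfl)
      (normal_of_le_normalizer_top (bar_self f hf ▸ bar_le_normalizer f hY))
      (by rw [← bar_sup f le_sup_left le_sup_right, bar_self f hf]) (eq_bot_iff.mpr fun y hy => ?_)
    · exact e.trans (hk ▸ inf_le_right)
    · obtain ⟨x, rfl⟩ := hf y
      rw [mem_bot, ← mem_kerOf, hk]
      refine ⟨x.2, mem_centralizer_iff.mpr fun l hl => ?_⟩
      have h2 : l * (x * l⁻¹ * (x : G)⁻¹) ∈ L := mul_mem hl (conj_mem_of_mem_normalizer (hY x.2) (inv_mem hl))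
      have h3 := mem_centralizer_iff.mp hy _ (mem_bar_of_mem f (x := ⟨l, mem_sup_left hl⟩) hl)
      have h4 : f (⟨l, mem_sup_left hl⟩ * (x * ⟨l, mem_sup_left hl⟩⁻¹ * x⁻¹)) = 1 := by
        simp only [map_mul, map_inv, ← mul_assoc, h3]; group
      rw [← mem_kerOf, hk] at h4
      have h5 : l * (x * l⁻¹ * (x : G)⁻¹) ∈ L ⊓ centralizer (L : Set G) := ⟨h2, h4.2⟩
      rw [hZ, mem_bot] at h5
      calc l * x = (l * (x * l⁻¹ * (x : G)⁻¹)) * (x * l) := by group
        _ = x * l := by rw [h5, one_mul]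
  rw [bar_le_bar_iff f le_sup_right le_sup_left, hk] at h1
  obtain ⟨v, hv, c, hc, e⟩ := (mem_sup_of_le_normalizer_right (le_sup_left.trans
    (le_normalizer_inf le_normalizer (le_normalizer_centralizer hY)))).mp (h1 hs)
  have vc : Commute v c := mem_centralizer_iff.mp hc.2 v hv
  have hT := hS.inf_normal le_sup_left hY
  have vS : v ∈ S ⊓ L := by
    obtain ⟨k, hk⟩ := pow_eq_one_of_isPGroup hS.isPGroup hs
    rw [← e, vc.mul_pow] at hk
    have h2 : v ^ 2 ^ k ∈ L ⊓ centralizer (L : Set G) :=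
      mem_inf.mpr ⟨pow_mem hv _, by
        rw [eq_inv_of_mul_eq_one_left hk]; exact inv_mem (pow_mem (mem_inf.mp hc).2 _)⟩
    rw [hZ, mem_bot] at h2
    refine zpowers_le.mp (hT.le_of_le_normalizer' (isPGroup_zpowers h2) (zpowers_le_of_mem hv)
      (zpowers_le_of_mem (le_normalizer_of_le_centralizer le_rfl ?_)))
    rw [eq_mul_inv_of_mul_eq e]
    exact mul_mem (hA.le_centralizer hS.isPGroup le_rfl inf_le_left hs)
      (inv_mem (centralizer_le_centralizer inf_le_right hc.2))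
  exact ⟨v, vS, c, mem_inf.mpr ⟨by
    rw [eq_inv_mul_of_mul_eq e]; exact mul_mem (inv_mem (mem_inf.mp vS).1) hs, hc.2⟩, e.symm⟩

/-- criterion for strong embedding -/
theorem se (hA : AG G) {S M : Subgroup G} (hS : IsSyl 2 S ⊤) (h0 : S ≠ ⊥) (hM : M ≠ ⊤)
    (h1 : normalizer (S : Set G) ≤ M) (h2 : ∀ a ∈ S, a ≠ 1 → centralizer {a} ≤ M) :
    Cfsg.IsStronglyEmbedded M := by
  have hS' : IsSyl 2 S M := hS.mono (le_normalizer.trans h1) le_top
  have k : ∀ t ∈ M, orderOf t = 2 → ∃ m ∈ M, m * t * m⁻¹ ∈ S := fun t ht t2 => by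
    obtain ⟨m, hm, e⟩ := hS'.exists_conj_le (isPGroup_zpowers (k := 1) (x := t)
      (by rw [pow_one, ← t2, pow_orderOf_eq_one])) (zpowers_le.2 ht)
    exact ⟨m, hm, map_conj_le_iff.1 e t (mem_zpowers t)⟩
  refine Invol.isStronglyEmbedded_iff.2 ⟨hM, ?_, fun g t ht t2 hg => ?_⟩
  · exact even_iff_two_dvd.2 ((dvd_card_of_isPGroup_of_ne_bot hS.isPGroup h0).trans
      (card_dvd_of_le hS'.le))
  obtain ⟨m, hm, e⟩ := k t ht t2
  obtain ⟨m', hm', e'⟩ := k _ hg (by rw [← t2]; exact (MulAut.conj g).orderOf_eq t)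
  obtain ⟨n, hn, e2⟩ := fuse hA hS e (g := m' * g * m⁻¹) (by convert e' using 1; group)
  have := h2 (m * t * m⁻¹) e (fun e => by simp at e; simp [e] at t2)
    (x := n⁻¹ * (m' * g * m⁻¹)) (mem_centralizer_singleton_iff.2 (by
      calc _ = n⁻¹ * (m' * g * m⁻¹ * (m * t * m⁻¹) * (m' * g * m⁻¹)⁻¹) * (m' * g * m⁻¹) := by group
        _ = _ := by rw [← e2]; group))
  simpa [mul_assoc] using mul_mem (mul_mem (inv_mem hm') (mul_mem (h1 hn) this)) hm

/-! core-free groups -/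

theorem comp_norm (hA : AG G) (hO : OppOf 2 (⊤ : Subgroup G) = ⊥) {S L : Subgroup G}
    (hS : IsSyl 2 S ⊤) (hL : Comp ⊤ L) : S ≤ normalizer (L : Set G) := fun s hs => by
  have hT := (hS.inf_subn hL.subn).ne_bot (hL.dvd_card_of_OppOf_eq_bot hO)
  have h1 := hL.conj (g := s) (by rw [normalizer_eq_top]; trivial)
  rw [← map_conj_eq_iff]
  by_contra e
  refine hT (eq_bot_iff.mpr fun x hx => ?_)
  rw [← hA.inf_centralizer_of_perfect hL.qs.perfect]
  refine ⟨hx.2, h1.le_centralizer_of_ne hL e (mem_map_conj.mpr ?_)⟩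
  rw [mul_assoc, hA.comm hS.isPGroup hx.1 hs, inv_mul_cancel_left]; exact hx.2

theorem comp_split (hA : AG G) (hO : OppOf 2 (⊤ : Subgroup G) = ⊥) {S L : Subgroup G}
    (hS : IsSyl 2 S ⊤) (hL : Comp ⊤ L) {s : G} (hs : s ∈ S) :
    ∃ v ∈ S ⊓ L, ∃ c ∈ S ⊓ centralizer (L : Set G), s = v * c :=
  split1 hA hL.qs (hS.mono le_sup_right le_top) (comp_norm hA hO hS hL) hs

theorem le_Op_of_cent (hO : OppOf 2 (⊤ : Subgroup G) = ⊥) {X : Subgroup G}
    (h1 : ∀ L : Subgroup G, Comp ⊤ L → X ≤ centralizer (L : Set G))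
    (h2 : X ≤ centralizer (OpOf 2 (⊤ : Subgroup G) : Set G)) : X ≤ OpOf 2 ⊤ := by
  rw [← fittingOf_eq_OpOf hO] at h2 ⊢
  exact le_fittingOf_of_le_centralizer le_top
    (le_centralizer_iff.mp (EOf_le_iff.mpr fun L hL => le_centralizer_iff.mp (h1 L hL))) h2

/-- `S` is generated by its intersections with the components and `O₂` -/
theorem syl_le (hA : AG G) (hO : OppOf 2 (⊤ : Subgroup G) = ⊥) {S W : Subgroup G}
    (hS : IsSyl 2 S ⊤) (h1 : ∀ L, Comp ⊤ L → S ⊓ L ≤ W) (h2 : OpOf 2 ⊤ ≤ W) : S ≤ W := by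
  intro s hs
  induction hn : {J : Subgroup G | Comp ⊤ J ∧ s ∉ centralizer (J : Set G)}.ncard
    using Nat.strong_induction_on generalizing s with
  | _ n ih =>
  by_cases h : ∃ L : Subgroup G, Comp ⊤ L ∧ s ∉ centralizer (L : Set G)
  · obtain ⟨L, hL, hsL⟩ := h
    obtain ⟨v, hv, c, hc, e⟩ := comp_split hA hO hS hL hs
    rw [e]
    refine mul_mem (h1 L hL hv) (ih _ ?_ hc.1 rfl)
    rw [← hn]
    refine Set.ncard_lt_ncard ⟨fun J hJ => ⟨hJ.1, fun h3 => hJ.2 ?_⟩, fun h3 => (h3 ⟨hL, hsL⟩).2 hc.2⟩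
      (Set.toFinite _)
    by_cases e1 : L = J
    · exact e1 ▸ hc.2
    · rw [eq_inv_mul_of_mul_eq e.symm]
      exact mul_mem (inv_mem (hL.le_centralizer_of_ne hJ.1 e1 hv.2)) h3
  · push Not at h
    exact h2 (zpowers_le.mp (le_Op_of_cent hO (fun L hL => zpowers_le_of_mem (h L hL))
      (hA.le_centralizer hS.isPGroup (zpowers_le_of_mem hs) (OpOf_le_of_isSyl hS))))

end split

end Cfsg.Agent.Lib.AG.St1
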