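/-
A-groups project (S2554): tori of `L₂(q)`.
-/
import Cfsg.Agent.Lib.AG.Zas
import Cfsg.Agent.Lib.Hall.PSL2b

set_option autoImplicit false

namespace Cfsg.Agent.Lib.AG

open Subgroup Matrix Cfsg.Agent.Lib.HallPSL

namespace Tor
variable {F : Type*} [Field F] [Fintype F] (h2 : (2 : F) ≠ 0) {δ : F} (hδ : δ ≠ 0)
include h2 hδ

theorem card_conic : Nat.card {v : F × F // v.1 ^ 2 - δ * v.2 ^ 2 = 1} = Fintype.card F + 1 ∨
    Nat.card {v : F × F // v.1 ^ 2 - δ * v.2 ^ 2 = 1} + 1 = Fintype.card F := by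
  by_cases hs : ∃ ι, ι ^ 2 = δ
  · obtain ⟨ι, rfl⟩ := hs
    have i0 : ι ≠ 0 := fun e => hδ (by simp [e])
    right
    rw [← Nat.card_eq_fintype_card, Nat.card_eq_card_units_add_one F]
    congr 1
    refine Nat.card_congr (Equiv.ofBijective (fun v => Units.mkOfMulEqOne (v.1.1 + ι * v.1.2)
      (v.1.1 - ι * v.1.2) (by linear_combination v.2)) ⟨fun v w h => ?_, fun u => ?_⟩)
    · have h1 : v.1.1 + ι * v.1.2 = w.1.1 + ι * w.1.2 := congrArg Units.val h
      have h3 : v.1.1 - ι * v.1.2 = w.1.1 - ι * w.1.2 := congrArg Units.inv h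
      exact Subtype.ext (Prod.ext (mul_left_cancel₀ h2 (by linear_combination h1 + h3))
        (mul_left_cancel₀ (mul_ne_zero h2 i0) (by linear_combination h1 - h3)))
    · have := u.ne_zero
      refine ⟨⟨((u + (u : F)⁻¹) / 2, (u - (u : F)⁻¹) / (2 * ι)), ?_⟩, Units.ext ?_⟩
      · field_simp; ring
      · simp only [Units.val_mkOfMulEqOne]
        field_simp; ring
  · have hι : ∀ t : F, 1 - δ * t ^ 2 ≠ 0 := fun t h => hs ⟨t⁻¹, by
      have : t ≠ 0 := fun e => by simp [e] at h
      field_simp; linear_combination h⟩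
    left
    rw [← Fintype.card_option, ← Nat.card_eq_fintype_card]
    symm
    refine Nat.card_congr (Equiv.ofBijective (fun o => match o with
      | none => ⟨(-1, 0), by ring⟩
      | some t => ⟨((1 + δ * t ^ 2) / (1 - δ * t ^ 2), 2 * t / (1 - δ * t ^ 2)), by
          have := hι t
          field_simp; ring⟩) ⟨?_, fun v => ?_⟩)
    · have key : ∀ t : F, (1 + δ * t ^ 2) / (1 - δ * t ^ 2) ≠ -1 := fun t h => by
        have := hι t
        field_simp at h
        exact h2 (by linear_combination h)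
      rintro (_ | s) (_ | t) h
      · rfl
      · exact absurd (congrArg (fun v => v.1.1) h).symm (key t)
      · exact absurd (congrArg (fun v => v.1.1) h) (key s)
      · have e1 : (1 + δ * s ^ 2) / (1 - δ * s ^ 2) = (1 + δ * t ^ 2) / (1 - δ * t ^ 2) := congrArg (fun v => v.1.1) h
        have e2 : 2 * s / (1 - δ * s ^ 2) = 2 * t / (1 - δ * t ^ 2) := congrArg (fun v => v.1.2) h
        rw [div_eq_div_iff (hι s) (hι t)] at e1 e2
        have e3 : δ * s ^ 2 = δ * t ^ 2 := mul_left_cancel₀ h2 (by linear_combination e1)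
        rw [e3] at e2
        rw [mul_left_cancel₀ h2 (mul_right_cancel₀ (hι t) e2)]
    · obtain ⟨⟨a, b⟩, h⟩ := v
      simp only at h
      by_cases ha : a + 1 = 0
      · have : δ * b ^ 2 = 0 := by linear_combination (a - 1) * ha - h
        refine ⟨none, Subtype.ext (Prod.ext (by simp only; linear_combination -ha) ?_)⟩
        exact (pow_eq_zero_iff two_ne_zero).1 ((mul_eq_zero.1 this).resolve_left hδ) |>.symm
      · have e : 1 - δ * (b / (a + 1)) ^ 2 = 2 / (a + 1) := by field_simp; linear_combination h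
        refine ⟨some (b / (a + 1)), Subtype.ext (Prod.ext ?_ ?_)⟩ <;> simp only [e] <;> field_simp
        linear_combination -h

theorem univ (e : F) : ∃ x y : F, x ^ 2 - δ * y ^ 2 = e := by
  classical
  obtain ⟨x, y, h⟩ := FiniteField.exists_root_sum_quadratic (f := Polynomial.X ^ 2 - Polynomial.C e)
    (g := Polynomial.C (-δ) * Polynomial.X ^ 2) (Polynomial.degree_X_pow_sub_C two_pos e)
    (Polynomial.degree_C_mul_X_pow 2 (neg_ne_zero.2 hδ))
    (FiniteField.odd_card_of_char_ne_two fun e => h2 (by simpa [e] using ringChar.Nat.cast_ringChar (R := F)))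
  exact ⟨x, y, by simp at h; linear_combination h⟩

theorem sl (Z : SL2 F) (hZ : Z.1.trace ^ 2 - 4 = 4 * δ) : IsCyclic (centralizer ({Z} : Set (SL2 F))) ∧
    (Nat.card (centralizer ({Z} : Set (SL2 F))) = Fintype.card F + 1 ∨
      Nat.card (centralizer ({Z} : Set (SL2 F))) + 1 = Fintype.card F) ∧
    ∃ J : SL2 F, J.1.trace = 0 ∧ (J * Z).1.trace = 0 := by
  obtain ⟨τ, a, b, c, hM, rfl⟩ : ∃ τ a b c, Z.1 = !![τ + a, b; c, τ - a] ∧ δ = a ^ 2 + b * c :=
    ⟨(Z.1 0 0 + Z.1 1 1) / 2, (Z.1 0 0 - Z.1 1 1) / 2, Z.1 0 1, Z.1 1 0, by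
      ext i j; fin_cases i <;> fin_cases j <;> simp <;> field_simp <;> ring, by
      have := Z.2
      rw [det_fin_two] at this
      rw [trace_fin_two] at hZ
      field_simp
      linear_combination 4 * this - hZ⟩
  let m : F → F → Matrix (Fin 2) (Fin 2) F := fun x y => !![x + y * a, y * b; y * c, x - y * a]
  let X : Matrix (Fin 2) (Fin 2) F → F := fun M => (M 0 0 + M 1 1) / 2
  let Y : Matrix (Fin 2) (Fin 2) F → F := fun M =>
    ((M 0 0 - M 1 1) * a + M 0 1 * c + M 1 0 * b) / (2 * (a ^ 2 + b * c))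
  have hX : ∀ x y, X (m x y) = x := fun x y => by simp [X, m]; field_simp; ring
  have hY : ∀ x y, Y (m x y) = y := fun x y => by simp [Y, m]; field_simp; ring
  have hd : ∀ x y, (m x y).det = x ^ 2 - (a ^ 2 + b * c) * y ^ 2 := fun x y => by simp [m, det_fin_two]; ring
  have hm : ∀ x y x' y', m x y * m x' y' = m (x * x' + (a ^ 2 + b * c) * y * y') (x * y' + x' * y) := fun x y x' y' => by
    ext i j; fin_cases i <;> fin_cases j <;> simp [m] <;> ring
  have h1 : m 1 0 = 1 := by ext i j; fin_cases i <;> fin_cases j <;> simp [m]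
  have hZ1 : Z.1 = m τ 1 := by simp [hM, m]
  have rep : ∀ g : centralizer ({Z} : Set (SL2 F)), ∃ x y, g.1.1 = m x y ∧ x ^ 2 - (a ^ 2 + b * c) * y ^ 2 = 1 := fun g => by
    have e : g.1.1 * Z.1 = Z.1 * g.1.1 := congrArg (·.1) (mem_centralizer_singleton_iff.1 g.2)
    have e0 := congrFun (congrFun e 0) 0
    have e1 := congrFun (congrFun e 0) 1
    have e2 := congrFun (congrFun e 1) 0
    simp [hM, Matrix.mul_apply, Fin.sum_univ_two] at e0 e1 e2
    have k0 : Y g.1.1 * a = (g.1.1 0 0 - g.1.1 1 1) / 2 := by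
      rw [div_mul_eq_mul_div, div_eq_div_iff (mul_ne_zero h2 hδ) h2]; linear_combination b * e2 - c * e1
    have k1 : Y g.1.1 * b = g.1.1 0 1 := by
      rw [div_mul_eq_mul_div, div_eq_iff (mul_ne_zero h2 hδ)]; linear_combination a * e1 - b * e0
    have k2 : Y g.1.1 * c = g.1.1 1 0 := by
      rw [div_mul_eq_mul_div, div_eq_iff (mul_ne_zero h2 hδ)]; linear_combination c * e0 - a * e2
    have : g.1.1 = m (X g.1.1) (Y g.1.1) := by
      ext i j; fin_cases i <;> fin_cases j <;> simp [m, X, k0, k1, k2] <;> field_simp <;> ring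
    exact ⟨_, _, this, by rw [← hd, ← this, g.1.2]⟩
  refine ⟨?_, ?_, ?_⟩
  · obtain ⟨l, hl⟩ := IsAlgClosed.exists_pow_nat_eq (algebraMap F (AlgebraicClosure F) (a ^ 2 + b * c)) two_pos
    let f : centralizer ({Z} : Set (SL2 F)) →* AlgebraicClosure F :=
      { toFun := fun g => algebraMap F _ (X g.1.1) + algebraMap F _ (Y g.1.1) * l
        map_one' := by
          change algebraMap F _ (X 1) + algebraMap F _ (Y 1) * l = 1
          rw [← h1, hX, hY]; simp
        map_mul' := fun g g' => by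
          obtain ⟨x, y, e, -⟩ := rep g
          obtain ⟨x', y', e', -⟩ := rep g'
          change algebraMap F _ (X (g.1.1 * g'.1.1)) + algebraMap F _ (Y (g.1.1 * g'.1.1)) * l = _
          simp only [e, e', hm, hX, hY, map_add _ (x * x'), map_add _ (x * y'), map_mul _ _ y', map_mul _ _ y, map_mul _ x, ← hl]
          ring }
    refine isCyclic_of_injective_ringHom f ((injective_iff_map_eq_one f).2 fun g hg => ?_)
    obtain ⟨x, y, e, d⟩ := rep g
    replace hg : algebraMap F _ (X g.1.1) + algebraMap F _ (Y g.1.1) * l = 1 := hg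
    rw [e, hX, hY] at hg
    have d' := congrArg (algebraMap F (AlgebraicClosure F)) d
    rw [map_sub, map_mul, ← hl, map_pow, map_pow, map_one] at d'
    have hx : x = 1 := mul_left_cancel₀ h2 ((algebraMap F (AlgebraicClosure F)).injective (by
      rw [map_mul, map_mul, map_one, map_ofNat]
      linear_combination d' + (1 + algebraMap F _ y * l - algebraMap F _ x) * hg))
    have hy : y = 0 := by
      rw [hx] at d
      simpa [hδ] using d
    exact Subtype.ext (Subtype.ext (by rw [e, hx, hy, h1]; rfl))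
  · have : Nat.card {v : F × F // v.1 ^ 2 - (a ^ 2 + b * c) * v.2 ^ 2 = 1} =
        Nat.card (centralizer ({Z} : Set (SL2 F))) := Nat.card_congr (Equiv.ofBijective
      (fun v => ⟨⟨m v.1.1 v.1.2, (hd _ _).trans v.2⟩, mem_centralizer_singleton_iff.2 (Subtype.ext (by
        change m _ _ * Z.1 = Z.1 * m _ _
        rw [hZ1, hm, hm]; congr 1 <;> ring))⟩) ⟨fun v w h => ?_, fun g => ?_⟩)
    · exact this ▸ card_conic h2 hδ
    · have e : m v.1.1 v.1.2 = m w.1.1 w.1.2 := congrArg (·.1.1) h
      exact Subtype.ext (Prod.ext (by simpa only [hX] using congrArg X e) (by simpa only [hY] using congrArg Y e))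
    · obtain ⟨x, y, e, d⟩ := rep g
      exact ⟨⟨(x, y), d⟩, Subtype.ext (Subtype.ext e.symm)⟩
  · suffices ∃ r s u : F, r ^ 2 + s * u = -1 ∧ 2 * r * a + s * c + u * b = 0 by
      obtain ⟨r, s, u, e1, e2⟩ := this
      refine ⟨⟨!![r, s; u, -r], by rw [det_fin_two_of]; linear_combination -e1⟩, by simp, ?_⟩
      change (!![r, s; u, -r] * Z.1).trace = 0
      rw [hM]
      simp
      linear_combination e2
    by_cases hc : c = 0
    · by_cases hb : b = 0
      · exact ⟨0, 1, -1, by ring, by simp [hb, hc]⟩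
      · obtain ⟨x, y, e⟩ := univ h2 hδ (-b ^ 2)
        exact ⟨(x + a * y) / b, y, -(2 * (x + a * y) * a / b + y * c) / b, by field_simp; linear_combination e,
          by field_simp; ring⟩
    · obtain ⟨x, y, e⟩ := univ h2 hδ (-c ^ 2)
      exact ⟨(x + a * y) / c, -(2 * (x + a * y) * a / c + y * b) / c, y, by field_simp; linear_combination e,
        by field_simp; ring⟩

end Tor

variable {G : Type*} [Group G] [Finite G]

theorem ZS.tor {Q D : Subgroup G} {p q : ℕ} {j : G} (h : ZS Q D p q j) {z : G} (z1 : z ≠ 1)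
    (hz : (orderOf z).Coprime (2 * p)) : IsCyclic (centralizer ({z} : Set G)) ∧
    (2 * Nat.card (centralizer ({z} : Set G)) = q + 1 ∨
      2 * Nat.card (centralizer ({z} : Set G)) + 1 = q) ∧
    ∃ i : G, i * i = 1 ∧ i ≠ 1 ∧ i * z * i = z⁻¹ := by
  obtain ⟨F, _, _, hF, ⟨e⟩⟩ := h.iso
  have := Fact.mk h.prime
  have np : ∀ n, n ∣ 2 * p → z ^ n ≠ 1 := fun n hn e => z1 (orderOf_eq_one_iff.1
    (Nat.Coprime.eq_one_of_dvd hz ((orderOf_dvd_of_pow_eq_one e).trans hn)))
  have hq : ((q : ℕ) : F) = 0 := hF ▸ FiniteField.cast_card_eq_zero F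
  have h2 : (2 : F) ≠ 0 := fun e => by
    have := h.q8
    obtain ⟨k, hk⟩ : ∃ k, q = 2 * k + 1 := ⟨q / 2, by omega⟩
    simp [hk, e] at hq
  obtain ⟨n, hn⟩ := IsPGroup.iff_card.1 (Core.isPGroup_of_forall_pow fun x hx => ⟨1, by simpa using h.expQ x hx⟩)
  have : CharP F p := (CharP.charP_iff_prime_eq_zero h.prime).2 (by
    rw [← h.cardQ, hn, Nat.cast_pow] at hq
    exact eq_zero_of_pow_eq_zero hq)
  let f : SL2 F →* G := e.symm.toMonoidHom.comp pr
  have fs : Function.Surjective f := e.symm.surjective.comp pr_surj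
  have fe : ∀ {A B}, f A = f B ↔ pr A = pr B := e.symm.injective.eq_iff
  have f1 : ∀ A : SL2 F, A.1.trace = 0 → f A * f A = 1 := fun A hA => by
    rw [← map_mul, ← map_one f, fe, map_one, pr_eq_one_iff, val_mul, ch2, hA, A.2]; simp
  obtain ⟨Z, rfl⟩ := fs z
  have t0 : Z.1.trace ≠ 0 := fun e => np 2 (dvd_mul_right _ _) (by rw [pow_two, f1 Z e])
  have h4 : (4 : F) ≠ 0 := by simpa [← two_mul, show (4 : F) = 2 * 2 by norm_num] using h2
  have hδ : (Z.1.trace ^ 2 - 4) / 4 ≠ 0 := div_ne_zero (fun e => np p (dvd_mul_left _ _) (by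
    have e1 : (Z.1 - (Z.1.trace / 2) • 1) ^ 2 = 0 := by
      rw [pow_two, ch2]
      have := Z.2
      rw [det_fin_two] at this
      rw [trace_fin_two] at e
      simp only [trace_fin_two, det_fin_two]
      simp
      rw [show ∀ a b : F, a - (a + b) / 2 + (b - (a + b) / 2) = 0 from fun a b => by field_simp; ring, zero_smul, zero_sub,
        neg_eq_zero, smul_eq_zero]
      left; field_simp; linear_combination 4 * this - e
    rw [← map_pow, ← map_one f, fe, map_one]
    refine pr_smul_one (c := (Z.1.trace / 2) ^ p) ?_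
    change Z.1 ^ p = _
    conv_lhs => rw [← sub_add_cancel Z.1 ((Z.1.trace / 2) • 1)]
    rw [add_pow_char_of_commute _ ((Commute.one_right _).smul_right _), pow_eq_zero_of_le h.prime.two_le e1, zero_add,
      smul_pow, one_pow])) h4
  obtain ⟨c1, c2, J, j1, j2⟩ := Tor.sl h2 hδ Z (by field_simp)
  have hC : (centralizer ({f Z} : Set G)).comap f = centralizer {Z} := by
    ext g
    rw [mem_comap, mem_centralizer_singleton_iff, mem_centralizer_singleton_iff, ← map_mul, ← map_mul, fe, pr_eq_iff]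
    refine ⟨fun h => Subtype.ext (h.resolve_right fun h => t0 ?_), fun h => .inl (congrArg Subtype.val h)⟩
    have e1 : (g * Z * g⁻¹).1 = -Z.1 := by
      rw [val_mul, h, neg_mul, ← val_mul, mul_inv_cancel_right]
    have := congrArg trace e1
    rw [val_mul, trace_mul_comm, ← val_mul, ← mul_assoc, inv_mul_cancel, one_mul, trace_neg] at this
    exact mul_left_cancel₀ h2 (by linear_combination this)
  rw [← hC] at c1 c2
  refine ⟨isCyclic_of_surjective _ (f.subgroupComap_surjective_of_surjective _ fs), ?_, f J, f1 J j1, fun e => ?_, ?_⟩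
  · have e1 := (centralizer ({f Z} : Set G)).card_mul_index
    have e2 := ((centralizer ({f Z} : Set G)).comap f).card_mul_index
    rw [index_comap_of_surjective _ fs, card_SL2, hF, ← h.cardG, ← e1, ← mul_assoc] at e2
    rw [← Nat.eq_of_mul_eq_mul_right (Nat.pos_of_ne_zero index_ne_zero_of_finite) e2, ← hF]
    exact c2
  · exact np 2 (dvd_mul_right _ _) (by simpa [e, pow_two] using f1 _ j2)
  · rw [← mul_eq_one_iff_eq_inv, mul_assoc, ← map_mul, f1 _ j2]

end Cfsg.Agent.Lib.AG
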